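import Mathlib
import Groth.Agent.Lib.NagataFP.Global

/-!
# The vocabulary of the flatness criterion by associated points of the fibre
-/

set_option autoImplicit false
set_option backward.isDefEq.respectTransparency false
set_option linter.style.haveILetI false
set_option maxHeartbeats 800000

universe u

open TensorProduct

namespace GrothLib.RG6

section Defs

variable (R : Type u) {A : Type u} [CommRing R] [CommRing A] [Algebra R A]
  {M : Type u} [AddCommGroup M] [Module A M] [Module R M]

/-- The element vanishes in the fibre at the point. -/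
def FibZero (q : Ideal A) (n : M) : Prop :=
  ∃ u ∉ q, u • n ∈ (q.comap (algebraMap R A)) • (⊤ : Submodule R M)

variable (M)

/-- The point is not an associated point of the fibre. -/
def NotAssFib (q : Ideal A) : Prop :=
  ∀ n : M, (∀ s ∈ q, FibZero R q (s • n)) → FibZero R q n

/-- Flatness at the proper generizations within the fibre. -/
def PunctFlat [IsScalarTower R A M] (q : Ideal A) : Prop :=
  ∀ (q' : Ideal A) [q'.IsPrime], q' < q → q'.comap (algebraMap R A) = q.comap (algebraMap R A) →
    Module.Flat R (LocalizedModule q'.primeCompl M)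

variable (A)

/-- The statement of the criterion. -/
def CritAt : Prop :=
  ∀ (M : Type u) [AddCommGroup M] [Module A M] [Module R M] [IsScalarTower R A M] [Module.Finite A M]
    (q : Ideal A) [q.IsPrime], PunctFlat R M q → NotAssFib R M q → Module.Flat R (LocalizedModule q.primeCompl M)

end Defs

variable {R A : Type u} [CommRing R] [CommRing A] [Algebra R A]
  {M : Type u} [AddCommGroup M] [Module A M] [Module R M] [IsScalarTower R A M]

/-- The multiples of the module by an ideal of the base are stable under the algebra. -/
theorem smul_mem_smul_top (I : Ideal R) {n : M} (hn : n ∈ I • (⊤ : Submodule R M)) (a : A) :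
    a • n ∈ I • (⊤ : Submodule R M) := by
  refine Submodule.smul_induction_on hn (fun c hc m _ => ?_) fun x y hx hy => by rw [smul_add]; exact add_mem hx hy
  rw [smul_comm]
  exact Submodule.smul_mem_smul hc trivial

/-- Elements of the extended ideal multiply into the multiples of the module. -/
theorem smul_mem_of_mem_map (I : Ideal R) {a : A} (ha : a ∈ I.map (algebraMap R A)) (n : M) :
    a • n ∈ I • (⊤ : Submodule R M) := by
  rw [Ideal.map, ← SetLike.mem_coe] at ha
  induction ha using Submodule.span_induction with
  | mem x hx =>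
    obtain ⟨c, hc, rfl⟩ := hx
    rw [algebraMap_smul]
    exact Submodule.smul_mem_smul hc trivial
  | zero => rw [zero_smul]; exact zero_mem _
  | add x y _ _ hx hy => rw [add_smul]; exact add_mem hx hy
  | smul c x _ hx => rw [smul_assoc]; exact smul_mem_smul_top I hx c

namespace FibZero

variable {q : Ideal A} [q.IsPrime] {n m : M}

theorem of_mem (h : n ∈ (q.comap (algebraMap R A)) • (⊤ : Submodule R M)) : FibZero R q n :=
  ⟨1, fun h' => ‹q.IsPrime›.ne_top ((Ideal.eq_top_iff_one _).2 h'), by rwa [one_smul]⟩

theorem zero : FibZero R q (0 : M) :=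
  of_mem (zero_mem _)

theorem add (hn : FibZero R q n) (hm : FibZero R q m) : FibZero R q (n + m) := by
  obtain ⟨u, hu, hn⟩ := hn
  obtain ⟨v, hv, hm⟩ := hm
  refine ⟨u * v, fun h => (‹q.IsPrime›.mem_or_mem h).elim hu hv, ?_⟩
  rw [smul_add]
  refine add_mem ?_ ?_
  · rw [mul_comm, mul_smul]
    exact smul_mem_smul_top _ hn v
  · rw [mul_smul]
    exact smul_mem_smul_top _ hm u

theorem smul (hn : FibZero R q n) (a : A) : FibZero R q (a • n) := by
  obtain ⟨u, hu, hn⟩ := hn
  refine ⟨u, hu, ?_⟩
  rw [smul_comm]
  exact smul_mem_smul_top _ hn a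

theorem of_smul {a : A} (ha : a ∉ q) (h : FibZero R q (a • n)) : FibZero R q n := by
  obtain ⟨u, hu, h⟩ := h
  exact ⟨u * a, fun h' => (‹q.IsPrime›.mem_or_mem h').elim hu ha, by rw [mul_smul]; exact h⟩

theorem neg (hn : FibZero R q n) : FibZero R q (-n) := by
  simpa using hn.smul (-1)

theorem sub (hn : FibZero R q n) (hm : FibZero R q m) : FibZero R q (n - m) := by
  rw [sub_eq_add_neg]
  exact hn.add hm.neg

end FibZero

variable (R)

/-- The elements vanishing in the fibre at the point. -/
def fibKer (M : Type u) [AddCommGroup M] [Module A M] [Module R M] [IsScalarTower R A M]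
    (q : Ideal A) [q.IsPrime] : Submodule A M where
  carrier := {n | FibZero R q n}
  add_mem' := FibZero.add
  zero_mem' := FibZero.zero
  smul_mem' a _ hn := hn.smul a

variable {R}

/-- At a point which is generic in the fibre and not associated, the module vanishes. -/
theorem fibZero_all (q : Ideal A) [q.IsPrime]
    (hgen : ∀ s ∈ q, ∃ u ∉ q, u * s ∈ (q.comap (algebraMap R A)).map (algebraMap R A))
    (h : NotAssFib R M q) (n : M) : FibZero R q n := by
  refine h n fun s hs => ?_
  obtain ⟨u, hu, hus⟩ := hgen s hs
  exact ⟨u, hu, by rw [smul_smul]; exact smul_mem_of_mem_map _ hus n⟩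

/-- A finite module vanishing in the fibre at a point vanishes there. -/
theorem subsingleton_of_fibZero [Module.Finite A M] (q : Ideal A) [q.IsPrime] (h : ∀ n : M, FibZero R q n) :
    Subsingleton (LocalizedModule q.primeCompl M) := by
  let Aq := Localization.AtPrime q
  let mk := LocalizedModule.mkLinearMap q.primeCompl M
  haveI : Module.Finite Aq (LocalizedModule q.primeCompl M) := Module.Finite.of_isLocalizedModule q.primeCompl mk
  have hmk : ∀ n, mk n ∈ IsLocalRing.maximalIdeal Aq • (⊤ : Submodule Aq (LocalizedModule q.primeCompl M)) := by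
    intro n
    obtain ⟨u, hu, hun⟩ := h n
    have h1 : ∀ z ∈ (q.comap (algebraMap R A)) • (⊤ : Submodule R M),
        mk z ∈ IsLocalRing.maximalIdeal Aq • (⊤ : Submodule Aq (LocalizedModule q.primeCompl M)) := by
      intro z hz
      refine Submodule.smul_induction_on hz (fun c hc m _ => ?_) fun x y hx hy => by rw [map_add]; exact add_mem hx hy
      rw [LinearMap.map_smul_of_tower, ← algebraMap_smul A c (mk m), ← algebraMap_smul Aq (algebraMap R A c) (mk m)]
      refine Submodule.smul_mem_smul ?_ trivial
      rw [IsLocalization.AtPrime.to_map_mem_maximal_iff Aq q]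
      exact hc
    have h2 := h1 _ hun
    rw [map_smul, ← algebraMap_smul Aq u] at h2
    exact (Submodule.smul_mem_iff_of_isUnit _ (IsLocalization.map_units Aq (⟨u, hu⟩ : q.primeCompl))).1 h2
  have htop : (⊤ : Submodule Aq (LocalizedModule q.primeCompl M)) ≤ IsLocalRing.maximalIdeal Aq • ⊤ := by
    intro y _
    obtain ⟨⟨m, t⟩, ht⟩ := IsLocalizedModule.surj q.primeCompl mk y
    have := hmk m
    rw [← ht] at this
    have h' : algebraMap A Aq (t : A) • y ∈ IsLocalRing.maximalIdeal Aq • (⊤ : Submodule Aq _) := by
      rw [algebraMap_smul]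
      exact this
    exact (Submodule.smul_mem_iff_of_isUnit _ (IsLocalization.map_units Aq t)).1 h'
  have h0 := Submodule.eq_bot_of_le_smul_of_le_jacobson_bot _ _ Module.Finite.fg_top htop
    (IsLocalRing.maximalIdeal_le_jacobson _)
  exact ⟨fun a b => by
    have ha : a ∈ (⊥ : Submodule Aq (LocalizedModule q.primeCompl M)) := h0 ▸ trivial
    have hb : b ∈ (⊥ : Submodule Aq (LocalizedModule q.primeCompl M)) := h0 ▸ trivial
    rw [Submodule.mem_bot] at ha hb
    rw [ha, hb]⟩

/-- An extension of flat modules is flat. -/
theorem flat_of_exact {F N Q : Type u} [AddCommGroup F] [Module R F] [AddCommGroup N] [Module R N]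
    [AddCommGroup Q] [Module R Q] [Module.Flat R F] [Module.Flat R Q] (f : F →ₗ[R] N) (g : N →ₗ[R] Q)
    (hex : Function.Exact f g) (hg : Function.Surjective g)
    (hf : ∀ (X : Type u) [AddCommGroup X] [Module R X], Function.Injective (f.lTensor X)) : Module.Flat R N := by
  rw [Module.Flat.iff_rTensor_preserves_injective_linearMap]
  intro M' M _ _ _ _ j hj
  rw [injective_iff_map_eq_zero]
  intro z hz
  have h1 : j.rTensor Q (g.lTensor M' z) = 0 := by
    rw [← LinearMap.comp_apply, LinearMap.rTensor_comp_lTensor, ← LinearMap.lTensor_comp_rTensor,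
      LinearMap.comp_apply, hz, map_zero]
  have h2 : g.lTensor M' z = 0 :=
    Module.Flat.rTensor_preserves_injective_linearMap (M := Q) j hj (h1.trans (map_zero _).symm)
  obtain ⟨w, rfl⟩ := (lTensor_exact M' hex hg z).1 h2
  have h3 : f.lTensor M (j.rTensor F w) = 0 := by
    rw [← LinearMap.comp_apply, LinearMap.lTensor_comp_rTensor, ← LinearMap.rTensor_comp_lTensor,
      LinearMap.comp_apply, hz]
  have h4 : j.rTensor F w = 0 := hf M (h3.trans (map_zero _).symm)
  rw [Module.Flat.rTensor_preserves_injective_linearMap (M := F) j hj (h4.trans (map_zero _).symm), map_zero]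

/-- Flatness at the primes avoiding a submonoid gives flatness of the localization. -/
theorem flat_localized_of_forall_disjoint (T : Submonoid A)
    (H : ∀ (q : Ideal A) [q.IsPrime], Disjoint (q : Set A) (T : Set A) →
      Module.Flat R (LocalizedModule q.primeCompl M)) :
    Module.Flat R (LocalizedModule T M) := by
  rw [Module.Flat.iff_lTensor_preserves_injective_linearMap]
  intro X' X _ _ _ _ j hj
  rw [injective_iff_map_eq_zero]
  intro z hz
  let G := AlgebraTensorModule.rTensor R X' (LocalizedModule.mkLinearMap T M)
  haveI : IsLocalizedModule T G := inferInstance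
  let J := (Submodule.span A {z}).annihilator
  by_cases hd : Disjoint (J : Set A) (T : Set A)
  · exfalso
    obtain ⟨q, hq, hle, hqd⟩ := Ideal.exists_le_prime_disjoint J T hd
    haveI := hq
    let fq := LocalizedModule.mkLinearMap q.primeCompl (LocalizedModule T M)
    have hcompl : T ≤ q.primeCompl := fun x hx hxq => Set.disjoint_left.1 hqd hxq hx
    haveI : Module.Flat R (LocalizedModule q.primeCompl (LocalizedModule T M)) := by
      haveI : IsLocalizedModule q.primeCompl (fq ∘ₗ LocalizedModule.mkLinearMap T M) := by
        refine ⟨fun t => IsLocalizedModule.map_units fq t, fun y => ?_, fun {a b} hab => ?_⟩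
        · obtain ⟨⟨m, t⟩, ht⟩ := IsLocalizedModule.surj q.primeCompl fq y
          obtain ⟨⟨n, s⟩, hs⟩ := IsLocalizedModule.surj T (LocalizedModule.mkLinearMap T M) m
          refine ⟨⟨n, ⟨s, hcompl s.2⟩ * t⟩, ?_⟩
          show ((s : A) * (t : A)) • y = fq (LocalizedModule.mkLinearMap T M n)
          rw [mul_smul, ← hs]
          show (s : A) • ((t : A) • y) = fq ((s : A) • m)
          rw [map_smul, ← ht]
          rfl
        · obtain ⟨t, ht⟩ := IsLocalizedModule.exists_of_eq (S := q.primeCompl) (f := fq) hab
          have ht' : LocalizedModule.mkLinearMap T M ((t : A) • a) = LocalizedModule.mkLinearMap T M ((t : A) • b) := by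
            rw [map_smul, map_smul]; exact ht
          obtain ⟨s, hs⟩ := IsLocalizedModule.exists_of_eq (S := T) ht'
          refine ⟨⟨s, hcompl s.2⟩ * t, ?_⟩
          show ((s : A) * (t : A)) • a = ((s : A) * (t : A)) • b
          rw [mul_smul, mul_smul]
          exact hs
      haveI := H q hqd
      exact Module.Flat.of_linearEquiv ((IsLocalizedModule.linearEquiv q.primeCompl
        (fq ∘ₗ LocalizedModule.mkLinearMap T M)
        (LocalizedModule.mkLinearMap q.primeCompl M)).restrictScalars R)
    let F := AlgebraTensorModule.rTensor R X' fq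
    haveI : IsLocalizedModule q.primeCompl F := inferInstance
    have h0 : F z = 0 := by
      refine Module.Flat.lTensor_preserves_injective_linearMap
        (M := LocalizedModule q.primeCompl (LocalizedModule T M)) j hj ?_
      rw [map_zero]
      have : AlgebraTensorModule.rTensor R X fq (j.lTensor _ z) =
          j.lTensor (LocalizedModule q.primeCompl (LocalizedModule T M)) (F z) := by
        show (fq.restrictScalars R).rTensor X (j.lTensor _ z) =
          j.lTensor (LocalizedModule q.primeCompl (LocalizedModule T M)) ((fq.restrictScalars R).rTensor X' z)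
        rw [← LinearMap.comp_apply, ← LinearMap.comp_apply, LinearMap.rTensor_comp_lTensor,
          LinearMap.lTensor_comp_rTensor]
      rw [← this, hz, map_zero]
    obtain ⟨s, hs⟩ := (IsLocalizedModule.eq_zero_iff q.primeCompl F).1 h0
    exact s.2 (hle ((Submodule.mem_annihilator_span_singleton _ _).2 hs))
  · obtain ⟨t, htJ, htT⟩ := Set.not_disjoint_iff.1 hd
    have ht : t • z = 0 := (Submodule.mem_annihilator_span_singleton _ _).1 htJ
    exact ((Module.End.isUnit_iff _).1 (IsLocalizedModule.map_units G ⟨t, htT⟩)).1
      (ht.trans (map_zero _).symm)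

end GrothLib.RG6
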