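import Mathlib
import Groth.Agent.Lib.NagataFP.Global
import Groth.Agent.S2049

/-!
# Generators which are independent on the closed fibre are independent at every point
-/

set_option autoImplicit false
set_option backward.isDefEq.respectTransparency false
set_option linter.style.haveILetI false
set_option maxHeartbeats 400000

universe u

open IsLocalRing TensorProduct

namespace GrothLib.RG6

/-- A local ring mapping to a field maps locally to a valuation ring of it. -/
theorem exists_valuation {A K : Type u} [CommRing A] [IsLocalRing A] [Field K] (f : A →+* K) :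
    ∃ (W : ValuationSubring K) (g : A →+* W), W.subtype.comp g = f ∧ IsLocalHom g := by
  obtain ⟨W, hW⟩ := (LocalSubring.range f).exists_le_valuationSubring
  obtain ⟨hle, hloc⟩ := hW
  refine ⟨W, (Subring.inclusion hle).comp f.rangeRestrict, RingHom.ext fun a => rfl, ⟨fun a ha => ?_⟩⟩
  haveI := hloc
  have h1 : IsUnit (f.rangeRestrict a) :=
    (isUnit_map_iff (Subring.inclusion hle) _).1 ha
  haveI : IsLocalHom f.rangeRestrict := .of_surjective _ f.rangeRestrict_surjective
  exact (isUnit_map_iff f.rangeRestrict a).1 h1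

/-- Injectivity after base change to a field persists in field extensions. -/
theorem lTensor_injective_ext {R k k' : Type u} [CommRing R] [Field k] [Field k'] [Algebra R k] [Algebra R k']
    [Algebra k k'] [IsScalarTower R k k'] {X Y : Type u} [AddCommGroup X] [Module R X] [AddCommGroup Y]
    [Module R Y] (f : X →ₗ[R] Y) (h : Function.Injective (f.lTensor k)) :
    Function.Injective (f.lTensor k') := by
  let fk : k ⊗[R] X →ₗ[k] k ⊗[R] Y := f.baseChange k
  have hfk : Function.Injective fk := h
  let eX : k' ⊗[k] (k ⊗[R] X) ≃ₗ[k] k' ⊗[R] X := AlgebraTensorModule.cancelBaseChange R k k k' X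
  let eY : k' ⊗[k] (k ⊗[R] Y) ≃ₗ[k] k' ⊗[R] Y := AlgebraTensorModule.cancelBaseChange R k k k' Y
  have hkey : ∀ z, eY (fk.lTensor k' z) = f.lTensor k' (eX z) := fun z => by
    induction z using TensorProduct.induction_on with
    | zero => simp
    | add a b ha hb => simp only [map_add, ha, hb]
    | tmul a w =>
      induction w using TensorProduct.induction_on with
      | zero => simp
      | add p q hp hq => simp only [TensorProduct.tmul_add, map_add, hp, hq]
      | tmul c x => simp [fk, eX, eY]
  have hinj := Module.Flat.lTensor_preserves_injective_linearMap (M := k') fk hfk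
  intro a b hab
  obtain ⟨a', rfl⟩ := eX.surjective a
  obtain ⟨b', rfl⟩ := eX.surjective b
  rw [← hkey, ← hkey] at hab
  rw [hinj (eY.injective hab)]

/-- In a valuation ring an element of the extension of the maximal ideal is divisible by one
element of that ideal. -/
theorem exists_smul_eq {W B : Type u} [CommRing W] [IsDomain W] [ValuationRing W] [CommRing B] [Algebra W B]
    {x : B} (hx : x ∈ (maximalIdeal W).map (algebraMap W B)) :
    ∃ m ∈ maximalIdeal W, ∃ y, x = m • y := by
  induction hx using Submodule.span_induction with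
  | mem x hx =>
    obtain ⟨m, hm, rfl⟩ := hx
    exact ⟨m, hm, 1, by rw [Algebra.smul_def, mul_one]⟩
  | zero => exact ⟨0, zero_mem _, 0, by rw [smul_zero]⟩
  | add p q _ _ hp hq =>
    obtain ⟨m, hm, y, rfl⟩ := hp
    obtain ⟨m', hm', y', rfl⟩ := hq
    rcases ValuationRing.dvd_total m m' with ⟨c, rfl⟩ | ⟨c, rfl⟩
    · exact ⟨m, hm, y + c • y', by rw [smul_add, mul_smul]⟩
    · exact ⟨m', hm', c • y + y', by rw [smul_add, mul_smul]⟩
  | smul c p _ hp =>
    obtain ⟨m, hm, y, rfl⟩ := hp
    exact ⟨m, hm, c • y, smul_comm c m y⟩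

/-- Finitely many elements of the extension of the maximal ideal have a common divisor there. -/
theorem exists_smul_eq_pi {W B : Type u} [CommRing W] [IsDomain W] [ValuationRing W] [CommRing B] [Algebra W B]
    {r : ℕ} (x : Fin r → B) (hx : ∀ i, x i ∈ (maximalIdeal W).map (algebraMap W B)) :
    ∃ m ∈ maximalIdeal W, ∃ y, x = m • y := by
  induction r with
  | zero => exact ⟨0, zero_mem _, 0, funext fun i => i.elim0⟩
  | succ n ih =>
    obtain ⟨m, hm, y, hy⟩ := exists_smul_eq (hx 0)
    obtain ⟨m', hm', y', hy'⟩ := ih (fun i => x i.succ) fun i => hx i.succ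
    rcases ValuationRing.dvd_total m m' with ⟨c, rfl⟩ | ⟨c, rfl⟩
    · refine ⟨m, hm, Fin.cons y (c • y'), funext fun i => ?_⟩
      induction i using Fin.cases with
      | zero => simpa using hy
      | succ j =>
        have := congrFun hy' j
        simp only [Pi.smul_apply, Fin.cons_succ, smul_smul] at this ⊢
        exact this
    · refine ⟨m', hm', Fin.cons (c • y) y', funext fun i => ?_⟩
      induction i using Fin.cases with
      | zero => simp only [Pi.smul_apply, Fin.cons_zero, smul_smul]; exact hy
      | succ j =>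
        have := congrFun hy' j
        simp only [Pi.smul_apply, Fin.cons_succ] at this ⊢
        exact this

section Fibre

variable {R W A N : Type u} [CommRing R] [CommRing W] [IsLocalRing W] [CommRing A] [Algebra R W] [Algebra R A]
  [AddCommGroup N] [Module A N] [Module R N] [IsScalarTower R A N]

/-- The kernel of the reduction of `W ⊗ A` modulo the maximal ideal of `W`. -/
theorem mem_map_of_residue_eq_zero (b : W ⊗[R] A)
    (hb : (IsScalarTower.toAlgHom R W (ResidueField W)).toLinearMap.rTensor A b = 0) :
    b ∈ (maximalIdeal W).map (algebraMap W (W ⊗[R] A)) := by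
  let f : W →ₐ[R] ResidueField W := IsScalarTower.toAlgHom R W (ResidueField W)
  have h1 := Algebra.TensorProduct.rTensor_ker (R := R) (S := R) (C := A) f residue_surjective
  have h2 : b ∈ RingHom.ker (Algebra.TensorProduct.map f (AlgHom.id R A)) := hb
  rw [h1] at h2
  refine Ideal.map_mono (fun w hw => ?_) h2
  exact (residue_eq_zero_iff w).1 hw

attribute [local instance] Algebra.TensorProduct.rightAlgebra in
/-- A relation between the generators after base change to `W` has coefficients in the extension of
the maximal ideal. -/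
theorem coeff_mem {r : ℕ} (φ : (Fin r → A) →ₗ[A] N)
    (hκ : Function.Injective ((φ.restrictScalars R).lTensor (ResidueField W)))
    (y : Fin r → W ⊗[R] A)
    (h : ∑ i, y i • (((1 : W ⊗[R] A)) ⊗ₜ[A] φ (Pi.single i 1)) = 0) (j : Fin r) :
    y j ∈ (maximalIdeal W).map (algebraMap W (W ⊗[R] A)) := by
  classical
  let E : (W ⊗[R] A) ⊗[A] N ≃ₗ[W] W ⊗[R] N := Algebra.IsPushout.cancelBaseChange R W A (W ⊗[R] A) N
  let f : W →ₗ[R] ResidueField W := (IsScalarTower.toAlgHom R W (ResidueField W)).toLinearMap
  let σ : (i : Fin r) → A →ₗ[R] (Fin r → A) := fun i => (LinearMap.single A (fun _ : Fin r => A) i).restrictScalars R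
  have key : ∀ (i : Fin r) (b : W ⊗[R] A), f.rTensor N (E (b • ((1 : W ⊗[R] A) ⊗ₜ[A] φ (Pi.single i 1)))) =
      (φ.restrictScalars R).lTensor (ResidueField W) ((σ i).lTensor (ResidueField W) (f.rTensor A b)) := by
    intro i b
    induction b using TensorProduct.induction_on with
    | zero => simp
    | add p q hp hq => simp only [add_smul, map_add, hp, hq]
    | tmul w a =>
      have h3 : (w ⊗ₜ[R] a : W ⊗[R] A) • ((1 : W ⊗[R] A) ⊗ₜ[A] φ (Pi.single i 1)) =
          w • ((1 : W ⊗[R] A) ⊗ₜ[A] φ (Pi.single i a)) := by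
        rw [show (Pi.single i a : Fin r → A) = a • Pi.single i 1 by rw [← Pi.single_smul', smul_eq_mul, mul_one],
          map_smul, TensorProduct.tmul_smul, ← algebraMap_smul (W ⊗[R] A) w, ← algebraMap_smul (W ⊗[R] A) a,
          smul_smul]
        congr 1
        show (w ⊗ₜ[R] a) = (w ⊗ₜ[R] (1 : A)) * ((1 : W) ⊗ₜ[R] a)
        rw [Algebra.TensorProduct.tmul_mul_tmul, mul_one, one_mul]
      have hE : E (w • ((1 : W ⊗[R] A) ⊗ₜ[A] φ (Pi.single i a))) = w ⊗ₜ[R] φ (Pi.single i a) := by
        rw [map_smul, Algebra.IsPushout.cancelBaseChange_tmul, TensorProduct.smul_tmul', smul_eq_mul, mul_one]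
      rw [h3, hE, LinearMap.rTensor_tmul, LinearMap.rTensor_tmul, LinearMap.lTensor_tmul, LinearMap.lTensor_tmul]
      rfl
  have h1 : (φ.restrictScalars R).lTensor (ResidueField W) (∑ i, (σ i).lTensor (ResidueField W) (f.rTensor A (y i))) = 0 := by
    rw [map_sum]
    simp only [← key]
    rw [← map_sum, ← map_sum, h, map_zero, map_zero]
  have h2 := congrArg (((LinearMap.proj j : (Fin r → A) →ₗ[A] A).restrictScalars R).lTensor (ResidueField W))
    (hκ (h1.trans (map_zero _).symm))
  refine mem_map_of_residue_eq_zero _ ?_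
  rw [map_sum, map_zero, Finset.sum_eq_single j] at h2
  · rw [← LinearMap.comp_apply, ← LinearMap.lTensor_comp,
      show (LinearMap.proj j : (Fin r → A) →ₗ[A] A).restrictScalars R ∘ₗ σ j = LinearMap.id from
        LinearMap.ext fun a => by simp [σ], LinearMap.lTensor_id] at h2
    exact h2
  · intro i _ hij
    rw [← LinearMap.comp_apply, ← LinearMap.lTensor_comp,
      show (LinearMap.proj j : (Fin r → A) →ₗ[A] A).restrictScalars R ∘ₗ σ i = 0 from
        LinearMap.ext fun a => by simp [σ, Pi.single_eq_of_ne' hij], LinearMap.lTensor_zero, LinearMap.zero_apply]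
  · simp

end Fibre

section Kernel

variable {W B M : Type u} [CommRing W] [IsDomain W] [ValuationRing W] [CommRing B] [Algebra W B]
  [Algebra.EssFiniteType W B] [AddCommGroup M] [Module B M] [Module W M] [IsScalarTower W B M] [Module.Flat W M]

/-- Over a valuation ring, generators of a flat module which are independent modulo the maximal
ideal are a basis of the localization at a point of the closed fibre. -/
theorem exists_equiv_localized {r : ℕ} (π : (Fin r → B) →ₗ[B] M) (hπ : Function.Surjective π)
    (hker : ∀ x, π x = 0 → ∀ j, x j ∈ (maximalIdeal W).map (algebraMap W B))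
    (c : Ideal B) [c.IsPrime] (hc : c.comap (algebraMap W B) = maximalIdeal W) :
    ∃ e : (Fin r → Localization.AtPrime c) ≃ₗ[Localization.AtPrime c] LocalizedModule c.primeCompl M,
      ∀ y : Fin r → B, e (fun i => algebraMap B _ (y i)) = LocalizedModule.mkLinearMap c.primeCompl M (π y) := by
  classical
  let Bc := Localization.AtPrime c
  let Nc := LocalizedModule c.primeCompl M
  let mkc := LocalizedModule.mkLinearMap c.primeCompl M
  haveI : Module.Flat W Nc := GrothLib.NagataFP.flat_localized (R := W) (M := M) c.primeCompl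
  haveI : IsLocalHom (algebraMap W Bc) := ⟨fun w hw => by
    by_contra hnu
    rw [IsScalarTower.algebraMap_apply W B Bc] at hw
    refine (IsLocalization.AtPrime.isUnit_to_map_iff Bc c _).1 hw ?_
    show w ∈ c.comap (algebraMap W B)
    rw [hc]
    exact (mem_maximalIdeal w).2 hnu⟩
  haveI : Algebra.EssFiniteType B Bc := Algebra.EssFiniteType.of_isLocalization Bc c.primeCompl
  haveI : Algebra.EssFiniteType W Bc := Algebra.EssFiniteType.comp W B Bc
  haveI : Module.Finite B M := Module.Finite.of_surjective π hπ
  haveI : Module.Finite Bc Nc := Module.Finite.of_isLocalizedModule c.primeCompl mkc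
  haveI : Module.FinitePresentation Bc Nc := Groth.Agent.S2049.result (A := W)
  let πc : (Fin r → Bc) →ₗ[Bc] Nc := Fintype.linearCombination Bc fun i => mkc (π (Pi.single i 1))
  have hπc : ∀ y : Fin r → B, πc (fun i => algebraMap B Bc (y i)) = mkc (π y) := fun y => by
    rw [Fintype.linearCombination_apply]
    conv_rhs => rw [pi_eq_sum_univ' y, map_sum, map_sum]
    refine Finset.sum_congr rfl fun i _ => ?_
    rw [algebraMap_smul, ← map_smul, ← map_smul]
  have hπcsurj : Function.Surjective πc := fun z => by
    obtain ⟨⟨m, s⟩, hs⟩ := IsLocalizedModule.surj c.primeCompl mkc z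
    obtain ⟨y, rfl⟩ := hπ m
    obtain ⟨u, hu⟩ := IsLocalization.map_units Bc s
    refine ⟨((u⁻¹ : Bcˣ) : Bc) • fun i => algebraMap B Bc (y i), ?_⟩
    rw [map_smul, hπc, ← hs]
    show ((u⁻¹ : Bcˣ) : Bc) • ((s : B) • z) = z
    rw [← algebraMap_smul Bc (s : B) z, ← hu, smul_smul, Units.inv_mul, one_smul]
  have hbot : LinearMap.ker πc = ⊥ := by
    refine Submodule.eq_bot_of_le_smul_of_le_jacobson_bot ((maximalIdeal W).map (algebraMap W Bc)) _
      (Module.FinitePresentation.fg_ker πc hπcsurj) (fun x hx => ?_) ?_
    · obtain ⟨s, hs⟩ := IsLocalization.exist_integer_multiples_of_finite c.primeCompl x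
      choose y hy using hs
      have h1 : mkc (π y) = 0 := by
        rw [← hπc, show (fun i => algebraMap B Bc (y i)) = (algebraMap B Bc (s : B)) • x from
          funext fun i => (hy i).trans (by rw [Pi.smul_apply, smul_eq_mul, Algebra.smul_def]), map_smul,
          LinearMap.mem_ker.1 hx, smul_zero]
      obtain ⟨t, ht⟩ := (IsLocalizedModule.eq_zero_iff c.primeCompl mkc).1 h1
      have h2 := hker ((t : B) • y) (by rw [map_smul]; exact ht)
      have h3 : ∀ i, x i ∈ (maximalIdeal W).map (algebraMap W Bc) := fun i => by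
        have h4 := Ideal.mem_map_of_mem (algebraMap B Bc) (h2 i)
        rw [Ideal.map_map, ← IsScalarTower.algebraMap_eq, Pi.smul_apply, smul_eq_mul, map_mul, hy i,
          Algebra.smul_def, ← mul_assoc] at h4
        exact (Ideal.unit_mul_mem_iff_mem _ ((IsLocalization.map_units Bc t).mul (IsLocalization.map_units Bc s))).1 h4
      obtain ⟨m, hm, z, rfl⟩ := exists_smul_eq_pi x h3
      by_cases hm0 : m = 0
      · rw [hm0, zero_smul]
        exact zero_mem _
      · rw [← algebraMap_smul Bc m z]
        refine Submodule.smul_mem_smul (Ideal.mem_map_of_mem _ hm) (LinearMap.mem_ker.2 ?_)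
        haveI : Module.IsTorsionFree W Nc := inferInstance
        have h5 : m • πc z = 0 := (LinearMap.map_smul_of_tower πc m z).symm.trans (LinearMap.mem_ker.1 hx)
        exact (smul_eq_zero.1 h5).resolve_left hm0
    · rw [jacobson_eq_maximalIdeal _ bot_ne_top, Ideal.map_le_iff_le_comap]
      intro w hw
      rw [Ideal.mem_comap, mem_maximalIdeal]
      exact fun h => (mem_maximalIdeal w).1 hw ((isUnit_map_iff (algebraMap W Bc) w).1 h)
  exact ⟨LinearEquiv.ofBijective πc ⟨LinearMap.ker_eq_bot.1 hbot, hπcsurj⟩, hπc⟩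

end Kernel

attribute [local instance] Algebra.TensorProduct.rightAlgebra in
/-- **Generators independent on the closed fibre give coordinates at every point.** -/
theorem exists_coord {R A N : Type u} [CommRing R] [CommRing A] [IsLocalRing A] [Algebra R A]
    [Algebra.EssFiniteType R A] [AddCommGroup N] [Module A N] [Module R N] [IsScalarTower R A N]
    [Module.Finite A N] [Module.Flat R N] (P₀ : Ideal R) [P₀.IsPrime]
    (hP₀ : P₀ = (maximalIdeal A).comap (algebraMap R A))
    {r : ℕ} (φ : (Fin r → A) →ₗ[A] N) (hφ : Function.Surjective φ)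
    (hres : Function.Injective ((φ.restrictScalars R).lTensor P₀.ResidueField))
    (q' : Ideal A) [q'.IsPrime] :
    ∃ lam : N →ₗ[A] (Fin r → q'.ResidueField),
      ∀ x i, lam (φ x) i = algebraMap A q'.ResidueField (x i) := by
  classical
  let K := q'.ResidueField
  obtain ⟨W, g, hg, hgloc⟩ := exists_valuation (algebraMap A K)
  letI algW : Algebra R W := (g.comp (algebraMap R A)).toAlgebra
  let gA : A →ₐ[R] W := ⟨g, fun a => rfl⟩
  let B := W ⊗[R] A
  let κ := ResidueField W
  have hker : ∀ a : R, algebraMap R κ a = 0 ↔ a ∈ P₀ := fun a => by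
    rw [hP₀, Ideal.mem_comap, IsScalarTower.algebraMap_apply R W κ, ResidueField.algebraMap_eq,
      residue_eq_zero_iff, mem_maximalIdeal, mem_maximalIdeal]
    exact not_congr (isUnit_map_iff g _)
  let τ : P₀.ResidueField →ₐ[R] κ := Ideal.ResidueField.liftₐ P₀ (Algebra.ofId R κ)
    (fun a ha => (hker a).2 ha) (fun a ha => isUnit_iff_ne_zero.2 fun h => ha ((hker a).1 h))
  letI : Algebra P₀.ResidueField κ := τ.toRingHom.toAlgebra
  haveI : IsScalarTower R P₀.ResidueField κ := IsScalarTower.of_algebraMap_eq fun a => (τ.commutes a).symm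
  have hκ : Function.Injective ((φ.restrictScalars R).lTensor κ) := lTensor_injective_ext _ hres
  let M₀ := B ⊗[A] N
  haveI : Module.Flat W M₀ := Module.Flat.of_linearEquiv (Algebra.IsPushout.cancelBaseChange R W A B N)
  let e : Fin r → N := fun i => φ (Pi.single i 1)
  have hφe : ∀ x : Fin r → A, φ x = ∑ i, x i • e i := fun x => by
    conv_lhs => rw [pi_eq_sum_univ' x]
    simp only [map_sum, map_smul]
    rfl
  let π : (Fin r → B) →ₗ[B] M₀ := Fintype.linearCombination B fun i => (1 : B) ⊗ₜ[A] e i
  have hπ : ∀ x, π x = ∑ i, x i • ((1 : B) ⊗ₜ[A] e i) := fun x => Fintype.linearCombination_apply _ _ _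
  have hπA : ∀ x : Fin r → A, π (fun i => algebraMap A B (x i)) = (1 : B) ⊗ₜ[A] φ x := fun x => by
    rw [hπ, hφe, TensorProduct.tmul_sum]
    exact Finset.sum_congr rfl fun i _ => by rw [algebraMap_smul, TensorProduct.tmul_smul]
  have hπsurj : Function.Surjective π := fun z => by
    induction z using TensorProduct.induction_on with
    | zero => exact ⟨0, map_zero _⟩
    | add p q hp hq =>
      obtain ⟨a, rfl⟩ := hp
      obtain ⟨b, rfl⟩ := hq
      exact ⟨a + b, map_add _ _ _⟩
    | tmul b n =>
      obtain ⟨x, rfl⟩ := hφ n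
      exact ⟨b • fun i => algebraMap A B (x i), by rw [map_smul, hπA, TensorProduct.smul_tmul', smul_eq_mul, mul_one]⟩
  have hkerπ : ∀ x, π x = 0 → ∀ j, x j ∈ (maximalIdeal W).map (algebraMap W B) := fun x hx =>
    coeff_mem φ hκ x ((hπ x).symm.trans hx)
  let ψ : B →ₐ[W] W := Algebra.TensorProduct.lift (AlgHom.id W W) gA fun _ _ => Commute.all _ _
  let c : Ideal B := (maximalIdeal W).comap ψ.toRingHom
  haveI : c.IsPrime := Ideal.IsPrime.comap _
  have hc : c.comap (algebraMap W B) = maximalIdeal W := by
    ext w
    show ψ (algebraMap W B w) ∈ maximalIdeal W ↔ _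
    rw [ψ.commutes]
    rfl
  obtain ⟨ec, hec⟩ := exists_equiv_localized (W := W) (B := B) (M := M₀) π hπsurj hkerπ c hc
  let mkc := LocalizedModule.mkLinearMap c.primeCompl M₀
  let θ : Localization.AtPrime c →+* K := IsLocalization.lift (M := c.primeCompl) (g := W.subtype.comp ψ.toRingHom) fun s => by
    have hu : IsUnit (ψ (s : B)) := by
      by_contra h
      exact s.2 ((mem_maximalIdeal _).2 h)
    exact hu.map W.subtype
  have hθA : ∀ a : A, θ (algebraMap B _ (algebraMap A B a)) = algebraMap A K a := fun a => by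
    rw [IsLocalization.lift_eq]
    show (W.subtype (ψ ((1 : W) ⊗ₜ[R] a))) = _
    rw [Algebra.TensorProduct.lift_tmul, map_one, one_mul]
    exact DFunLike.congr_fun hg a
  refine ⟨{ toFun := fun n i => θ (ec.symm (mkc ((1 : B) ⊗ₜ[A] n)) i)
            map_add' := fun a b => funext fun i => by
              simp only [TensorProduct.tmul_add, map_add, Pi.add_apply]
            map_smul' := fun a n => funext fun i => by
              have h6 : (1 : B) ⊗ₜ[A] (a • n) = algebraMap A B a • ((1 : B) ⊗ₜ[A] n) := by
                rw [algebraMap_smul, TensorProduct.tmul_smul]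
              simp only [h6, map_smul, RingHom.id_apply, Pi.smul_apply]
              rw [← algebraMap_smul (Localization.AtPrime c) (algebraMap A B a), map_smul, Pi.smul_apply, smul_eq_mul,
                map_mul, hθA, Algebra.smul_def] }, fun x i => ?_⟩
  show θ (ec.symm (mkc ((1 : B) ⊗ₜ[A] φ x)) i) = _
  rw [← hπA, ← hec, LinearEquiv.symm_apply_apply]
  exact hθA _

end GrothLib.RG6
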