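import Mathlib
import Groth.Agent.Lib.RG6.Valuative

/-!
# Injectivity on all fibres of a map which is injective on the closed fibre
-/

set_option autoImplicit false
set_option backward.isDefEq.respectTransparency false
set_option linter.style.haveILetI false
set_option maxHeartbeats 400000

universe u

open IsLocalRing TensorProduct

namespace GrothLib.RG6

/-- A surjection from a free module onto a flat module which is injective on the closed fibre is
injective on all reduced fibres. -/
theorem fibre_injective {R A N : Type u} [CommRing R] [CommRing A] [IsLocalRing A] [Algebra R A]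
    [Algebra.EssFiniteType R A] [AddCommGroup N] [Module A N] [Module R N] [IsScalarTower R A N]
    [Module.Finite A N] [Module.Flat R N] (P₀ : Ideal R) [P₀.IsPrime]
    (hP₀ : P₀ = (maximalIdeal A).comap (algebraMap R A))
    {r : ℕ} (φ : (Fin r → A) →ₗ[A] N) (hφ : Function.Surjective φ)
    (hres : Function.Injective ((φ.restrictScalars R).lTensor P₀.ResidueField))
    (p' : Ideal R) [p'.IsPrime] [IsReduced (p'.Fiber A)] :
    Function.Injective ((φ.restrictScalars R).lTensor p'.ResidueField) := by
  classical
  let κ := p'.ResidueField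
  rw [injective_iff_map_eq_zero]
  intro z hz
  let pr : Fin r → (Fin r → A) →ₗ[R] A := fun i => (LinearMap.proj i : (Fin r → A) →ₗ[A] A).restrictScalars R
  let σ : Fin r → A →ₗ[R] (Fin r → A) := fun i => (LinearMap.single A (fun _ : Fin r => A) i).restrictScalars R
  have hid : z = ∑ i, (σ i).lTensor κ ((pr i).lTensor κ z) := by
    conv_lhs => rw [← LinearMap.id_apply (R := R) z, ← LinearMap.lTensor_id,
      show (LinearMap.id : (Fin r → A) →ₗ[R] (Fin r → A)) = ∑ i, σ i ∘ₗ pr i from
        LinearMap.ext fun x => by
          simp only [LinearMap.sum_apply, LinearMap.id_apply]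
          funext j
          simp [σ, pr, Finset.sum_apply, Pi.single_apply]]
    rw [show LinearMap.lTensor κ (∑ i, σ i ∘ₗ pr i) = ∑ i, (σ i).lTensor κ ∘ₗ (pr i).lTensor κ by
      simp only [← LinearMap.lTensor_comp]
      exact map_sum (LinearMap.lTensorHom κ) _ _]
    rw [LinearMap.sum_apply]
    rfl
  suffices h : ∀ i, ((pr i).lTensor κ z : p'.Fiber A) = 0 by
    rw [hid]
    exact Finset.sum_eq_zero fun i _ => by rw [h i, map_zero]
  intro i
  refine IsNilpotent.eq_zero ?_
  rw [← mem_nilradical, nilradical_eq_sInf, Ideal.mem_sInf]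
  intro Q hQ
  haveI : Q.IsPrime := hQ
  let inc : A →+* p'.Fiber A := (Algebra.TensorProduct.includeRight (R := R) (A := κ) (B := A)).toRingHom
  let q' := Q.comap inc
  obtain ⟨lam, hlam⟩ := exists_coord P₀ hP₀ φ hφ hres q'
  let h : p'.Fiber A →+* Q.ResidueField := algebraMap _ _
  let jmap : q'.ResidueField →+* Q.ResidueField := Ideal.ResidueField.map q' Q inc rfl
  have hj : ∀ a : A, jmap (algebraMap A q'.ResidueField a) = h ((1 : κ) ⊗ₜ[R] a) := fun a =>
    Ideal.ResidueField.map_algebraMap ..
  let D : κ →ₗ[R] N →ₗ[R] Q.ResidueField :=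
    LinearMap.mk₂ R (fun c n => h (c ⊗ₜ[R] (1 : A)) * jmap (lam n i))
      (fun c c' n => by rw [TensorProduct.add_tmul, map_add, add_mul])
      (fun a c n => by
        rw [← TensorProduct.smul_tmul', Algebra.smul_def a (c ⊗ₜ[R] (1 : A)), map_mul, mul_assoc,
          Algebra.smul_def a (h _ * _)]
        rfl)
      (fun c n n' => by rw [map_add, Pi.add_apply, map_add, mul_add])
      (fun a c n => by
        rw [← algebraMap_smul A a n, map_smul, Pi.smul_apply, Algebra.smul_def, map_mul, hj,
          show ((1 : κ) ⊗ₜ[R] algebraMap R A a : p'.Fiber A) = algebraMap R _ a from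
            ((Algebra.TensorProduct.includeRight (R := R) (A := κ) (B := A)).commutes a),
          Algebra.smul_def a (h _ * _), IsScalarTower.algebraMap_apply R (p'.Fiber A) Q.ResidueField]
        ring)
  have key : ∀ w : κ ⊗[R] (Fin r → A), TensorProduct.lift D ((φ.restrictScalars R).lTensor κ w) =
      h ((pr i).lTensor κ w) := fun w => by
    induction w using TensorProduct.induction_on with
    | zero => simp
    | add a b ha hb => simp only [map_add, ha, hb]
    | tmul c x =>
      rw [LinearMap.lTensor_tmul, TensorProduct.lift.tmul, LinearMap.lTensor_tmul]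
      show h (c ⊗ₜ[R] (1 : A)) * jmap (lam (φ x) i) = _
      rw [hlam, hj, ← map_mul, Algebra.TensorProduct.tmul_mul_tmul, mul_one, one_mul]
      rfl
  have := key z
  rw [hz, map_zero] at this
  exact Ideal.algebraMap_residueField_eq_zero.1 this.symm

end GrothLib.RG6
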