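import Mathlib

/-!
# Finite presentation and flatness lemmas
-/

set_option autoImplicit false
set_option linter.style.haveILetI false
set_option maxHeartbeats 400000

universe u

open TensorProduct

namespace GrothLib.RG6

/-- A module over a finite algebra which is finitely presented over the base ring is finitely
presented over the algebra. -/
theorem fp_of_restrict {A B M : Type u} [CommRing A] [CommRing B] [Algebra A B] [Module.Finite A B]
    [AddCommGroup M] [Module A M] [Module B M] [IsScalarTower A B M] [Module.FinitePresentation A M] :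
    Module.FinitePresentation B M := by
  classical
  let μ : B ⊗[A] M →ₗ[B] M := (LinearMap.id (R := A) (M := M)).liftBaseChange B
  have hμ : ∀ b m, μ (b ⊗ₜ m) = b • m := fun b m => by simp [μ]
  obtain ⟨sB, hsB⟩ := Module.Finite.fg_top (R := A) (M := B)
  obtain ⟨sM, hsM⟩ := Module.Finite.fg_top (R := A) (M := M)
  let K : Submodule B (B ⊗[A] M) := Submodule.span B
    ((fun bm : B × M => bm.1 ⊗ₜ[A] bm.2 - 1 ⊗ₜ[A] (bm.1 • bm.2)) '' ((sB ×ˢ sM : Finset (B × M)) : Set (B × M)))
  refine Module.finitePresentation_of_surjective μ (fun m => ⟨1 ⊗ₜ m, by rw [hμ, one_smul]⟩) ?_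
  suffices h : LinearMap.ker μ = K by
    rw [h]
    exact Submodule.fg_span ((Finset.finite_toSet _).image _)
  refine le_antisymm (fun z hz => ?_) (Submodule.span_le.2 ?_)
  · let D : B →ₗ[A] M →ₗ[A] (B ⊗[A] M) ⧸ K :=
      LinearMap.mk₂ A (fun b m => Submodule.Quotient.mk (b ⊗ₜ[A] m - 1 ⊗ₜ[A] (b • m)))
        (fun b b' m => by
          rw [← Submodule.Quotient.mk_add, TensorProduct.add_tmul, add_smul, TensorProduct.tmul_add]
          congr 1; abel)
        (fun a b m => by
          rw [← Submodule.Quotient.mk_smul, smul_sub, TensorProduct.smul_tmul', smul_assoc, TensorProduct.tmul_smul])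
        (fun b m m' => by
          rw [← Submodule.Quotient.mk_add, TensorProduct.tmul_add, smul_add, TensorProduct.tmul_add]
          congr 1; abel)
        (fun a b m => by
          rw [← Submodule.Quotient.mk_smul, smul_sub, TensorProduct.tmul_smul, smul_comm b a m, TensorProduct.tmul_smul])
    have hD : D = 0 := by
      refine LinearMap.ext_on hsB fun b hb => LinearMap.ext_on hsM fun m hm => ?_
      exact (Submodule.Quotient.mk_eq_zero K).2
        (Submodule.subset_span ⟨(b, m), Finset.mem_product.2 ⟨hb, hm⟩, rfl⟩)
    have key : ∀ w : B ⊗[A] M, (Submodule.Quotient.mk (w - 1 ⊗ₜ[A] μ w) : (B ⊗[A] M) ⧸ K) = 0 := by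
      intro w
      induction w using TensorProduct.induction_on with
      | zero => simp
      | tmul b m => rw [hμ]; exact LinearMap.congr_fun (LinearMap.congr_fun hD b) m
      | add p q hp hq =>
        rw [map_add, TensorProduct.tmul_add, add_sub_add_comm, Submodule.Quotient.mk_add, hp, hq, add_zero]
    have := key z
    rw [LinearMap.mem_ker.1 hz, TensorProduct.tmul_zero, sub_zero] at this
    exact (Submodule.Quotient.mk_eq_zero K).1 this
  · rintro _ ⟨⟨b, m⟩, -, rfl⟩
    rw [SetLike.mem_coe, LinearMap.mem_ker, map_sub, hμ, hμ, one_smul, sub_self]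

/-- Finite presentation of modules descends along faithfully flat ring maps. -/
theorem fp_of_faithfullyFlat {A B M : Type u} [CommRing A] [CommRing B] [Algebra A B] [Module.FaithfullyFlat A B]
    [AddCommGroup M] [Module A M] [Module.FinitePresentation B (B ⊗[A] M)] : Module.FinitePresentation A M := by
  haveI : Module.Finite A M := Module.Finite.of_finite_tensorProduct_of_faithfullyFlat B
  obtain ⟨n, π, hπ⟩ := Module.Finite.exists_fin' A M
  refine Module.finitePresentation_of_surjective π hπ ?_
  rw [← Module.Finite.iff_fg]
  let ι := (LinearMap.ker π).subtype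
  have hex : Function.Exact (ι.baseChange B) (π.baseChange B) := lTensor_exact B π.exact_subtype_ker_map hπ
  have hinj : Function.Injective (ι.baseChange B) :=
    Module.Flat.lTensor_preserves_injective_linearMap ι (LinearMap.ker π).subtype_injective
  have hfg := Module.FinitePresentation.fg_ker (π.baseChange B) (LinearMap.lTensor_surjective B hπ)
  rw [(LinearMap.exact_iff).1 hex, ← Module.Finite.iff_fg] at hfg
  haveI : Module.Finite B (B ⊗[A] LinearMap.ker π) := Module.Finite.equiv (LinearEquiv.ofInjective _ hinj).symm
  exact Module.Finite.of_finite_tensorProduct_of_faithfullyFlat B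

/-- The cokernel of a universally injective map into a flat module is flat. -/
theorem flat_of_univInj {R F N Q : Type u} [CommRing R] [AddCommGroup F] [Module R F] [AddCommGroup N]
    [Module R N] [AddCommGroup Q] [Module R Q] [Module.Flat R N] (f : F →ₗ[R] N) (g : N →ₗ[R] Q)
    (hex : Function.Exact f g) (hg : Function.Surjective g)
    (hf : ∀ (X : Type u) [AddCommGroup X] [Module R X], Function.Injective (f.lTensor X)) :
    Module.Flat R Q := by
  rw [Module.Flat.iff_rTensor_preserves_injective_linearMap]
  intro M' M _ _ _ _ j hj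
  rw [injective_iff_map_eq_zero]
  intro z hz
  obtain ⟨y, rfl⟩ := LinearMap.lTensor_surjective M' hg z
  have h1 : g.lTensor M (j.rTensor N y) = 0 := by
    rw [← hz, ← LinearMap.comp_apply, ← LinearMap.comp_apply]
    congr 1
    exact TensorProduct.ext' fun a b => by simp
  obtain ⟨w, hw⟩ := (lTensor_exact M hex hg _).1 h1
  let c : M →ₗ[R] M ⧸ LinearMap.range j := (LinearMap.range j).mkQ
  have h2 : f.lTensor _ (c.rTensor F w) = 0 := by
    have : c.rTensor N (f.lTensor M w) = f.lTensor _ (c.rTensor F w) := by
      rw [← LinearMap.comp_apply, ← LinearMap.comp_apply]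
      congr 1
      exact TensorProduct.ext' fun a b => by simp
    rw [← this, hw, ← LinearMap.comp_apply, ← LinearMap.rTensor_comp,
      show c ∘ₗ j = 0 from LinearMap.range_le_ker_iff.1 (by rw [Submodule.ker_mkQ]), LinearMap.rTensor_zero,
      LinearMap.zero_apply]
  have h3 : c.rTensor F w = 0 := hf _ (h2.trans (map_zero _).symm)
  have hexj : Function.Exact j c := LinearMap.exact_map_mkQ_range j
  obtain ⟨w', rfl⟩ := (rTensor_exact F hexj (Submodule.mkQ_surjective _) w).1 h3
  have h4 : j.rTensor N (y - f.lTensor M' w') = 0 := by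
    rw [map_sub, ← hw, sub_eq_zero, ← LinearMap.comp_apply, ← LinearMap.comp_apply]
    congr 1
    exact TensorProduct.ext' fun a b => by simp
  have h5 := Module.Flat.rTensor_preserves_injective_linearMap (M := N) j hj (h4.trans (map_zero _).symm)
  rw [sub_eq_zero] at h5
  rw [h5, ← LinearMap.comp_apply, ← LinearMap.lTensor_comp, hex.linearMap_comp_eq_zero, LinearMap.lTensor_zero,
    LinearMap.zero_apply]

end GrothLib.RG6
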