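import Mathlib
import Groth.Prelude.Def_FlatCA
import Groth.Agent.S1266
import Groth.Agent.Lib.WeakAssFib.Fibre
import Groth.Agent.Lib.FibreFlat.UnivRegular
import Groth.Agent.Lib.RG6.Fibre
import Groth.Agent.Lib.RG6.Tools

/-!
# A free module approximating a flat module at the generic point of the fibre
-/

set_option autoImplicit false
set_option backward.isDefEq.respectTransparency false
set_option linter.style.haveILetI false
set_option maxHeartbeats 800000

universe u

open IsLocalRing TensorProduct

namespace GrothLib.RG6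

variable {R P : Type u} [CommRing R] [CommRing P] [Algebra R P]

/-- Localizing first at a smaller set and then at a bigger one. -/
theorem isLocalizedModule_comp {N : Type u} [AddCommGroup N] [Module P N] (S T : Submonoid P) (h : S ≤ T) :
    IsLocalizedModule T
      (LocalizedModule.mkLinearMap T (LocalizedModule S N) ∘ₗ LocalizedModule.mkLinearMap S N) := by
  let f := LocalizedModule.mkLinearMap S N
  let g := LocalizedModule.mkLinearMap T (LocalizedModule S N)
  refine ⟨fun t => IsLocalizedModule.map_units g t, fun y => ?_, fun {a b} hab => ?_⟩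
  · obtain ⟨⟨m, t⟩, ht⟩ := IsLocalizedModule.surj T g y
    obtain ⟨⟨n, s⟩, hs⟩ := IsLocalizedModule.surj S f m
    refine ⟨⟨n, ⟨s, h s.2⟩ * t⟩, ?_⟩
    simp only [LinearMap.comp_apply]
    show ((s : P) * (t : P)) • y = g (f n)
    rw [mul_smul, ← hs]
    show (s : P) • ((t : P) • y) = g ((s : P) • m)
    rw [map_smul, ← ht]
    rfl
  · obtain ⟨t, ht⟩ := IsLocalizedModule.exists_of_eq (S := T) (f := g) hab
    have ht' : f ((t : P) • a) = f ((t : P) • b) := by rw [map_smul, map_smul]; exact ht
    obtain ⟨s, hs⟩ := IsLocalizedModule.exists_of_eq (S := S) (f := f) ht'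
    refine ⟨⟨s, h s.2⟩ * t, ?_⟩
    show ((s : P) * (t : P)) • a = ((s : P) * (t : P)) • b
    rw [mul_smul, mul_smul]
    exact hs

/-- Flatness at a prime passes to smaller primes. -/
theorem flat_localized_of_le {N : Type u} [AddCommGroup N] [Module P N] [Module R N] [IsScalarTower R P N]
    {p q : Ideal P} [p.IsPrime] [q.IsPrime] (hpq : p ≤ q)
    (hflat : Module.Flat R (LocalizedModule q.primeCompl N)) :
    Module.Flat R (LocalizedModule p.primeCompl N) := by
  haveI := hflat
  haveI := isLocalizedModule_comp (N := N) q.primeCompl p.primeCompl fun _ hx hxp => hx (hpq hxp)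
  haveI := GrothLib.NagataFP.flat_localized (R := R) (M := LocalizedModule q.primeCompl N) p.primeCompl
  exact Module.Flat.of_linearEquiv ((IsLocalizedModule.linearEquiv p.primeCompl
    (LocalizedModule.mkLinearMap p.primeCompl N)
    (LocalizedModule.mkLinearMap p.primeCompl (LocalizedModule q.primeCompl N) ∘ₗ
      LocalizedModule.mkLinearMap q.primeCompl N)).restrictScalars R)

/-- Fibres of a localization of an algebra with reduced fibres are reduced. -/
theorem isReduced_fiber_localization (T : Submonoid P) (p' : Ideal R) [p'.IsPrime] [IsReduced (p'.Fiber P)] :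
    IsReduced (p'.Fiber (Localization T)) := by
  let κ := p'.ResidueField
  let A := Localization T
  let g : P →ₗ[P] A := Algebra.linearMap P A
  let G := AlgebraTensorModule.rTensor R κ g
  let H : P ⊗[R] κ →ₐ[P] A ⊗[R] κ := Algebra.TensorProduct.map (Algebra.ofId P A) (AlgHom.id R κ)
  have hG : ∀ x, G x = H x := fun x => by
    induction x using TensorProduct.induction_on with
    | zero => simp
    | tmul a b => rfl
    | add a b ha hb => simp only [map_add, ha, hb]
  haveI : IsReduced (P ⊗[R] κ) :=
    isReduced_of_injective (Algebra.TensorProduct.comm R P κ).toRingEquiv.toRingHom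
      (Algebra.TensorProduct.comm R P κ).injective
  suffices h : IsReduced (A ⊗[R] κ) from
    isReduced_of_injective (Algebra.TensorProduct.comm R κ A).toRingEquiv.toRingHom
      (Algebra.TensorProduct.comm R κ A).injective
  refine (isReduced_iff_pow_one_lt 2 one_lt_two).2 fun x hx => ?_
  obtain ⟨⟨y, t⟩, ht⟩ := IsLocalizedModule.surj T G x
  have ht1 : G y = (t : P) • x := ht.symm
  have h1 : G (y ^ 2) = 0 := by
    rw [hG, map_pow, ← hG, ht1, smul_pow, hx, smul_zero]
  obtain ⟨u, hu⟩ := (IsLocalizedModule.eq_zero_iff T G).1 h1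
  have h2 : (u : P) • y = 0 := IsNilpotent.eq_zero ⟨2, by
    rw [smul_pow, pow_two (u : P), mul_smul, show (u : P) • y ^ 2 = 0 from hu, smul_zero]⟩
  have h3 : G y = 0 := by
    rw [IsLocalizedModule.eq_zero_iff T G]
    exact ⟨u, h2⟩
  rw [ht1] at h3
  refine ((Module.End.isUnit_iff _).1 (IsLocalizedModule.map_units G t)).1 ?_
  simpa using h3

/-- Finite powers of flat modules are flat. -/
theorem flat_pi {M : Type u} [AddCommGroup M] [Module R M] [Module.Flat R M] (r : ℕ) :
    Module.Flat R (Fin r → M) :=
  Module.Flat.of_linearEquiv ((Finsupp.linearEquivFunOnFinite R M (Fin r)).symm.trans (finsuppLEquivDirectSum R M (Fin r)))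

/-- A vector with entries in the extended prime lies in the extended prime times the module. -/
theorem mem_smul_top_pi {A : Type u} [CommRing A] [Algebra R A] (𝔭 : Ideal R) {r : ℕ} (x : Fin r → A)
    (hx : ∀ i, x i ∈ 𝔭.map (algebraMap R A)) : x ∈ 𝔭 • (⊤ : Submodule R (Fin r → A)) := by
  classical
  rw [← Finset.univ_sum_single x]
  refine Submodule.sum_mem _ fun i _ => ?_
  have h1 : x i ∈ 𝔭 • (⊤ : Submodule R A) := by rw [Ideal.smul_top_eq_map]; exact hx i
  have h2 := Submodule.mem_map_of_mem (f := (LinearMap.single A (fun _ : Fin r => A) i).restrictScalars R) h1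
  rw [Submodule.map_smul''] at h2
  exact Submodule.smul_mono le_rfl le_top h2

/-- Elements of the prime times the module vanish in the fibre. -/
theorem tmul_one_eq_zero_of_mem {M : Type u} [AddCommGroup M] [Module R M] (𝔭 : Ideal R) [𝔭.IsPrime]
    {x : M} (hx : x ∈ 𝔭 • (⊤ : Submodule R M)) : x ⊗ₜ[R] (1 : 𝔭.ResidueField) = 0 := by
  refine Submodule.smul_induction_on hx (fun a ha m _ => ?_)
    fun a b ha hb => by rw [TensorProduct.add_tmul, ha, hb, add_zero]
  rw [TensorProduct.smul_tmul, Algebra.smul_def, Ideal.algebraMap_residueField_eq_zero.2 ha, zero_mul,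
    TensorProduct.tmul_zero]

/-- Scalars outside the prime act injectively on the fibre. -/
theorem eq_zero_of_smul_fibre {M : Type u} [AddCommGroup M] [Module R M] (𝔭 : Ideal R) [𝔭.IsPrime]
    {b : R} (hb : b ∉ 𝔭) {v : M ⊗[R] 𝔭.ResidueField} (h : b • v = 0) : v = 0 := by
  have hbu : algebraMap R 𝔭.ResidueField b ≠ 0 := fun h0 => hb (Ideal.algebraMap_residueField_eq_zero.1 h0)
  let m : 𝔭.ResidueField →ₗ[R] 𝔭.ResidueField := LinearMap.mulLeft R (algebraMap R 𝔭.ResidueField b)⁻¹
  have h1 : m.lTensor M (b • v) = v := by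
    rw [map_smul, ← LinearMap.smul_apply, ← LinearMap.lTensor_smul,
      show b • m = LinearMap.id from LinearMap.ext fun c => by
        rw [LinearMap.smul_apply, LinearMap.mulLeft_apply, Algebra.smul_def, ← mul_assoc, mul_inv_cancel₀ hbu, one_mul,
          LinearMap.id_apply], LinearMap.lTensor_id, LinearMap.id_apply]
  rw [← h1, h, map_zero]

/-- The residue condition: coefficients of vanishing combinations in the closed fibre. -/
theorem lTensor_residue_injective {A N : Type u} [CommRing A] [Algebra R A] [AddCommGroup N] [Module A N]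
    [Module R N] [IsScalarTower R A N] (𝔭 : Ideal R) [𝔭.IsPrime]
    (hunit : ∀ b : R, b ∉ 𝔭 → IsUnit (algebraMap R A b))
    {r : ℕ} (φ : (Fin r → A) →ₗ[A] N)
    (h : ∀ x, φ x ∈ 𝔭.map (algebraMap R A) • (⊤ : Submodule A N) → ∀ i, x i ∈ 𝔭.map (algebraMap R A)) :
    Function.Injective ((φ.restrictScalars R).lTensor 𝔭.ResidueField) := by
  classical
  rw [injective_iff_map_eq_zero]
  intro z hz
  obtain ⟨b, hb, x, hx⟩ := GrothLib.WeakAssFib.exists_smul_eq_tmul_one 𝔭 (TensorProduct.comm R _ _ z)
  have hbz : b • z = (1 : 𝔭.ResidueField) ⊗ₜ[R] x := by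
    apply (TensorProduct.comm R 𝔭.ResidueField (Fin r → A)).injective
    rw [map_smul, hx, TensorProduct.comm_tmul]
  have hbu : IsUnit (algebraMap R 𝔭.ResidueField b) :=
    isUnit_iff_ne_zero.2 fun h0 => hb (Ideal.algebraMap_residueField_eq_zero.1 h0)
  suffices h0 : b • z = 0 by
    rwa [← algebraMap_smul 𝔭.ResidueField b z, IsUnit.smul_eq_zero hbu] at h0
  have h1 : φ x ⊗ₜ[R] (1 : 𝔭.ResidueField) = 0 := by
    have := congrArg ((φ.restrictScalars R).lTensor 𝔭.ResidueField) hbz
    rw [map_smul, hz, smul_zero, LinearMap.lTensor_tmul] at this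
    rw [← TensorProduct.comm_tmul]
    exact (congrArg (TensorProduct.comm R _ _) this.symm).trans (map_zero _)
  obtain ⟨u, hu, hmem⟩ := GrothLib.WeakAssFib.exists_smul_mem_of_tmul_one_eq_zero 𝔭 h1
  have hmem' : φ (algebraMap R A u • x) ∈ 𝔭.map (algebraMap R A) • (⊤ : Submodule A N) := by
    rw [map_smul, algebraMap_smul]
    refine Submodule.smul_induction_on hmem (fun a ha m _ => ?_) fun a b ha hb => add_mem ha hb
    rw [← algebraMap_smul A a m]
    exact Submodule.smul_mem_smul (Ideal.mem_map_of_mem _ ha) trivial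
  have hxi : ∀ i, x i ∈ 𝔭.map (algebraMap R A) := fun i =>
    (Ideal.unit_mul_mem_iff_mem _ (hunit u hu)).1 (h _ hmem' i)
  rw [hbz, ← TensorProduct.comm_tmul, tmul_one_eq_zero_of_mem 𝔭 (mem_smul_top_pi 𝔭 x hxi), map_zero]

/-- Minimal generators of the localization at a prime, taken from the module. -/
theorem exists_basis_mod (p : Ideal P) [p.IsPrime] (N : Type u) [AddCommGroup N] [Module P N] [Module.Finite P N] :
    ∃ (r : ℕ) (e : Fin r → N),
      Submodule.span (Localization.AtPrime p) (Set.range fun i => LocalizedModule.mkLinearMap p.primeCompl N (e i)) = ⊤ ∧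
      ∀ x : Fin r → Localization.AtPrime p,
        ∑ i, x i • LocalizedModule.mkLinearMap p.primeCompl N (e i) ∈
          maximalIdeal (Localization.AtPrime p) • (⊤ : Submodule (Localization.AtPrime p) (LocalizedModule p.primeCompl N)) →
        ∀ i, x i ∈ maximalIdeal (Localization.AtPrime p) := by
  classical
  let A := Localization.AtPrime p
  let mk := LocalizedModule.mkLinearMap p.primeCompl N
  have hex : ∃ (r : ℕ) (e : Fin r → N), Submodule.span A (Set.range fun i => mk (e i)) = ⊤ := by
    obtain ⟨n, s, hs⟩ := Module.Finite.exists_fin (R := P) (M := N)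
    refine ⟨n, s, eq_top_iff.2 fun y _ => ?_⟩
    obtain ⟨⟨m, t⟩, ht⟩ := IsLocalizedModule.surj p.primeCompl mk y
    have hm : mk m ∈ Submodule.span A (Set.range fun i => mk (s i)) := by
      clear ht
      have : m ∈ Submodule.span P (Set.range s) := by rw [hs]; trivial
      induction this using Submodule.span_induction with
      | mem x hx => obtain ⟨i, rfl⟩ := hx; exact Submodule.subset_span ⟨i, rfl⟩
      | zero => rw [map_zero]; exact zero_mem _
      | add a b _ _ ha hb => rw [map_add]; exact add_mem ha hb
      | smul c a _ ha => rw [map_smul, ← algebraMap_smul A c]; exact Submodule.smul_mem _ _ ha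
    rw [← ht] at hm
    have hu : IsUnit (algebraMap P A t) := IsLocalization.map_units A t
    have h' : algebraMap P A (t : P) • y ∈ Submodule.span A (Set.range fun i => mk (s i)) := by
      rw [algebraMap_smul]; exact hm
    exact (Submodule.smul_mem_iff_of_isUnit _ hu).1 h'
  obtain ⟨r, hr⟩ : ∃ r, r = Nat.find hex := ⟨_, rfl⟩
  obtain ⟨e, he⟩ := hr ▸ Nat.find_spec hex
  refine ⟨r, e, he, fun x hx i => ?_⟩
  by_contra hxi
  obtain ⟨k, rfl⟩ : ∃ k, r = k + 1 := Nat.exists_eq_succ_of_ne_zero (fun h0 => by
    have := i.2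
    omega)
  refine Nat.find_min hex (show k < Nat.find hex by omega) ?_
  refine ⟨e ∘ i.succAbove, ?_⟩
  set S := Submodule.span A (Set.range fun j => mk ((e ∘ i.succAbove) j))
  haveI : Module.Finite A (LocalizedModule p.primeCompl N) := Module.Finite.of_isLocalizedModule p.primeCompl mk
  refine eq_top_iff.2 (Submodule.le_of_le_smul_of_le_jacobson_bot Module.Finite.fg_top
    (maximalIdeal_le_jacobson _) ?_)
  rw [← he, Submodule.span_le]
  rintro _ ⟨j, rfl⟩
  rcases eq_or_ne j i with rfl | hji
  · rw [Fin.sum_univ_succAbove _ j] at hx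
    have hu : IsUnit (x j) := notMem_maximalIdeal.1 hxi
    have h1 : x j • mk (e j) ∈ S ⊔ maximalIdeal A • ⊤ := by
      have h2 : ∑ k, x (j.succAbove k) • mk (e (j.succAbove k)) ∈ S :=
        Submodule.sum_mem _ fun k _ => Submodule.smul_mem _ _ (Submodule.subset_span ⟨k, rfl⟩)
      have := sub_mem (Submodule.mem_sup_right (S := S) hx) (Submodule.mem_sup_left (T := maximalIdeal A • ⊤) h2)
      rwa [add_sub_cancel_right] at this
    exact (Submodule.smul_mem_iff_of_isUnit _ hu).1 (by rw [he]; exact h1)
  · obtain ⟨k, rfl⟩ := Fin.exists_succAbove_eq hji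
    exact Submodule.mem_sup_left (Submodule.subset_span ⟨k, rfl⟩)

/-- **Universal injectivity of a map from a free module which is a residual isomorphism at the generic
point of the fibre.** -/
theorem univInj_of_generic [Algebra.FinitePresentation R P] [Module.Flat R P]
    {N : Type u} [AddCommGroup N] [Module P N] [Module R N] [IsScalarTower R P N] [Module.Finite P N]
    (𝔭 : Ideal R) [𝔭.IsPrime] (q p : Ideal P) [q.IsPrime] [p.IsPrime] (hpq : p ≤ q)
    (hq : q.comap (algebraMap R P) = 𝔭) (hp1 : p.comap (algebraMap R P) = 𝔭)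
    (hp : ∀ a ∈ p, ∃ s ∉ q, s * a ∈ 𝔭.map (algebraMap R P))
    (hred : ∀ (p' : Ideal R) [p'.IsPrime], IsReduced (p'.Fiber P))
    (hflat : Module.Flat R (LocalizedModule p.primeCompl N)) {r : ℕ} (e : Fin r → N)
    (hspan : Submodule.span (Localization.AtPrime p)
      (Set.range fun i => LocalizedModule.mkLinearMap p.primeCompl N (e i)) = ⊤)
    (hind : ∀ x : Fin r → Localization.AtPrime p,
      ∑ i, x i • LocalizedModule.mkLinearMap p.primeCompl N (e i) ∈
        maximalIdeal (Localization.AtPrime p) •
          (⊤ : Submodule (Localization.AtPrime p) (LocalizedModule p.primeCompl N)) →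
      ∀ i, x i ∈ maximalIdeal (Localization.AtPrime p)) :
    FlatCA.UnivInj R ((LocalizedModule.map q.primeCompl (Fintype.linearCombination P e)).restrictScalars R) ∧
      Function.Injective (LocalizedModule.map q.primeCompl (Fintype.linearCombination P e)) ∧
      ∀ n : N, ∃ g ∉ p, g • n ∈ LinearMap.range (Fintype.linearCombination P e) := by
  classical
  let A := Localization.AtPrime p
  let Np := LocalizedModule p.primeCompl N
  let Nq := LocalizedModule q.primeCompl N
  let mkp := LocalizedModule.mkLinearMap p.primeCompl N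
  let mkq := LocalizedModule.mkLinearMap q.primeCompl N
  haveI : Module.Flat R Np := hflat
  haveI : Module.Finite A Np := Module.Finite.of_isLocalizedModule p.primeCompl mkp
  have hmax : maximalIdeal A = 𝔭.map (algebraMap R A) := by
    rw [IsScalarTower.algebraMap_eq R P A, ← Ideal.map_map, ← Localization.AtPrime.map_eq_maximalIdeal]
    refine le_antisymm (Ideal.map_le_iff_le_comap.2 fun a ha => ?_)
      (Ideal.map_mono (Ideal.map_le_iff_le_comap.2 hp1.ge))
    obtain ⟨s, hs, hsa⟩ := hp a ha
    have h1 := Ideal.mem_map_of_mem (algebraMap P A) hsa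
    rw [map_mul] at h1
    exact (Ideal.unit_mul_mem_iff_mem _ (IsLocalization.map_units A (⟨s, fun h => hs (hpq h)⟩ : p.primeCompl))).1 h1
  let φ : (Fin r → A) →ₗ[A] Np := Fintype.linearCombination A fun i => mkp (e i)
  have hφ : Function.Surjective φ := by
    rw [← LinearMap.range_eq_top, Fintype.range_linearCombination]
    exact hspan
  have hcomap : 𝔭 = (maximalIdeal A).comap (algebraMap R A) := by
    rw [IsScalarTower.algebraMap_eq R P A, ← Ideal.comap_comap]
    exact hp1.symm.trans (congrArg (Ideal.comap (algebraMap R P)) (IsLocalization.AtPrime.under_maximalIdeal A p).symm)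
  have hres : Function.Injective ((φ.restrictScalars R).lTensor 𝔭.ResidueField) :=
    lTensor_residue_injective 𝔭 (fun b hb => by
      by_contra hnu
      exact hb (by rw [hcomap, Ideal.mem_comap, mem_maximalIdeal]; exact hnu)) φ fun x hx => by
        rw [← hmax] at hx ⊢
        exact hind x (by rwa [← Fintype.linearCombination_apply])
  haveI : Module.Flat R A := Module.Flat.trans R P A
  haveI : Module.Flat R (Fin r → A) := flat_pi r
  haveI : Module.Flat R (Fin r → P) := flat_pi r
  have huniv : FlatCA.UnivInj R (φ.restrictScalars R) := by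
    refine Groth.Agent.S1266.result (B := P) p.primeCompl (Fin r → A) Np _ fun p' _ => ?_
    haveI := hred p'
    haveI : IsReduced (p'.Fiber A) := isReduced_fiber_localization p.primeCompl p'
    haveI : Algebra.EssFiniteType P A := Algebra.EssFiniteType.of_isLocalization A p.primeCompl
    haveI : Algebra.EssFiniteType R A := Algebra.EssFiniteType.comp R P A
    exact fibre_injective 𝔭 hcomap φ hφ hres p'
  let α : (Fin r → P) →ₗ[P] N := Fintype.linearCombination P e
  let ι : (Fin r → P) →ₗ[P] (Fin r → A) := LinearMap.pi fun i => Algebra.linearMap P A ∘ₗ LinearMap.proj i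
  haveI : IsLocalizedModule p.primeCompl ι := inferInstance
  have hαφ : ∀ y, φ (ι y) = mkp (α y) := fun y => by
    simp only [φ, α, Fintype.linearCombination_apply, map_sum, map_smul]
    exact Finset.sum_congr rfl fun i _ => algebraMap_smul A (y i) _
  let π : Nq →ₗ[P] Np := LocalizedModule.lift q.primeCompl mkp fun s =>
    IsLocalizedModule.map_units mkp (⟨s, fun h => s.2 (hpq h)⟩ : p.primeCompl)
  have hπ : ∀ n, π (mkq n) = mkp n := fun n => LocalizedModule.lift_mk_one ..
  -- the kernel of `α ⊗ X` consists of elements killed outside the prime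
  have hker : ∀ (X : Type u) [AddCommGroup X] [Module R X] (z : (Fin r → P) ⊗[R] X),
      AlgebraTensorModule.rTensor R X mkq (AlgebraTensorModule.rTensor R X α z) = 0 →
        ∃ t : P, t ∉ q ∧ t • z = 0 := by
    intro X _ _ z hz
    have h1 : AlgebraTensorModule.rTensor R X mkp (AlgebraTensorModule.rTensor R X α z) = 0 := by
      have := congrArg (AlgebraTensorModule.rTensor R X π) hz
      rw [map_zero] at this
      rw [← this]
      generalize AlgebraTensorModule.rTensor R X α z = w
      induction w using TensorProduct.induction_on with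
      | zero => simp
      | tmul a b => simp [hπ]
      | add a b ha hb => simp only [map_add, ha, hb]
    have h2 : (φ.restrictScalars R).rTensor X (AlgebraTensorModule.rTensor R X ι z) = 0 := by
      rw [← h1]
      clear h1 hz
      induction z using TensorProduct.induction_on with
      | zero => simp
      | tmul a b => simp [hαφ]
      | add a b ha hb => simp only [map_add, ha, hb]
    have h3 : AlgebraTensorModule.rTensor R X ι z = 0 :=
      ((LinearMap.lTensor_inj_iff_rTensor_inj X (φ.restrictScalars R)).1 (huniv X)) (h2.trans (map_zero _).symm)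
    obtain ⟨g, hg⟩ := (IsLocalizedModule.eq_zero_iff p.primeCompl (AlgebraTensorModule.rTensor R X ι)).1 h3
    refine GrothLib.FibreFlat.univ_regular (A := R) (K := 𝔭.ResidueField) q ?_
      ((Ideal.ker_algebraMap_residueField 𝔭).trans hq.symm) (g : P) ?_ X z hg
    · exact GrothLib.NagataFP.flat_localized (R := R) (M := Fin r → P) q.primeCompl
    · intro w hw
      obtain ⟨b, hb, x, hx⟩ := GrothLib.WeakAssFib.exists_smul_eq_tmul_one 𝔭 w
      have hgx : ((g : P) • x) ⊗ₜ[R] (1 : 𝔭.ResidueField) = 0 := by
        rw [← TensorProduct.smul_tmul', ← hx, smul_comm, hw, smul_zero]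
      obtain ⟨u, hu, hmem⟩ := GrothLib.WeakAssFib.exists_smul_mem_of_tmul_one_eq_zero 𝔭 hgx
      have hxp : ∀ i, x i ∈ p := fun i => by
        have h4 : (u • (g : P) • x) i ∈ p := by
          refine Submodule.smul_induction_on hmem (fun a ha m _ => ?_) fun a b ha hb => add_mem ha hb
          rw [Pi.smul_apply, Algebra.smul_def]
          exact Ideal.mul_mem_right _ _ (hp1.ge ha)
        rw [Pi.smul_apply, Pi.smul_apply, Algebra.smul_def, smul_eq_mul, ← mul_assoc] at h4
        exact (‹p.IsPrime›.mem_or_mem h4).resolve_left fun h =>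
          (‹p.IsPrime›.mem_or_mem h).elim (fun h' => hu (hp1 ▸ h')) g.2
      choose s hs hsx using fun i => hp (x i) (hxp i)
      refine ⟨∏ i, s i, fun h => ?_, ?_⟩
      · obtain ⟨i, -, hi⟩ := ‹q.IsPrime›.prod_mem_iff.1 h
        exact hs i hi
      refine eq_zero_of_smul_fibre 𝔭 hb ?_
      rw [smul_comm, hx, TensorProduct.smul_tmul']
      refine tmul_one_eq_zero_of_mem 𝔭 (mem_smul_top_pi 𝔭 _ fun i => ?_)
      rw [Pi.smul_apply, smul_eq_mul, ← Finset.mul_prod_erase _ _ (Finset.mem_univ i), mul_right_comm]
      exact Ideal.mul_mem_right _ _ (hsx i)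
  have hUI : FlatCA.UnivInj R ((LocalizedModule.map q.primeCompl α).restrictScalars R) := by
    intro X _ _
    rw [LinearMap.lTensor_inj_iff_rTensor_inj]
    show Function.Injective (AlgebraTensorModule.rTensor R X ((LocalizedModule.map q.primeCompl α).restrictScalars P))
    rw [injective_iff_map_eq_zero]
    intro w hw
    let mkP := LocalizedModule.mkLinearMap q.primeCompl (Fin r → P)
    obtain ⟨⟨y, t⟩, ht⟩ := IsLocalizedModule.surj q.primeCompl (AlgebraTensorModule.rTensor R X mkP) w
    have h1 : AlgebraTensorModule.rTensor R X mkq (AlgebraTensorModule.rTensor R X α y) = 0 := by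
      have h' : AlgebraTensorModule.rTensor R X ((LocalizedModule.map q.primeCompl α).restrictScalars P)
          (AlgebraTensorModule.rTensor R X mkP y) = 0 := by rw [← ht, LinearMap.map_smul_of_tower, hw, smul_zero]
      rw [← h']
      clear h' ht
      induction y using TensorProduct.induction_on with
      | zero => simp
      | tmul a b => simp [mkP, mkq, LocalizedModule.map_mk]
      | add a b ha hb => simp only [map_add, ha, hb]
    obtain ⟨s, hs, hsy⟩ := hker X y h1
    have h2 : AlgebraTensorModule.rTensor R X mkP y = 0 :=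
      (IsLocalizedModule.eq_zero_iff q.primeCompl _).2 ⟨⟨s, hs⟩, hsy⟩
    rw [← ht] at h2
    exact ((Module.End.isUnit_iff _).1 (IsLocalizedModule.map_units (AlgebraTensorModule.rTensor R X mkP) t)).1
      (h2.trans (map_zero _).symm)
  have hinj : Function.Injective (LocalizedModule.map q.primeCompl α) := by
    intro a b hab
    have h := hUI R
    have h1 : ((LocalizedModule.map q.primeCompl α).restrictScalars R).lTensor R ((1 : R) ⊗ₜ[R] a) =
        ((LocalizedModule.map q.primeCompl α).restrictScalars R).lTensor R ((1 : R) ⊗ₜ[R] b) := by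
      simp only [LinearMap.lTensor_tmul, LinearMap.coe_restrictScalars, hab]
    simpa using congrArg (TensorProduct.lid R _) (h h1)
  refine ⟨hUI, hinj, fun n => ?_⟩
  obtain ⟨x, hx⟩ := hφ (mkp n)
  obtain ⟨⟨y, s⟩, hy⟩ := IsLocalizedModule.surj p.primeCompl ι x
  have h1 : mkp (α y) = mkp ((s : P) • n) := by
    rw [← hαφ, show ι y = (s : P) • x from hy.symm, LinearMap.map_smul_of_tower, hx, map_smul]

  obtain ⟨t, ht⟩ := IsLocalizedModule.exists_of_eq (S := p.primeCompl) (f := mkp) h1
  refine ⟨(t : P) * s, fun h => (‹p.IsPrime›.mem_or_mem h).elim t.2 s.2, ⟨(t : P) • y, ?_⟩⟩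
  rw [map_smul, mul_smul]
  exact ht

/-- **A free module approximating a flat module at the generic point of the fibre.** -/
theorem exists_generic [Algebra.FinitePresentation R P] [Module.Flat R P]
    {N : Type u} [AddCommGroup N] [Module P N] [Module R N] [IsScalarTower R P N] [Module.Finite P N]
    (𝔭 : Ideal R) [𝔭.IsPrime] (q p : Ideal P) [q.IsPrime] [p.IsPrime] (hpq : p ≤ q)
    (hq : q.comap (algebraMap R P) = 𝔭) (hp1 : p.comap (algebraMap R P) = 𝔭)
    (hp : ∀ a ∈ p, ∃ s ∉ q, s * a ∈ 𝔭.map (algebraMap R P))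
    (hred : ∀ (p' : Ideal R) [p'.IsPrime], IsReduced (p'.Fiber P))
    (hflat : Module.Flat R (LocalizedModule q.primeCompl N)) :
    ∃ (r : ℕ) (α : (Fin r → P) →ₗ[P] N),
      Module.Flat R (LocalizedModule q.primeCompl (N ⧸ LinearMap.range α)) ∧
      FlatCA.UnivInj R ((LocalizedModule.map q.primeCompl α).restrictScalars R) ∧
      Function.Injective (LocalizedModule.map q.primeCompl α) ∧
      ∀ n : N, ∃ g ∉ p, g • n ∈ LinearMap.range α := by
  obtain ⟨r, e, hspan, hind⟩ := exists_basis_mod p N
  obtain ⟨hUI, hinj, hg⟩ :=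
    univInj_of_generic 𝔭 q p hpq hq hp1 hp hred (flat_localized_of_le hpq hflat) e hspan hind
  haveI : Module.Flat R (LocalizedModule q.primeCompl N) := hflat
  let α : (Fin r → P) →ₗ[P] N := Fintype.linearCombination P e
  refine ⟨r, α, ?_, hUI, hinj, hg⟩
  refine flat_of_univInj ((LocalizedModule.map q.primeCompl α).restrictScalars R)
    ((LocalizedModule.map q.primeCompl (LinearMap.range α).mkQ).restrictScalars R) ?_ ?_ hUI
  · exact LocalizedModule.map_exact q.primeCompl _ _ (LinearMap.exact_map_mkQ_range α)
  · exact LocalizedModule.map_surjective q.primeCompl _ (Submodule.mkQ_surjective _)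

end GrothLib.RG6
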