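import Groth.Agent.Lib.RG6.FlatAt
import Groth.Agent.Lib.FibreFlat.OpenLocus
import Groth.Agent.S1192

/-!
# Finite presentation and flatness near a point where a finite module is flat
-/

set_option autoImplicit false
set_option backward.isDefEq.respectTransparency false
set_option linter.style.haveILetI false
set_option maxHeartbeats 800000

universe u

open TensorProduct

namespace GrothLib.RG6

variable {R P : Type u} [CommRing R] [CommRing P] [Algebra R P]

section

variable {N : Type u} [AddCommGroup N] [Module P N] [Module R N] [IsScalarTower R P N]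

/-- Flatness on a basic open set gives flatness at its points. -/
theorem flatAt_of_powers (g : P) (q : Ideal P) [q.IsPrime] (hg : g ∉ q)
    (h : Module.Flat R (LocalizedModule (Submonoid.powers g) N)) :
    Module.Flat R (LocalizedModule q.primeCompl N) := by
  haveI := h
  have hle : Submonoid.powers g ≤ q.primeCompl := fun _ ⟨k, hk⟩ hx =>
    hg (‹q.IsPrime›.mem_of_pow_mem k ((show g ^ k = _ from hk) ▸ hx))
  haveI := isLocalizedModule_comp (N := N) (Submonoid.powers g) q.primeCompl hle
  haveI := GrothLib.NagataFP.flat_localized (R := R) (M := LocalizedModule (Submonoid.powers g) N) q.primeCompl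
  exact Module.Flat.of_linearEquiv ((IsLocalizedModule.linearEquiv q.primeCompl
    (LocalizedModule.mkLinearMap q.primeCompl N)
    (LocalizedModule.mkLinearMap q.primeCompl (LocalizedModule (Submonoid.powers g) N) ∘ₗ
      LocalizedModule.mkLinearMap (Submonoid.powers g) N)).restrictScalars R)

/-- Flatness at the points of a basic open set gives flatness on it. -/
theorem flat_powers_of_forall (g : P)
    (H : ∀ (q : Ideal P) [q.IsPrime], g ∉ q → Module.Flat R (LocalizedModule q.primeCompl N)) :
    Module.Flat R (LocalizedModule (Submonoid.powers g) N) := by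
  let Ng := LocalizedModule (Submonoid.powers g) N
  rw [Module.Flat.iff_lTensor_preserves_injective_linearMap]
  intro M' M _ _ _ _ j hj
  rw [injective_iff_map_eq_zero]
  intro z hz
  have hrad : g ∈ (Submodule.span P {z}).annihilator.radical := by
    rw [Ideal.radical_eq_sInf, Ideal.mem_sInf]
    intro q hq
    obtain ⟨hle, hqp⟩ := hq
    by_contra hgq
    have hcompl : Submonoid.powers g ≤ q.primeCompl := fun _ ⟨k, hk⟩ hx =>
      hgq (hqp.mem_of_pow_mem k ((show g ^ k = _ from hk) ▸ hx))
    haveI := isLocalizedModule_comp (N := N) (Submonoid.powers g) q.primeCompl hcompl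
    let fq := LocalizedModule.mkLinearMap q.primeCompl Ng
    haveI : Module.Flat R (LocalizedModule q.primeCompl Ng) := by
      haveI := H q hgq
      exact Module.Flat.of_linearEquiv ((IsLocalizedModule.linearEquiv q.primeCompl
        (fq ∘ₗ LocalizedModule.mkLinearMap (Submonoid.powers g) N)
        (LocalizedModule.mkLinearMap q.primeCompl N)).restrictScalars R)
    let F := AlgebraTensorModule.rTensor R M' fq
    haveI : IsLocalizedModule q.primeCompl F := inferInstance
    have h0 : F z = 0 := by
      refine Module.Flat.lTensor_preserves_injective_linearMap (M := LocalizedModule q.primeCompl Ng) j hj ?_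
      rw [map_zero]
      have : AlgebraTensorModule.rTensor R M fq (j.lTensor Ng z) =
          j.lTensor (LocalizedModule q.primeCompl Ng) (F z) := by
        show (fq.restrictScalars R).rTensor M (j.lTensor Ng z) =
          j.lTensor (LocalizedModule q.primeCompl Ng) ((fq.restrictScalars R).rTensor M' z)
        rw [← LinearMap.comp_apply, ← LinearMap.comp_apply, LinearMap.rTensor_comp_lTensor,
          LinearMap.lTensor_comp_rTensor]
      rw [← this, hz, map_zero]
    obtain ⟨s, hs⟩ := (IsLocalizedModule.eq_zero_iff q.primeCompl F).1 h0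
    exact s.2 (hle ((Submodule.mem_annihilator_span_singleton _ _).2 hs))
  obtain ⟨k, hk⟩ := hrad
  rw [Submodule.mem_annihilator_span_singleton] at hk
  let G := AlgebraTensorModule.rTensor R M' (LocalizedModule.mkLinearMap (Submonoid.powers g) N)
  haveI : IsLocalizedModule (Submonoid.powers g) G := inferInstance
  exact ((Module.End.isUnit_iff _).1 (IsLocalizedModule.map_units (S := Submonoid.powers g) G (⟨g ^ k, k, rfl⟩ : Submonoid.powers g))).1 (hk.trans (map_zero _).symm)

end

/-- Weakly associated primes only depend on the isomorphism class. -/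
theorem weakAss_congr' {M N : Type u} [AddCommGroup M] [AddCommGroup N] [Module P M] [Module P N]
    (e : M ≃ₗ[P] N) : FlatCA.weakAss P M = FlatCA.weakAss P N := by
  have key : ∀ {M N : Type u} [AddCommGroup M] [AddCommGroup N] [Module P M] [Module P N] (e : M ≃ₗ[P] N),
      FlatCA.weakAss P M ⊆ FlatCA.weakAss P N := by
    intro M N _ _ _ _ e p ⟨m, hm⟩
    refine ⟨e m, ?_⟩
    convert hm using 3
    ext a
    rw [Submodule.mem_annihilator_span_singleton, Submodule.mem_annihilator_span_singleton, ← map_smul,
      e.map_eq_zero_iff]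
  exact (key e).antisymm (key e.symm)

/-- A flat finitely presented module over a ring with finitely many weakly associated primes has
finitely many weakly associated primes. -/
theorem finite_weakAss [Algebra.FinitePresentation R P] (hR : (FlatCA.weakAss R R).Finite)
    (N : Type u) [AddCommGroup N] [Module P N] [Module R N] [IsScalarTower R P N]
    [Module.FinitePresentation P N] [Module.Flat R N] : (FlatCA.weakAss P N).Finite := by
  rw [← weakAss_congr' (AlgebraTensorModule.rid R P N)]
  have hprime : ∀ {A M : Type u} [CommRing A] [AddCommGroup M] [Module A M] {p : Ideal A},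
      p ∈ FlatCA.weakAss A M → p.IsPrime := fun ⟨_, hm⟩ => hm.1.1
  refine Set.Finite.subset (Set.Finite.biUnion hR
    (t := fun p => {q | q ∈ FlatCA.weakAss P (N ⊗[R] R) ∧ q.under R = p}) fun p hp => ?_) fun q hq => ?_
  · haveI := hprime hp
    haveI : IsNoetherianRing (p.Fiber P) := Algebra.FiniteType.isNoetherianRing p.ResidueField _
    letI : Algebra P (p.Fiber P) := Algebra.TensorProduct.rightAlgebra
    haveI : Module.Finite (p.Fiber P) (FlatCA.fiberMod p P N) :=
      inferInstanceAs (Module.Finite (p.Fiber P) ((p.Fiber P) ⊗[P] N))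
    refine (Set.Finite.image (fun Q : Ideal (p.Fiber P) => Q.comap
      (Algebra.TensorProduct.includeRight (R := R) (A := p.ResidueField) (B := P)).toRingHom)
      (associatedPrimes.finite (p.Fiber P) (FlatCA.fiberMod p P N))).subset ?_
    rintro q ⟨hq, hqp⟩
    haveI := hprime hq
    haveI : q.LiesOver p := ⟨hqp.symm⟩
    exact ⟨_, ((Groth.Agent.S1192.result N R p q).1 hq).2, GrothLib.WeakAssFib.comap_fiberIdeal p q⟩
  · haveI := hprime hq
    obtain ⟨p, hp⟩ : ∃ p, p = q.under R := ⟨_, rfl⟩
    haveI : p.IsPrime := hp ▸ (Ideal.IsPrime.comap (algebraMap R P) (K := q))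
    haveI : q.LiesOver p := ⟨hp⟩
    have h1 := (Groth.Agent.S1192.result N R p q).1 hq
    exact Set.mem_iUnion₂.2 ⟨p, h1.1, hq, hp.symm⟩

/-- A finitely presented module mapping onto a module which is flat at a prime, bijectively at the
prime and flat near it. -/
theorem exists_model_near [Algebra.FinitePresentation R P] (N : Type u) [AddCommGroup N] [Module P N]
    [Module R N] [IsScalarTower R P N] [Module.Finite P N] (q : Ideal P) [q.IsPrime]
    (hflat : Module.Flat R (LocalizedModule q.primeCompl N)) :
    ∃ (N₀ : Type u) (_ : AddCommGroup N₀) (_ : Module P N₀) (_ : Module R N₀) (_ : IsScalarTower R P N₀)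
      (_ : Module.FinitePresentation P N₀) (φ : N₀ →ₗ[P] N) (g : P),
      Function.Surjective φ ∧ g ∉ q ∧ Module.Flat R (LocalizedModule (Submonoid.powers g) N₀) ∧
      ∀ x ∈ LinearMap.ker φ, ∃ s ∉ q, s • x = 0 := by
  classical
  haveI : Algebra.FiniteType R P := inferInstance
  haveI := fp_of_flatAt N q hflat
  let Pq := Localization.AtPrime q
  obtain ⟨k, π, hπ⟩ := Module.Finite.exists_fin' P N
  let F := Fin k → P
  let fF := LocalizedModule.mkLinearMap q.primeCompl F
  let fN := LocalizedModule.mkLinearMap q.primeCompl N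
  let πq := LocalizedModule.map q.primeCompl π
  haveI : Module.Finite Pq (LocalizedModule q.primeCompl F) := Module.Finite.of_isLocalizedModule q.primeCompl fF
  have hπq : Function.Surjective πq := fun y => by
    induction y using LocalizedModule.induction_on with
    | h m s =>
      obtain ⟨m, rfl⟩ := hπ m
      exact ⟨LocalizedModule.mk m s, by simp [πq, LocalizedModule.map_mk]⟩
  obtain ⟨G, hG⟩ := Module.FinitePresentation.fg_ker πq hπq
  have hGx : ∀ y : G, ∃ x ∈ LinearMap.ker π, ∃ s : q.primeCompl, LocalizedModule.mk x s = (y : LocalizedModule q.primeCompl F) := by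
    rintro ⟨y, hy⟩
    have hy' : πq y = 0 := by
      have : y ∈ LinearMap.ker πq := hG ▸ Submodule.subset_span hy
      exact this
    induction y using LocalizedModule.induction_on with
    | h m s =>
      rw [LocalizedModule.map_mk, ← LocalizedModule.zero_mk s, LocalizedModule.mk_eq] at hy'
      obtain ⟨u, hu⟩ := hy'
      simp only [Submonoid.smul_def, smul_zero, smul_smul] at hu
      refine ⟨((u : P) * s) • m, by rw [LinearMap.mem_ker, map_smul, hu], u * s * s, ?_⟩
      show LocalizedModule.mk (((u : P) * s) • m) (u * s * s) = LocalizedModule.mk m s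
      rw [← Submonoid.coe_mul, ← Submonoid.smul_def, LocalizedModule.mk_cancel_common_left]
  choose x hx s hs using hGx
  let K₀ : Submodule P F := Submodule.span P (Set.range x)
  have hK₀ : K₀ ≤ LinearMap.ker π := Submodule.span_le.2 (by rintro _ ⟨i, rfl⟩; exact hx i)
  haveI : Module.FinitePresentation P (F ⧸ K₀) :=
    Module.finitePresentation_of_surjective K₀.mkQ K₀.mkQ_surjective
      (by rw [Submodule.ker_mkQ]; exact Submodule.fg_span (Set.finite_range x))
  let φ : (F ⧸ K₀) →ₗ[P] N := K₀.liftQ π hK₀
  have hφ : Function.Surjective φ := fun y => by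
    obtain ⟨m, rfl⟩ := hπ y
    exact ⟨K₀.mkQ m, rfl⟩
  have hkill : ∀ z ∈ LinearMap.ker φ, ∃ u ∉ q, u • z = 0 := fun z hz => by
    obtain ⟨m, rfl⟩ := K₀.mkQ_surjective z
    have hm : π m = 0 := hz
    have h1 : fF m ∈ Submodule.span Pq (G : Set (LocalizedModule q.primeCompl F)) := by
      rw [hG]
      show πq (LocalizedModule.mk m 1) = 0
      rw [LocalizedModule.map_mk, hm, LocalizedModule.zero_mk]
    have h2 : fF m ∈ K₀.localized' Pq q.primeCompl fF := by
      refine (Submodule.span_le.2 fun y hy => ?_) h1
      rw [SetLike.mem_coe, Submodule.mem_localized']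
      refine ⟨x ⟨y, hy⟩, Submodule.subset_span ⟨⟨y, hy⟩, rfl⟩, s ⟨y, hy⟩, ?_⟩
      rw [← IsLocalizedModule.mk_eq_mk']
      exact hs ⟨y, hy⟩
    obtain ⟨m', hm', t, ht⟩ := (Submodule.mem_localized' _ _ _ _ _).1 h2
    rw [IsLocalizedModule.mk'_eq_iff, ← LinearMap.map_smul_of_tower] at ht
    obtain ⟨u, hu⟩ := IsLocalizedModule.exists_of_eq (S := q.primeCompl) (f := fF) ht
    refine ⟨(u : P) * t, (u * t).2, ?_⟩
    rw [← map_smul, Submodule.mkQ_apply, Submodule.Quotient.mk_eq_zero, mul_smul]
    have : (u : P) • (t : P) • m = (u : P) • m' := hu.symm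
    rw [this]
    exact K₀.smul_mem _ hm'
  have hbij : Function.Bijective (LocalizedModule.map q.primeCompl φ) := by
    refine ⟨?_, fun y => ?_⟩
    · rw [injective_iff_map_eq_zero]
      intro z hz
      induction z using LocalizedModule.induction_on with
      | h m s =>
        rw [LocalizedModule.map_mk, ← LocalizedModule.zero_mk s, LocalizedModule.mk_eq] at hz
        obtain ⟨v, hv⟩ := hz
        simp only [Submonoid.smul_def, smul_zero, smul_smul] at hv
        obtain ⟨u, hu, hum⟩ := hkill (((v : P) * s) • m) (by rw [LinearMap.mem_ker, map_smul, hv])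
        rw [← LocalizedModule.zero_mk s, LocalizedModule.mk_eq]
        refine ⟨⟨u, hu⟩ * v, ?_⟩
        simp only [Submonoid.smul_def, smul_zero, smul_smul, Submonoid.coe_mul]
        rw [mul_assoc, ← smul_smul]
        exact hum
    · induction y using LocalizedModule.induction_on with
      | h m s =>
        obtain ⟨m, rfl⟩ := hφ m
        exact ⟨LocalizedModule.mk m s, by simp [LocalizedModule.map_mk]⟩
  have hflat₀ : Module.Flat R (LocalizedModule q.primeCompl (F ⧸ K₀)) :=
    haveI := hflat
    Module.Flat.of_linearEquiv ((LinearEquiv.ofBijective _ hbij).restrictScalars R)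
  obtain ⟨_, ⟨g, rfl⟩, hgq, hgsub⟩ :=
    PrimeSpectrum.isTopologicalBasis_basic_opens.exists_subset_of_mem_open
      (show (⟨q, inferInstance⟩ : PrimeSpectrum P) ∈
        {q : PrimeSpectrum P | Module.Flat R (LocalizedModule q.asIdeal.primeCompl (F ⧸ K₀))} from hflat₀)
      GrothLib.FibreFlat.isOpen_flat_locus
  exact ⟨F ⧸ K₀, inferInstance, inferInstance, inferInstance, inferInstance, inferInstance, φ, g, hφ, hgq,
    flat_powers_of_forall g fun q' _ hq' => hgsub (show (⟨q', inferInstance⟩ : PrimeSpectrum P) ∈ _ from hq'), hkill⟩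

/-- With finitely many weakly associated primes in the base, elements killed at a prime are killed on
a common neighbourhood. -/
theorem exists_kill [Algebra.FinitePresentation R P] (hR : (FlatCA.weakAss R R).Finite)
    {N₀ : Type u} [AddCommGroup N₀] [Module P N₀] [Module R N₀] [IsScalarTower R P N₀]
    [Module.FinitePresentation P N₀] (q : Ideal P) [q.IsPrime] (g : P) (hg : g ∉ q)
    (hflat : Module.Flat R (LocalizedModule (Submonoid.powers g) N₀)) :
    ∃ h ∉ q, ∀ x : N₀, (∃ s ∉ q, s • x = 0) → ∃ k : ℕ, h ^ k • x = 0 := by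
  classical
  let Pg := Localization.Away g
  let Ng := LocalizedModule (Submonoid.powers g) N₀
  haveI : Algebra.FinitePresentation R Pg :=
    haveI : Algebra.FinitePresentation P Pg := IsLocalization.Away.finitePresentation g
    Algebra.FinitePresentation.trans R P Pg
  haveI := hflat
  have hW := finite_weakAss (R := R) (P := Pg) hR Ng
  let f := LocalizedModule.mkLinearMap (Submonoid.powers g) N₀
  have hex : ∀ Q : Ideal Pg, ∃ t, t ∉ q ∧ (¬ Q.comap (algebraMap P Pg) ≤ q → algebraMap P Pg t ∈ Q) := fun Q => by
    by_cases hle : Q.comap (algebraMap P Pg) ≤ q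
    · exact ⟨1, fun h => ‹q.IsPrime›.ne_top ((Ideal.eq_top_iff_one _).2 h), fun h => absurd hle h⟩
    · obtain ⟨t, ht, htq⟩ := SetLike.not_le_iff_exists.1 hle
      exact ⟨t, htq, fun _ => ht⟩
  choose t htq ht using hex
  refine ⟨g * ∏ Q ∈ hW.toFinset, t Q, fun h => (‹q.IsPrime›.mem_or_mem h).elim hg fun h' => ?_, fun x ⟨s, hs, hsx⟩ => ?_⟩
  · obtain ⟨Q, -, hQ⟩ := ‹q.IsPrime›.prod_mem_iff.1 h'
    exact htq Q hQ
  have hrad : algebraMap P Pg (∏ Q ∈ hW.toFinset, t Q) ∈ (Submodule.span Pg {f x}).annihilator.radical := by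
    rw [← Ideal.sInf_minimalPrimes, Ideal.mem_sInf]
    intro Q hQ
    have hQW : Q ∈ FlatCA.weakAss Pg Ng := ⟨f x, hQ⟩
    haveI := hQ.1.1
    have hsQ : algebraMap P Pg s ∈ Q := hQ.1.2 ((Submodule.mem_annihilator_span_singleton _ _).2
      (by rw [algebraMap_smul, ← map_smul, hsx, map_zero]))
    rw [map_prod]
    exact hQ.1.1.prod_mem_iff.2 ⟨Q, hW.mem_toFinset.2 hQW, ht Q fun hle => hs (hle hsQ)⟩
  obtain ⟨k, hk⟩ := hrad
  rw [Submodule.mem_annihilator_span_singleton, ← map_pow, algebraMap_smul, ← map_smul,
    IsLocalizedModule.eq_zero_iff (Submonoid.powers g) f] at hk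
  obtain ⟨⟨_, j, rfl⟩, hj⟩ := hk
  refine ⟨j + k, ?_⟩
  have hj' : g ^ j • (∏ Q ∈ hW.toFinset, t Q) ^ k • x = 0 := hj
  rw [smul_smul] at hj'
  rw [mul_pow, show g ^ (j + k) * (∏ Q ∈ hW.toFinset, t Q) ^ (j + k) =
    (g ^ k * (∏ Q ∈ hW.toFinset, t Q) ^ j) * (g ^ j * (∏ Q ∈ hW.toFinset, t Q) ^ k) by ring, mul_smul, hj', smul_zero]

/-- Passing the neighbourhood from the model to the module. -/
theorem good_of_kill {N N₀ : Type u} [AddCommGroup N] [Module P N] [Module R N] [IsScalarTower R P N]
    [AddCommGroup N₀] [Module P N₀] [Module R N₀] [IsScalarTower R P N₀] [Module.FinitePresentation P N₀]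
    (φ : N₀ →ₗ[P] N) (hφ : Function.Surjective φ) (g h : P)
    (hflat : Module.Flat R (LocalizedModule (Submonoid.powers g) N₀))
    (hk : ∀ x ∈ LinearMap.ker φ, ∃ k : ℕ, h ^ k • x = 0) :
    Module.FinitePresentation (Localization.Away (g * h)) (LocalizedModule (Submonoid.powers (g * h)) N) ∧
      Module.Flat R (LocalizedModule (Submonoid.powers (g * h)) N) := by
  let φf := LocalizedModule.map (Submonoid.powers (g * h)) φ
  have hbij : Function.Bijective φf := by
    refine ⟨?_, fun y => ?_⟩
    · rw [injective_iff_map_eq_zero]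
      intro z hz
      induction z using LocalizedModule.induction_on with
      | h m s =>
        rw [LocalizedModule.map_mk, ← LocalizedModule.zero_mk s, LocalizedModule.mk_eq] at hz
        obtain ⟨⟨_, i, rfl⟩, hv⟩ := hz
        simp only [Submonoid.smul_def, smul_zero, smul_smul] at hv
        obtain ⟨k, hk⟩ := hk (((g * h) ^ i * (s : P)) • m) (by rw [LinearMap.mem_ker, map_smul, hv])
        rw [← LocalizedModule.zero_mk s, LocalizedModule.mk_eq]
        refine ⟨⟨(g * h) ^ (k + i), k + i, rfl⟩, ?_⟩
        simp only [Submonoid.smul_def, smul_zero, smul_smul]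
        rw [show (g * h) ^ (k + i) * (s : P) = g ^ k * (h ^ k * ((g * h) ^ i * (s : P))) by ring,
          mul_smul (g ^ k), mul_smul (h ^ k), hk, smul_zero]
    · induction y using LocalizedModule.induction_on with
      | h m s =>
        obtain ⟨m, rfl⟩ := hφ m
        exact ⟨LocalizedModule.mk m s, by simp [φf, LocalizedModule.map_mk]⟩
  haveI : Module.Flat R (LocalizedModule (Submonoid.powers (g * h)) N₀) :=
    flat_powers_of_forall _ fun q _ hq => flatAt_of_powers g q (fun hg => hq (Ideal.mul_mem_right _ _ hg)) hflat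
  exact ⟨Module.FinitePresentation.of_equiv (LinearEquiv.ofBijective φf hbij),
    Module.Flat.of_linearEquiv ((LinearEquiv.ofBijective φf hbij).restrictScalars R).symm⟩

/-- **Over a base with finitely many weakly associated primes a finite module flat at a prime is
finitely presented and flat near it.** -/
theorem exists_good [Algebra.FinitePresentation R P] (hR : (FlatCA.weakAss R R).Finite)
    (N : Type u) [AddCommGroup N] [Module P N] [Module R N] [IsScalarTower R P N] [Module.Finite P N]
    (q : Ideal P) [q.IsPrime] (hflat : Module.Flat R (LocalizedModule q.primeCompl N)) :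
    ∃ f ∉ q, Module.FinitePresentation (Localization.Away f) (LocalizedModule (Submonoid.powers f) N) ∧
      Module.Flat R (LocalizedModule (Submonoid.powers f) N) := by
  obtain ⟨N₀, _, _, _, _, _, φ, g, hφ, hg, hflat₀, hkill⟩ := exists_model_near N q hflat
  obtain ⟨h, hh, hk⟩ := exists_kill hR q g hg hflat₀
  exact ⟨g * h, fun hm => (‹q.IsPrime›.mem_or_mem hm).elim hg hh,
    good_of_kill φ hφ g h hflat₀ fun x hx => hk x (hkill x hx)⟩

end GrothLib.RG6
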