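import Mathlib
import Groth.Prelude.Def_FlatCA
import Groth.Agent.Lib.RG6.Generic
import Groth.Agent.Lib.RG6.Crit
import Groth.Agent.Lib.RG6.Near
import Groth.Agent.Lib.FibreFlat.OpenLocus

/-!
# A basis of the fibre at the generic point, for geometrically integral fibres
-/

set_option autoImplicit false
set_option backward.isDefEq.respectTransparency false
set_option linter.style.haveILetI false
set_option maxHeartbeats 800000
set_option linter.unusedSectionVars false

universe u

open IsLocalRing TensorProduct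

namespace GrothLib.RG6

variable {R S : Type u} [CommRing R] [CommRing S] [Algebra R S]

/-- Geometrically integral fibres are domains. -/
theorem isDomain_tensor_residueField (hgi : FlatCA.GeomIntegralFibres R S) (p' : Ideal R) [p'.IsPrime] :
    IsDomain (S ⊗[R] p'.ResidueField) := by
  have sq := AlgebraicGeometry.isPullback_SpecMap_of_isPushout _ _ _ _
    (CommRingCat.isPushout_tensorProduct R p'.ResidueField S)
  have hI : AlgebraicGeometry.IsIntegral (AlgebraicGeometry.Spec (CommRingCat.of (p'.Fiber S))) :=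
    AlgebraicGeometry.GeometricallyIntegral.geometrically_isIntegral
      (f := AlgebraicGeometry.Spec.map (CommRingCat.ofHom (algebraMap R S))) _ _ _ sq.flip
  haveI : IsDomain (p'.Fiber S) := (AlgebraicGeometry.affine_isIntegral_iff (CommRingCat.of (p'.Fiber S))).1 hI
  exact (Algebra.TensorProduct.comm R S p'.ResidueField).toMulEquiv.isDomain

/-- The scalar is nonzero in the fibre: no multiple outside the prime lies in the extended prime. -/
def FibreNonzero (p' : Ideal R) (g : S) : Prop :=
  ∀ u : R, u ∉ p' → u • g ∉ p'.map (algebraMap R S)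

/-- Outside a big extended prime means nonzero in every smaller fibre, by flatness. -/
theorem fibreNonzero_of_notMem [Module.Flat R S] {p' rr : Ideal R} [p'.IsPrime] (hle : p' ≤ rr) {g : S}
    (hg : g ∉ rr.map (algebraMap R S)) : FibreNonzero p' g := by
  intro u hu hug
  refine hg (Ideal.map_mono hle ?_)
  let m : R ⧸ p' →ₗ[R] R ⧸ p' := LinearMap.lsmul R _ u
  have hm : Function.Injective m := by
    intro a b hab
    obtain ⟨a, rfl⟩ := Ideal.Quotient.mk_surjective a
    obtain ⟨b, rfl⟩ := Ideal.Quotient.mk_surjective b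
    rw [Ideal.Quotient.eq]
    have h1 : Ideal.Quotient.mk p' (u * a) = Ideal.Quotient.mk p' (u * b) := hab
    rw [Ideal.Quotient.eq, ← mul_sub] at h1
    exact (‹p'.IsPrime›.mem_or_mem h1).resolve_left hu
  have hinj := Module.Flat.lTensor_preserves_injective_linearMap (M := S) m hm
  let z : S ⊗[R] (R ⧸ p') := g ⊗ₜ[R] Ideal.Quotient.mk p' 1
  have hiff : ∀ x : S, x ⊗ₜ[R] Ideal.Quotient.mk p' 1 = 0 ↔ x ∈ p'.map (algebraMap R S) := fun x => by
    rw [← (TensorProduct.tensorQuotEquivQuotSMul S p').map_eq_zero_iff,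
      TensorProduct.tensorQuotEquivQuotSMul_tmul_mk, one_smul, Submodule.Quotient.mk_eq_zero,
      Ideal.smul_top_eq_map, Submodule.restrictScalars_mem]
  rw [← hiff] at hug ⊢
  refine hinj ?_
  rw [map_zero, LinearMap.lTensor_tmul]
  rw [TensorProduct.smul_tmul] at hug
  exact hug

/-- An element outside some prime over `p'` is nonzero in that fibre. -/
theorem fibreNonzero_of_prime (p' : Ideal R) {g : S} (Q : Ideal S) [Q.IsPrime]
    (hQ : Q.comap (algebraMap R S) = p') (hg : g ∉ Q) : FibreNonzero p' g := by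
  intro u hu hug
  have hle : p'.map (algebraMap R S) ≤ Q := Ideal.map_le_iff_le_comap.2 hQ.ge
  rcases ‹Q.IsPrime›.mem_or_mem (show algebraMap R S u * g ∈ Q by rw [← Algebra.smul_def]; exact hle hug) with h | h
  · exact hu (hQ ▸ h)
  · exact hg h

/-- **Elements nonzero in integral fibres are regular after any tensor product.** -/
theorem exists_mem_smul_eq_zero [Algebra.FinitePresentation R S] [Module.Flat R S]
    (hgi : FlatCA.GeomIntegralFibres R S) (T : Submonoid R) (g : S)
    (hg : ∀ (p' : Ideal R) [p'.IsPrime], Disjoint (p' : Set R) T → FibreNonzero p' g)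
    {r : ℕ} (Q : Type u) [AddCommGroup Q] [Module R Q] (z : (Fin r → S) ⊗[R] Q) (hz : g • z = 0) :
    ∃ t ∈ Algebra.algebraMapSubmonoid S T, t • z = 0 := by
  classical
  let I : Ideal S := LinearMap.ker (LinearMap.toSpanSingleton S _ z)
  by_contra! hne
  have hdisj : Disjoint (I : Set S) (Algebra.algebraMapSubmonoid S T) :=
    Set.disjoint_left.2 fun t ht1 ht2 => hne t ht2 ht1
  obtain ⟨P, hP, hIP, hPT⟩ := Ideal.exists_le_prime_disjoint I _ hdisj
  have hd : Disjoint ((P.comap (algebraMap R S) : Ideal R) : Set R) T :=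
    Set.disjoint_left.2 fun a ha haT => Set.disjoint_left.1 hPT ha ⟨a, haT, rfl⟩
  let p' : Ideal R := P.comap (algebraMap R S)
  haveI := isDomain_tensor_residueField hgi p'
  have hg1 : (g ⊗ₜ[R] (1 : p'.ResidueField)) ≠ 0 := fun h0 => by
    obtain ⟨u, hu, hmem⟩ := GrothLib.WeakAssFib.exists_smul_mem_of_tmul_one_eq_zero p' h0
    rw [Ideal.smul_top_eq_map] at hmem
    exact hg p' hd u hu hmem
  haveI : Module.Flat R (Fin r → S) := flat_pi r
  obtain ⟨t, ht, htz⟩ := GrothLib.FibreFlat.univ_regular (A := R) (K := p'.ResidueField) (M := Fin r → S) P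
    (GrothLib.NagataFP.flat_localized (R := R) (M := Fin r → S) P.primeCompl)
    (Ideal.ker_algebraMap_residueField p') g (fun w hw => ⟨1, P.one_notMem, by
      rw [one_smul]
      let pr : Fin r → ((Fin r → S) ⊗[R] p'.ResidueField →ₗ[S] S ⊗[R] p'.ResidueField) := fun i =>
        AlgebraTensorModule.rTensor R p'.ResidueField (LinearMap.proj i)
      have hwi : ∀ i, pr i w = 0 := fun i => by
        have h1 := congrArg (pr i) hw
        rw [map_smul, map_zero, Algebra.smul_def] at h1
        exact (mul_eq_zero.1 h1).resolve_left hg1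
      have hsum : ∀ w, ∑ i, AlgebraTensorModule.rTensor R p'.ResidueField
          (LinearMap.single S (fun _ : Fin r => S) i) (pr i w) = w := fun w => by
        induction w using TensorProduct.induction_on with
        | zero => simp
        | tmul a b =>
          simp only [pr, AlgebraTensorModule.rTensor_tmul, ← TensorProduct.sum_tmul]
          rw [show (∑ i, LinearMap.single S (fun _ : Fin r => S) i (LinearMap.proj (R := S) i a)) = a from
            Finset.univ_sum_single a]
        | add a b ha hb => simp only [map_add, Finset.sum_add_distrib, ha, hb]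
      rw [← hsum w]
      simp [hwi]⟩) Q z hz
  exact ht (hIP htz)

variable {M N : Type u} [AddCommGroup M] [Module S M] [Module R M] [IsScalarTower R S M]
  [AddCommGroup N] [Module S N] [Module R N] [IsScalarTower R S N]

/-- Kernel elements of all the tensored maps are killed by the submonoid. -/
def KilledKer (R : Type u) [CommRing R] {S M N : Type u} [CommRing S] [Algebra R S] [AddCommGroup M] [Module S M]
    [Module R M] [IsScalarTower R S M] [AddCommGroup N] [Module S N] [Module R N] [IsScalarTower R S N]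
    (T : Submonoid S) (α : M →ₗ[S] N) : Prop :=
  ∀ (Q : Type u) [AddCommGroup Q] [Module R Q] (z : M ⊗[R] Q),
    AlgebraTensorModule.rTensor R Q α z = 0 → ∃ t ∈ T, t • z = 0

theorem KilledKer.mono {T T' : Submonoid S} {α : M →ₗ[S] N} (h : KilledKer R T α) (hle : T ≤ T') :
    KilledKer R T' α := fun Q _ _ z hz => by
  obtain ⟨t, ht, htz⟩ := h Q z hz
  exact ⟨t, hle ht, htz⟩

theorem univInj_iff_killedKer (α : M →ₗ[S] N) :
    FlatCA.UnivInj R (α.restrictScalars R) ↔ KilledKer R ⊥ α := by
  constructor
  · intro h Q _ _ z hz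
    refine ⟨1, (⊥ : Submonoid S).one_mem, ?_⟩
    rw [one_smul]
    exact ((LinearMap.lTensor_inj_iff_rTensor_inj Q (α.restrictScalars R)).1 (h Q)) (hz.trans (map_zero _).symm)
  · intro h Q _ _
    rw [LinearMap.lTensor_inj_iff_rTensor_inj, injective_iff_map_eq_zero]
    intro z hz
    obtain ⟨t, ht, htz⟩ := h Q z hz
    rwa [Submonoid.mem_bot.1 ht, one_smul] at htz

theorem rTensor_map_mk (T : Submonoid S) (α : M →ₗ[S] N) (Q : Type u) [AddCommGroup Q] [Module R Q]
    (y : M ⊗[R] Q) :
    AlgebraTensorModule.rTensor R Q ((LocalizedModule.map T α).restrictScalars S)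
        (AlgebraTensorModule.rTensor R Q (LocalizedModule.mkLinearMap T M) y) =
      AlgebraTensorModule.rTensor R Q (LocalizedModule.mkLinearMap T N) (AlgebraTensorModule.rTensor R Q α y) := by
  induction y using TensorProduct.induction_on with
  | zero => simp
  | tmul a b => simp [LocalizedModule.map_mk]
  | add a b ha hb => simp only [map_add, ha, hb]

theorem univInj_map_iff_killedKer (T : Submonoid S) (α : M →ₗ[S] N) :
    FlatCA.UnivInj R ((LocalizedModule.map T α).restrictScalars R) ↔ KilledKer R T α := by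
  constructor
  · intro h Q _ _ z hz
    have h1 := rTensor_map_mk T α Q z
    rw [hz, map_zero] at h1
    have h2 : AlgebraTensorModule.rTensor R Q (LocalizedModule.mkLinearMap T M) z = 0 :=
      ((LinearMap.lTensor_inj_iff_rTensor_inj Q ((LocalizedModule.map T α).restrictScalars R)).1 (h Q))
        (h1.trans (map_zero _).symm)
    obtain ⟨t, ht⟩ := (IsLocalizedModule.eq_zero_iff T _).1 h2
    exact ⟨t, t.2, ht⟩
  · intro h Q _ _
    rw [LinearMap.lTensor_inj_iff_rTensor_inj]
    show Function.Injective (AlgebraTensorModule.rTensor R Q ((LocalizedModule.map T α).restrictScalars S))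
    rw [injective_iff_map_eq_zero]
    intro w hw
    let mkM := AlgebraTensorModule.rTensor R Q (LocalizedModule.mkLinearMap T M)
    obtain ⟨⟨y, t⟩, ht⟩ := IsLocalizedModule.surj T mkM w
    have h1 : AlgebraTensorModule.rTensor R Q (LocalizedModule.mkLinearMap T N)
        (AlgebraTensorModule.rTensor R Q α y) = 0 := by
      rw [← rTensor_map_mk, ← show (t : S) • w = mkM y from ht, LinearMap.map_smul_of_tower, hw, smul_zero]
    obtain ⟨s, hs⟩ := (IsLocalizedModule.eq_zero_iff T _).1 h1
    obtain ⟨t', ht', h2⟩ := h Q ((s : S) • y) (by rw [map_smul]; exact hs)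
    have h3 : mkM y = 0 := by
      rw [IsLocalizedModule.eq_zero_iff T mkM]
      exact ⟨⟨t', ht'⟩ * s, by rw [mul_smul]; exact h2⟩
    exact ((Module.End.isUnit_iff _).1 (IsLocalizedModule.map_units mkM t)).1
      ((show (t : S) • w = mkM y from ht).trans h3 |>.trans (map_zero _).symm)

omit [Algebra R S] [Module R M] [IsScalarTower R S M] [Module R N] [IsScalarTower R S N] in
theorem injective_map_iff (T : Submonoid S) (α : M →ₗ[S] N) :
    Function.Injective (LocalizedModule.map T α) ↔ ∀ y, α y = 0 → ∃ t ∈ T, t • y = 0 := by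
  constructor
  · intro h y hy
    have h1 : LocalizedModule.map T α (LocalizedModule.mkLinearMap T M y) = 0 := by
      simp [LocalizedModule.map_mk, hy]
    obtain ⟨t, ht⟩ := (IsLocalizedModule.eq_zero_iff T _).1 (h (h1.trans (map_zero _).symm))
    exact ⟨t, t.2, ht⟩
  · intro h
    rw [injective_iff_map_eq_zero]
    intro w hw
    induction w using LocalizedModule.induction_on with
    | _ m s =>
      rw [LocalizedModule.map_mk, ← LocalizedModule.zero_mk (1 : T)] at hw
      obtain ⟨u, hu⟩ := LocalizedModule.mk_eq.1 hw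
      obtain ⟨t, ht, h1⟩ := h ((u : S) • m) (by simpa [Submonoid.smul_def] using hu)
      rw [← LocalizedModule.zero_mk (1 : T), LocalizedModule.mk_eq]
      exact ⟨⟨t, ht⟩ * u, by simpa [Submonoid.smul_def, mul_smul] using h1⟩

/-- A bijective localization has killed kernels. -/
theorem killedKer_of_bijective (T : Submonoid S) (α : M →ₗ[S] N)
    (h : Function.Bijective (LocalizedModule.map T α)) : KilledKer R T α := by
  rw [← univInj_map_iff_killedKer]
  exact fun Q _ _ => (LinearEquiv.lTensor Q
    (LinearEquiv.ofBijective ((LocalizedModule.map T α).restrictScalars R) h)).injective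

/-- **Propagation of universal injectivity from the generic point of the fibres.** -/
theorem killedKer_of_regular [Algebra.FinitePresentation R S] [Module.Flat R S]
    (hgi : FlatCA.GeomIntegralFibres R S) {r : ℕ} {α : (Fin r → S) →ₗ[S] N} (G : Submonoid S) (T : Submonoid R)
    (hG : ∀ g ∈ G, ∀ (p' : Ideal R) [p'.IsPrime], Disjoint (p' : Set R) T → FibreNonzero p' g)
    (h : KilledKer R G α) : KilledKer R (Algebra.algebraMapSubmonoid S T) α := fun Q _ _ z hz => by
  obtain ⟨g, hg, hgz⟩ := h Q z hz
  exact exists_mem_smul_eq_zero hgi T g (hG g hg) Q z hgz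

/-- The same for injectivity. -/
theorem injective_map_of_regular [Algebra.FinitePresentation R S] [Module.Flat R S]
    (hgi : FlatCA.GeomIntegralFibres R S) {r : ℕ} {α : (Fin r → S) →ₗ[S] N} (G : Submonoid S) (T : Submonoid R)
    (hG : ∀ g ∈ G, ∀ (p' : Ideal R) [p'.IsPrime], Disjoint (p' : Set R) T → FibreNonzero p' g)
    (h : Function.Injective (LocalizedModule.map G α)) :
    Function.Injective (LocalizedModule.map (Algebra.algebraMapSubmonoid S T) α) := by
  rw [injective_map_iff] at h ⊢
  intro y hy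
  obtain ⟨g, hg, hgy⟩ := h y hy
  obtain ⟨t, ht, htz⟩ := exists_mem_smul_eq_zero hgi T g (hG g hg) R (y ⊗ₜ[R] (1 : R))
    (by rw [TensorProduct.smul_tmul', hgy, TensorProduct.zero_tmul])
  refine ⟨t, ht, ?_⟩
  have := congrArg (TensorProduct.rid R (Fin r → S)) htz
  simpa [TensorProduct.smul_tmul'] using this

section Basis

variable [Module.Finite S N] (𝔭 : Ideal S) [𝔭.IsPrime]

omit [Algebra R S] [Module R N] [IsScalarTower R S N] [Module.Finite S N] in
theorem exists_smul_mem_of_mk_mem {n : N}
    (h : LocalizedModule.mkLinearMap 𝔭.primeCompl N n ∈ maximalIdeal (Localization.AtPrime 𝔭) •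
      (⊤ : Submodule (Localization.AtPrime 𝔭) (LocalizedModule 𝔭.primeCompl N))) :
    ∃ t ∉ 𝔭, t • n ∈ 𝔭 • (⊤ : Submodule S N) := by
  let mk := LocalizedModule.mkLinearMap 𝔭.primeCompl N
  suffices hx : ∀ x ∈ maximalIdeal (Localization.AtPrime 𝔭) •
      (⊤ : Submodule (Localization.AtPrime 𝔭) (LocalizedModule 𝔭.primeCompl N)),
      ∃ (t : 𝔭.primeCompl) (m : N), m ∈ 𝔭 • (⊤ : Submodule S N) ∧ (t : S) • x = mk m by
    obtain ⟨t, m, hm, htm⟩ := hx _ h
    rw [← map_smul] at htm
    obtain ⟨c, hc⟩ := IsLocalizedModule.exists_of_eq (S := 𝔭.primeCompl) (f := mk) htm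
    refine ⟨(c : S) * t, fun hh => (‹𝔭.IsPrime›.mem_or_mem hh).elim c.2 t.2, ?_⟩
    rw [mul_smul, show (c : S) • (t : S) • n = (c : S) • m from hc]
    exact Submodule.smul_mem _ _ hm
  intro x hx
  refine Submodule.smul_induction_on hx (fun a ha y _ => ?_) ?_
  · obtain ⟨⟨a', s⟩, has⟩ := IsLocalization.surj 𝔭.primeCompl a
    obtain ⟨⟨m, u⟩, hmu⟩ := IsLocalizedModule.surj 𝔭.primeCompl mk y
    have ha' : a' ∈ 𝔭 := by
      rw [← IsLocalization.AtPrime.to_map_mem_maximal_iff (Localization.AtPrime 𝔭) 𝔭, ← has]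
      exact Ideal.mul_mem_right _ _ ha
    refine ⟨s * u, a' • m, Submodule.smul_mem_smul ha' trivial, ?_⟩
    rw [map_smul, ← hmu, Submonoid.smul_def, ← algebraMap_smul (Localization.AtPrime 𝔭) a',
      ← algebraMap_smul (Localization.AtPrime 𝔭) ((s * u : 𝔭.primeCompl) : S),
      ← algebraMap_smul (Localization.AtPrime 𝔭) (u : S) y, Submonoid.coe_mul, map_mul, ← has, smul_smul, smul_smul]
    congr 1
    ring
  · rintro a b ⟨t, m, hm, h1⟩ ⟨t', m', hm', h2⟩
    refine ⟨t * t', (t' : S) • m + (t : S) • m', add_mem (Submodule.smul_mem _ _ hm) (Submodule.smul_mem _ _ hm'), ?_⟩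
    rw [map_add, map_smul, map_smul, ← h1, ← h2, Submonoid.coe_mul, smul_add, smul_smul, smul_smul,
      mul_comm (t : S)]

omit [Algebra R S] [Module R N] [IsScalarTower R S N] [Module.Finite S N] in
theorem mk_mem_of_mem {n : N} (h : n ∈ 𝔭 • (⊤ : Submodule S N)) :
    LocalizedModule.mkLinearMap 𝔭.primeCompl N n ∈ maximalIdeal (Localization.AtPrime 𝔭) •
      (⊤ : Submodule (Localization.AtPrime 𝔭) (LocalizedModule 𝔭.primeCompl N)) := by
  refine Submodule.smul_induction_on h (fun a ha y _ => ?_) fun a b ha hb => by rw [map_add]; exact add_mem ha hb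
  rw [map_smul, ← algebraMap_smul (Localization.AtPrime 𝔭) a]
  exact Submodule.smul_mem_smul
    ((IsLocalization.AtPrime.to_map_mem_maximal_iff (Localization.AtPrime 𝔭) 𝔭 a).2 ha) trivial

omit [Algebra R S] [Module R N] [IsScalarTower R S N] [Module.Finite S N] in
theorem exists_smul_mem_of_one_tmul {n : N} (h : (1 : 𝔭.ResidueField) ⊗ₜ[S] n = 0) :
    ∃ u ∉ 𝔭, u • n ∈ 𝔭 • (⊤ : Submodule S N) := by
  refine GrothLib.WeakAssFib.exists_smul_mem_of_tmul_one_eq_zero 𝔭 ?_
  rw [← TensorProduct.comm_tmul, h, map_zero]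

omit [Algebra R S] [Module R N] [IsScalarTower R S N] [Module.Finite S N] in
theorem one_tmul_eq_zero_of_smul {n : N} {t : S} (ht : t ∉ 𝔭) (h : t • n ∈ 𝔭 • (⊤ : Submodule S N)) :
    (1 : 𝔭.ResidueField) ⊗ₜ[S] n = 0 := by
  have h1 : (t • n) ⊗ₜ[S] (1 : 𝔭.ResidueField) = 0 := tmul_one_eq_zero_of_mem 𝔭 h
  have h2 : n ⊗ₜ[S] (1 : 𝔭.ResidueField) = 0 := eq_zero_of_smul_fibre 𝔭 ht (by rw [TensorProduct.smul_tmul', h1])
  rw [← TensorProduct.comm_tmul, h2, map_zero]

omit [Algebra R S] [Module R N] [IsScalarTower R S N] [Module.Finite S N] in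
theorem comb_eq {r : ℕ} (α : (Fin r → S) →ₗ[S] N) :
    Fintype.linearCombination S (fun i => α (Pi.single i 1)) = α :=
  (Pi.basisFun S (Fin r)).ext fun i => by simp [Fintype.linearCombination_apply, Pi.single_apply]

omit [Algebra R S] [Module R N] [IsScalarTower R S N] [Module.Finite S N] in
theorem mk_comb {r : ℕ} (e : Fin r → N) (y : Fin r → S) :
    LocalizedModule.mkLinearMap 𝔭.primeCompl N (Fintype.linearCombination S e y) =
      ∑ i, algebraMap S (Localization.AtPrime 𝔭) (y i) • LocalizedModule.mkLinearMap 𝔭.primeCompl N (e i) := by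
  simp only [Fintype.linearCombination_apply, map_sum, map_smul]
  exact Finset.sum_congr rfl fun i _ => (algebraMap_smul (Localization.AtPrime 𝔭) (y i) _).symm

omit [Algebra R S] [Module R N] [IsScalarTower R S N] in
/-- A basis of the residual module gives minimal generators of the localization. -/
theorem span_ind_of_bijective {r : ℕ} (α : (Fin r → S) →ₗ[S] N)
    (h : Function.Bijective (α.baseChange 𝔭.ResidueField)) :
    Submodule.span (Localization.AtPrime 𝔭)
        (Set.range fun i => LocalizedModule.mkLinearMap 𝔭.primeCompl N (α (Pi.single i 1))) = ⊤ ∧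
      ∀ x : Fin r → Localization.AtPrime 𝔭,
        ∑ i, x i • LocalizedModule.mkLinearMap 𝔭.primeCompl N (α (Pi.single i 1)) ∈
          maximalIdeal (Localization.AtPrime 𝔭) •
            (⊤ : Submodule (Localization.AtPrime 𝔭) (LocalizedModule 𝔭.primeCompl N)) →
        ∀ i, x i ∈ maximalIdeal (Localization.AtPrime 𝔭) := by
  classical
  let A := Localization.AtPrime 𝔭
  let mk := LocalizedModule.mkLinearMap 𝔭.primeCompl N
  have hc := comb_eq α
  constructor
  · set U := Submodule.span A (Set.range fun i => mk (α (Pi.single i 1))) with hU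
    haveI : Module.Finite A (LocalizedModule 𝔭.primeCompl N) := Module.Finite.of_isLocalizedModule 𝔭.primeCompl mk
    refine eq_top_iff.2 (Submodule.le_of_le_smul_of_le_jacobson_bot Module.Finite.fg_top
      (maximalIdeal_le_jacobson _) fun x _ => ?_)
    obtain ⟨⟨n, s⟩, hns⟩ := IsLocalizedModule.surj 𝔭.primeCompl mk x
    suffices hn : mk n ∈ U ⊔ maximalIdeal A • ⊤ by
      rw [← hns, Submonoid.smul_def, ← algebraMap_smul A (s : S)] at hn
      exact (Submodule.smul_mem_iff_of_isUnit _ (IsLocalization.map_units A s)).1 hn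
    obtain ⟨w, hw⟩ := h.2 ((1 : 𝔭.ResidueField) ⊗ₜ[S] n)
    obtain ⟨b, hb, y, hy⟩ := GrothLib.WeakAssFib.exists_smul_eq_tmul_one 𝔭 (TensorProduct.comm S _ _ w)
    have hby : b • w = (1 : 𝔭.ResidueField) ⊗ₜ[S] y := by
      apply (TensorProduct.comm S 𝔭.ResidueField (Fin r → S)).injective
      rw [map_smul, hy, TensorProduct.comm_tmul]
    have h1 : (1 : 𝔭.ResidueField) ⊗ₜ[S] (b • n - α y) = 0 := by
      rw [TensorProduct.tmul_sub, TensorProduct.tmul_smul, ← hw, ← LinearMap.map_smul_of_tower, hby,
        LinearMap.baseChange_tmul, sub_self]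
    obtain ⟨u, hu, hmem⟩ := exists_smul_mem_of_one_tmul 𝔭 h1
    have h2 : mk (u • (b • n - α y)) ∈ U ⊔ maximalIdeal A • ⊤ := Submodule.mem_sup_right (mk_mem_of_mem 𝔭 hmem)
    have h3 : mk (α (u • y)) ∈ U ⊔ maximalIdeal A • ⊤ := by
      refine Submodule.mem_sup_left ?_
      rw [← hc]
      change LocalizedModule.mkLinearMap 𝔭.primeCompl N _ ∈ U
      rw [mk_comb]
      exact Submodule.sum_mem _ fun i _ => Submodule.smul_mem _ _ (Submodule.subset_span ⟨i, rfl⟩)
    have h4 := add_mem h2 h3
    rw [smul_sub, ← map_smul, map_sub, sub_add_cancel, smul_smul, map_smul, ← algebraMap_smul A (u * b)] at h4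
    exact (Submodule.smul_mem_iff_of_isUnit _ (IsLocalization.map_units A
      (⟨u * b, fun hh => (‹𝔭.IsPrime›.mem_or_mem hh).elim hu hb⟩ : 𝔭.primeCompl))).1 h4
  · intro x hx i
    obtain ⟨d, hd⟩ := IsLocalization.exist_integer_multiples 𝔭.primeCompl Finset.univ x
    choose y hy using fun i => hd i (Finset.mem_univ i)
    have hmem : mk (α y) ∈ maximalIdeal A • (⊤ : Submodule A (LocalizedModule 𝔭.primeCompl N)) := by
      rw [← hc]
      change LocalizedModule.mkLinearMap 𝔭.primeCompl N _ ∈ _
      rw [mk_comb]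
      have := Submodule.smul_mem _ (algebraMap S A d) hx
      rw [Finset.smul_sum] at this
      convert this using 2 with i
      rw [hy i, Algebra.smul_def, mul_smul]
    obtain ⟨t, ht, htn⟩ := exists_smul_mem_of_mk_mem 𝔭 hmem
    have h0 : (1 : 𝔭.ResidueField) ⊗ₜ[S] y = 0 := h.1 (by
      rw [LinearMap.baseChange_tmul, one_tmul_eq_zero_of_smul 𝔭 ht htn, map_zero])
    have hyi : y i ∈ 𝔭 := by
      obtain ⟨u, hu, hm⟩ := exists_smul_mem_of_one_tmul 𝔭 h0
      have : u * y i ∈ 𝔭 := by
        refine Submodule.smul_induction_on (p := fun v : Fin r → S => v i ∈ 𝔭) hm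
          (fun a ha m _ => by rw [Pi.smul_apply, smul_eq_mul]; exact Ideal.mul_mem_right _ _ ha)
          fun a b ha hb => by rw [Pi.add_apply]; exact add_mem ha hb
      exact (‹𝔭.IsPrime›.mem_or_mem this).resolve_left hu
    have h5 := (IsLocalization.AtPrime.to_map_mem_maximal_iff A 𝔭 (y i)).2 hyi
    rw [hy i, Algebra.smul_def] at h5
    exact (Ideal.unit_mul_mem_iff_mem _ (IsLocalization.map_units A d)).1 h5

omit [Algebra R S] [Module R N] [IsScalarTower R S N] in
/-- Surjectivity after localizing at the prime. -/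
theorem surjective_map_of_bijective {r : ℕ} (α : (Fin r → S) →ₗ[S] N)
    (h : Function.Bijective (α.baseChange 𝔭.ResidueField)) :
    Function.Surjective (LocalizedModule.map 𝔭.primeCompl α) := by
  rw [← LinearMap.range_eq_top, eq_top_iff, ← (span_ind_of_bijective 𝔭 α h).1, Submodule.span_le]
  rintro _ ⟨i, rfl⟩
  exact ⟨LocalizedModule.mkLinearMap 𝔭.primeCompl (Fin r → S) (Pi.single i 1), by simp [LocalizedModule.map_mk]⟩

omit [Algebra R S] [Module R N] [IsScalarTower R S N] in
/-- Lifting a basis of the residual module. -/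
theorem exists_bijective_baseChange :
    ∃ (r : ℕ) (α : (Fin r → S) →ₗ[S] N), Function.Bijective (α.baseChange 𝔭.ResidueField) := by
  classical
  obtain ⟨r, e, hspan, hind⟩ := exists_basis_mod 𝔭 N
  refine ⟨r, Fintype.linearCombination S e, ?_, ?_⟩
  · rw [injective_iff_map_eq_zero]
    intro w hw
    obtain ⟨b, hb, y, hy⟩ := GrothLib.WeakAssFib.exists_smul_eq_tmul_one 𝔭 (TensorProduct.comm S _ _ w)
    have hby : b • w = (1 : 𝔭.ResidueField) ⊗ₜ[S] y := by
      apply (TensorProduct.comm S 𝔭.ResidueField (Fin r → S)).injective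
      rw [map_smul, hy, TensorProduct.comm_tmul]
    have h1 : (1 : 𝔭.ResidueField) ⊗ₜ[S] Fintype.linearCombination S e y = 0 := by
      rw [← LinearMap.baseChange_tmul, ← hby, LinearMap.map_smul_of_tower, hw, smul_zero]
    obtain ⟨u, hu, hm⟩ := exists_smul_mem_of_one_tmul 𝔭 h1
    rw [← map_smul] at hm
    have h2 := mk_mem_of_mem 𝔭 hm
    rw [mk_comb] at h2
    have h3 : ∀ i, y i ∈ 𝔭 := fun i => by
      have := (IsLocalization.AtPrime.to_map_mem_maximal_iff (Localization.AtPrime 𝔭) 𝔭 _).1 (hind _ h2 i)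
      rw [Pi.smul_apply, smul_eq_mul] at this
      exact (‹𝔭.IsPrime›.mem_or_mem this).resolve_left hu
    have h4 : (1 : 𝔭.ResidueField) ⊗ₜ[S] y = 0 := by
      rw [← TensorProduct.comm_tmul, tmul_one_eq_zero_of_mem 𝔭
        (mem_smul_top_pi (A := S) 𝔭 y fun i => by rw [Algebra.algebraMap_self, Ideal.map_id]; exact h3 i),
        map_zero]
    have hu' : algebraMap S 𝔭.ResidueField b ≠ 0 := fun h0 => hb (Ideal.algebraMap_residueField_eq_zero.1 h0)
    rw [← hby, ← algebraMap_smul 𝔭.ResidueField b w] at h4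
    exact (smul_eq_zero.1 h4).resolve_left hu'
  · rw [← LinearMap.range_eq_top, eq_top_iff]
    intro w _
    induction w using TensorProduct.induction_on with
    | zero => exact zero_mem _
    | add a b ha hb => exact add_mem (ha trivial) (hb trivial)
    | tmul c n =>
      obtain ⟨x, hx⟩ := (Submodule.mem_span_range_iff_exists_fun _).1
        (hspan.ge (Submodule.mem_top (x := LocalizedModule.mkLinearMap 𝔭.primeCompl N n)))
      obtain ⟨d, hd⟩ := IsLocalization.exist_integer_multiples 𝔭.primeCompl Finset.univ x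
      choose y hy using fun i => hd i (Finset.mem_univ i)
      have h1 : LocalizedModule.mkLinearMap 𝔭.primeCompl N ((d : S) • n) =
          LocalizedModule.mkLinearMap 𝔭.primeCompl N (Fintype.linearCombination S e y) := by
        rw [mk_comb, map_smul, ← hx, Finset.smul_sum]
        exact Finset.sum_congr rfl fun i _ => by rw [hy i, smul_assoc]
      obtain ⟨t, ht⟩ := IsLocalizedModule.exists_of_eq (S := 𝔭.primeCompl) h1
      have ht' : ((t : S) * d) • n = Fintype.linearCombination S e ((t : S) • y) := by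
        rw [map_smul, mul_smul]; exact ht
      have hu : algebraMap S 𝔭.ResidueField ((t : S) * d) ≠ 0 := fun h0 =>
        (‹𝔭.IsPrime›.mem_or_mem (Ideal.algebraMap_residueField_eq_zero.1 h0)).elim t.2 d.2
      refine ⟨(c * (algebraMap S 𝔭.ResidueField ((t : S) * d))⁻¹) ⊗ₜ[S] ((t : S) • y), ?_⟩
      rw [LinearMap.baseChange_tmul, ← ht', ← TensorProduct.smul_tmul, Algebra.smul_def, mul_left_comm,
        mul_inv_cancel₀ hu, mul_one]

end Basis

section Cokernel

variable (q : Ideal S) [q.IsPrime] [Module.Flat R S] {r : ℕ} (α : (Fin r → S) →ₗ[S] N)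

/-- The module is flat when the map is injective with flat cokernel. -/
theorem flatAt_of_injective (h : Function.Injective (LocalizedModule.map q.primeCompl α))
    (hC : FlatCA.FlatAt R q (N ⧸ LinearMap.range α)) : FlatCA.FlatAt R q N := by
  haveI : Module.Flat R (LocalizedModule q.primeCompl (N ⧸ LinearMap.range α)) := hC
  haveI : Module.Flat R (Fin r → S) := flat_pi r
  haveI : Module.Flat R (LocalizedModule q.primeCompl (Fin r → S)) :=
    GrothLib.NagataFP.flat_localized (R := R) (M := Fin r → S) q.primeCompl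
  let f := (LocalizedModule.map q.primeCompl α).restrictScalars R
  let g := (LocalizedModule.map q.primeCompl (LinearMap.range α).mkQ).restrictScalars R
  have hex : Function.Exact f g := LocalizedModule.map_exact q.primeCompl _ _ (LinearMap.exact_map_mkQ_range α)
  have hs : Function.Surjective g := LocalizedModule.map_surjective q.primeCompl _ (Submodule.mkQ_surjective _)
  exact flat_of_exact f g hex hs fun X _ _ => LinearMap.lTensor_injective_of_exact_of_flat g hs f h hex X

/-- The cokernel is flat when the map is universally injective. -/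
theorem flatAt_coker (T : Submonoid S) (hT : T ≤ q.primeCompl) (h : KilledKer R T α)
    (hN : FlatCA.FlatAt R q N) : FlatCA.FlatAt R q (N ⧸ LinearMap.range α) := by
  haveI : Module.Flat R (LocalizedModule q.primeCompl N) := hN
  refine flat_of_univInj ((LocalizedModule.map q.primeCompl α).restrictScalars R)
    ((LocalizedModule.map q.primeCompl (LinearMap.range α).mkQ).restrictScalars R) ?_ ?_
    ((univInj_map_iff_killedKer q.primeCompl α).2 (h.mono hT))
  · exact LocalizedModule.map_exact q.primeCompl _ _ (LinearMap.exact_map_mkQ_range α)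
  · exact LocalizedModule.map_surjective q.primeCompl _ (Submodule.mkQ_surjective _)

/-- Universal injectivity at the generic point of the fibre over the base prime. -/
theorem killedKer_generic [Algebra.FinitePresentation R S] [Module.Finite S N]
    (hgi : FlatCA.GeomIntegralFibres R S) (rr : Ideal R) [rr.IsPrime] [(rr.map (algebraMap R S)).IsPrime]
    [q.LiesOver rr] (hN : FlatCA.FlatAt R q N)
    (h : Function.Bijective (α.baseChange (rr.map (algebraMap R S)).ResidueField)) :
    KilledKer R (rr.map (algebraMap R S)).primeCompl α := by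
  set 𝔭 := rr.map (algebraMap R S) with h𝔭
  have hq : q.comap (algebraMap R S) = rr := (Ideal.over_def q rr).symm
  have hle : 𝔭 ≤ q := Ideal.map_le_iff_le_comap.2 hq.ge
  have hp1 : 𝔭.comap (algebraMap R S) = rr :=
    le_antisymm ((Ideal.comap_mono hle).trans hq.le) Ideal.le_comap_map
  obtain ⟨hspan, hind⟩ := span_ind_of_bijective 𝔭 α h
  have key := (univInj_of_generic (N := N) rr 𝔭 𝔭 le_rfl hp1 hp1
    (fun a ha => ⟨1, 𝔭.one_notMem, by rwa [one_mul]⟩)
    (fun p' _ => by
      haveI := isDomain_tensor_residueField hgi p'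
      exact isReduced_of_injective (Algebra.TensorProduct.comm R p'.ResidueField S).toRingEquiv.toRingHom
        (Algebra.TensorProduct.comm R p'.ResidueField S).injective)
    (flat_localized_of_le hle hN) (fun i => α (Pi.single i 1)) hspan hind).1
  rw [comb_eq α] at key
  exact (univInj_map_iff_killedKer 𝔭.primeCompl α).1 key

end Cokernel

end GrothLib.RG6
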