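import Groth.Agent.Lib.RG6.Step
import Groth.Agent.Lib.RG6.Crit
import Groth.Agent.Lib.WeakAssFib.Down

/-!
# Transfer of the flatness criterion along an étale neighbourhood
-/

set_option autoImplicit false
set_option backward.isDefEq.respectTransparency false
set_option linter.style.haveILetI false
set_option maxHeartbeats 800000

universe u

open TensorProduct

namespace GrothLib.RG6

section BaseChange

variable {R S L : Type u} [CommRing R] [CommRing S] [CommRing L] [Algebra R S] [Algebra S L] [Algebra R L]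
  [IsScalarTower R S L] [Module.Flat S L] (qS : Ideal S) [qS.IsPrime] (qL : Ideal L) [qL.IsPrime] [qL.LiesOver qS]
  (Q : Type u) [AddCommGroup Q] [Module S Q] [Module R Q] [IsScalarTower R S Q]

/-- Flatness at a prime passes to flat base changes. -/
theorem flat_localized_baseChange (h : Module.Flat R (LocalizedModule qS.primeCompl Q)) :
    Module.Flat R (LocalizedModule qL.primeCompl (L ⊗[S] Q)) := by
  let LqL := Localization.AtPrime qL
  let Sq := Localization.AtPrime qS
  letI : Algebra Sq LqL := Localization.AtPrime.algebraOfLiesOver qS qL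
  let M := L ⊗[S] Q
  let X := LocalizedModule qL.primeCompl M
  let g : M →ₗ[L] X := LocalizedModule.mkLinearMap qL.primeCompl M
  letI : Module Sq X := Module.compHom X (algebraMap Sq LqL)
  haveI : IsScalarTower Sq LqL X := IsScalarTower.of_compHom _ _ _
  haveI : IsScalarTower S Sq X := IsScalarTower.of_algebraMap_smul fun s x => by
    show algebraMap Sq LqL (algebraMap S Sq s) • x = s • x
    rw [← IsScalarTower.algebraMap_apply S Sq LqL, algebraMap_smul]
  let f : Q →ₗ[S] M := TensorProduct.mk S L Q 1
  let fq : Q →ₗ[S] LocalizedModule qS.primeCompl Q := LocalizedModule.mkLinearMap qS.primeCompl Q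
  let gf : Q →ₗ[S] X := g.restrictScalars S ∘ₗ f
  have hgf : IsBaseChange LqL gf :=
    (TensorProduct.isBaseChange S Q L).comp (IsLocalizedModule.isBaseChange qL.primeCompl LqL g)
  have hfq : IsBaseChange Sq fq := IsLocalizedModule.isBaseChange qS.primeCompl Sq fq
  let hl : LocalizedModule qS.primeCompl Q →ₗ[Sq] X := hfq.lift gf
  have hhl : IsBaseChange LqL hl := hfq.of_comp (by rw [hfq.lift_comp]; exact hgf)
  haveI : Module.Flat S LqL := Module.Flat.trans S L LqL
  haveI : Module.Flat Sq LqL := (Module.flat_iff_of_isLocalization Sq qS.primeCompl LqL).2 inferInstance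
  haveI : Module.Flat R (LocalizedModule qS.primeCompl Q) := h
  haveI : Module.Flat R (LqL ⊗[Sq] LocalizedModule qS.primeCompl Q) :=
    GrothLib.CAlgMisc.flat_tensor_left R Sq LqL _
  exact Module.Flat.of_linearEquiv (hhl.equiv.restrictScalars R).symm

/-- Flatness descends along flat base changes at a prime above. -/
theorem flat_localized_descend (h : Module.Flat R (LocalizedModule qL.primeCompl (L ⊗[S] Q))) :
    Module.Flat R (LocalizedModule qS.primeCompl Q) := by
  let LqL := Localization.AtPrime qL
  let Sq := Localization.AtPrime qS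
  letI : Algebra Sq LqL := Localization.AtPrime.algebraOfLiesOver qS qL
  let M := L ⊗[S] Q
  let X := LocalizedModule qL.primeCompl M
  let g : M →ₗ[L] X := LocalizedModule.mkLinearMap qL.primeCompl M
  letI : Module Sq X := Module.compHom X (algebraMap Sq LqL)
  haveI : IsScalarTower Sq LqL X := IsScalarTower.of_compHom _ _ _
  haveI : IsScalarTower S Sq X := IsScalarTower.of_algebraMap_smul fun s x => by
    show algebraMap Sq LqL (algebraMap S Sq s) • x = s • x
    rw [← IsScalarTower.algebraMap_apply S Sq LqL, algebraMap_smul]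
  let f : Q →ₗ[S] M := TensorProduct.mk S L Q 1
  let fq : Q →ₗ[S] LocalizedModule qS.primeCompl Q := LocalizedModule.mkLinearMap qS.primeCompl Q
  let gf : Q →ₗ[S] X := g.restrictScalars S ∘ₗ f
  have hgf : IsBaseChange LqL gf :=
    (TensorProduct.isBaseChange S Q L).comp (IsLocalizedModule.isBaseChange qL.primeCompl LqL g)
  have hfq : IsBaseChange Sq fq := IsLocalizedModule.isBaseChange qS.primeCompl Sq fq
  let hl : LocalizedModule qS.primeCompl Q →ₗ[Sq] X := hfq.lift gf
  have hhl : IsBaseChange LqL hl := hfq.of_comp (by rw [hfq.lift_comp]; exact hgf)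
  haveI : Module.Flat S LqL := Module.Flat.trans S L LqL
  haveI : Module.Flat Sq LqL := (Module.flat_iff_of_isLocalization Sq qS.primeCompl LqL).2 inferInstance
  haveI : Module.FaithfullyFlat Sq LqL := Module.FaithfullyFlat.of_flat_of_isLocalHom
  let Qq := LocalizedModule qS.primeCompl Q
  haveI : Module.Flat R X := h
  haveI : Module.Flat R (LqL ⊗[Sq] Qq) := Module.Flat.of_linearEquiv (hhl.equiv.restrictScalars R)
  rw [Module.Flat.iff_lTensor_preserves_injective_linearMap]
  intro N N' _ _ _ _ j hj
  let gg : Qq ⊗[R] N →ₗ[Sq] Qq ⊗[R] N' := AlgebraTensorModule.lTensor Sq Qq j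
  suffices Function.Injective gg from this
  rw [← Module.FaithfullyFlat.lTensor_injective_iff_injective (R := Sq) (M := LqL)]
  let e := AlgebraTensorModule.assoc R Sq Sq LqL Qq N
  let e' := AlgebraTensorModule.assoc R Sq Sq LqL Qq N'
  have key : ∀ x, e' (j.lTensor (LqL ⊗[Sq] Qq) x) = gg.lTensor LqL (e x) := fun x => by
    induction x with
    | zero => simp
    | add a b ha hb => simp only [map_add, ha, hb]
    | tmul y n =>
      induction y with
      | zero => simp
      | add a b ha hb => simp only [add_tmul, map_add, ha, hb]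
      | tmul s m => simp [e, e', gg]
  intro a b hab
  obtain ⟨a, rfl⟩ := e.surjective a
  obtain ⟨b, rfl⟩ := e.surjective b
  rw [← key, ← key] at hab
  exact congrArg e (Module.Flat.lTensor_preserves_injective_linearMap j hj (e'.injective hab))

/-- Not being associated in the fibre passes to flat base changes. -/
theorem notAssFib_baseChange [Algebra.FiniteType R S] (h : NotAssFib R Q qS) :
    NotAssFib R (L ⊗[S] Q) qL := by
  classical
  obtain ⟨𝔭, h𝔭⟩ : ∃ 𝔭, 𝔭 = qS.comap (algebraMap R S) := ⟨_, rfl⟩
  haveI : 𝔭.IsPrime := h𝔭 ▸ Ideal.IsPrime.comap _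
  haveI : qS.LiesOver 𝔭 := ⟨h𝔭⟩
  have h𝔭L : qL.comap (algebraMap R L) = 𝔭 := by
    rw [IsScalarTower.algebraMap_eq R S L, ← Ideal.comap_comap, h𝔭]
    exact congrArg (Ideal.comap (algebraMap R S)) (qL.over_def qS).symm
  obtain ⟨G, hG, hgen⟩ := GrothLib.WeakAssFib.exists_gens 𝔭 qS
  let K := fibKer R Q qS
  let V := Q ⧸ K
  let θ : V →ₗ[S] (G → V) := LinearMap.pi fun g => LinearMap.lsmul S V (g : S)
  have hθ : Function.Injective θ := by
    rw [injective_iff_map_eq_zero]
    intro v hv
    obtain ⟨x, rfl⟩ := Submodule.mkQ_surjective K v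
    rw [Submodule.mkQ_apply, Submodule.Quotient.mk_eq_zero]
    have hG0 : ∀ g ∈ G, g • x ∈ K := fun g hg => by
      have := congrFun hv ⟨g, hg⟩
      change g • Submodule.Quotient.mk x = (0 : V) at this
      rwa [← Submodule.Quotient.mk_smul, Submodule.Quotient.mk_eq_zero] at this
    refine h x fun s hs => ?_
    obtain ⟨u, hu, hus⟩ := hgen s hs
    have hle : Ideal.span (G : Set S) ⊔ 𝔭.map (algebraMap R S) ≤ K.comap (LinearMap.toSpanSingleton S Q x) := by
      refine sup_le (Ideal.span_le.2 fun g hg => hG0 g hg) fun a ha => ?_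
      exact FibZero.of_mem (h𝔭 ▸ smul_mem_of_mem_map 𝔭 ha x)
    have := hle hus
    change FibZero R qS ((u • s) • x) at this
    rw [Algebra.smul_def, mul_smul] at this
    exact FibZero.of_smul (fun h' => hu (h𝔭 ▸ h')) this
  intro m hm
  have hu : ∀ g : G, ∃ u ∉ qL, u • (algebraMap S L (g : S)) • m ∈ 𝔭 • (⊤ : Submodule R (L ⊗[S] Q)) := fun g => by
    have hgq : algebraMap S L (g : S) ∈ qL := (Ideal.mem_of_liesOver qL qS _).1 (hG g.2)
    have := hm _ hgq
    rwa [FibZero, h𝔭L] at this
  choose u hu hum using hu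
  let U := ∏ g : G, u g
  have hU : U ∉ qL := fun h' => by
    obtain ⟨g, -, hg⟩ := ‹qL.IsPrime›.prod_mem_iff.1 h'
    exact hu g hg
  let Φ : L ⊗[S] Q →ₗ[S] L ⊗[S] V := K.mkQ.lTensor L
  have hΦ : ∀ z ∈ 𝔭 • (⊤ : Submodule R (L ⊗[S] Q)), Φ z = 0 := fun z hz => by
    refine Submodule.smul_induction_on hz (fun c hc z' _ => ?_) fun x y hx hy => by rw [map_add, hx, hy, add_zero]
    rw [← algebraMap_smul S c z', map_smul]
    induction z' using TensorProduct.induction_on with
    | zero => rw [map_zero, smul_zero]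
    | add x y hx hy => rw [map_add, smul_add, hx trivial, hy trivial, add_zero]
    | tmul l x =>
      show algebraMap R S c • (l ⊗ₜ[S] K.mkQ x) = 0
      rw [← TensorProduct.tmul_smul, ← map_smul, Submodule.mkQ_apply,
        (Submodule.Quotient.mk_eq_zero K).2 (show algebraMap R S c • x ∈ K from
          FibZero.of_mem (h𝔭 ▸ smul_mem_of_mem_map 𝔭 (Ideal.mem_map_of_mem _ hc) x)), tmul_zero]
  have hΦUm : ∀ g : G, (g : S) • Φ (U • m) = 0 := fun g => by
    rw [← map_smul]
    refine hΦ _ ?_
    rw [← algebraMap_smul L (g : S), smul_comm, show U = _ from (Finset.prod_erase_mul _ u (Finset.mem_univ g)).symm,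
      mul_smul]
    exact smul_mem_smul_top _ (hum g) _
  have hzero : Φ (U • m) = 0 := by
    refine Module.Flat.lTensor_preserves_injective_linearMap (M := L) θ hθ ?_
    rw [map_zero]
    apply (TensorProduct.piRight S S L fun _ : G => V).injective
    rw [map_zero]
    funext g
    rw [Pi.zero_apply, ← hΦUm g]
    generalize Φ (U • m) = w
    induction w using TensorProduct.induction_on with
    | zero => simp
    | add x y hx hy => simp only [map_add, Pi.add_apply, hx, hy, smul_add]
    | tmul l v => simp [θ]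
  obtain ⟨z, hz⟩ := (lTensor_exact L (LinearMap.exact_subtype_mkQ K) K.mkQ_surjective _).1 hzero
  refine FibZero.of_smul hU ?_
  rw [← hz]
  clear hzero hΦUm hz hΦ
  induction z using TensorProduct.induction_on with
  | zero => rw [map_zero]; exact FibZero.zero
  | add x y hx hy => rw [map_add]; exact hx.add hy
  | tmul l k =>
    obtain ⟨t, ht, htk⟩ := (show FibZero R qS (k : Q) from k.2)
    rw [LinearMap.lTensor_tmul, Submodule.subtype_apply]
    refine FibZero.of_smul (a := algebraMap S L t) (fun h' => ht ((Ideal.mem_of_liesOver qL qS t).2 h')) ?_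
    rw [algebraMap_smul, ← TensorProduct.tmul_smul]
    rw [← h𝔭] at htk
    refine Submodule.smul_induction_on htk (fun c hc x _ => ?_) fun a b ha hb => by
      rw [TensorProduct.tmul_add]; exact ha.add hb
    rw [← algebraMap_smul S c x, TensorProduct.tmul_smul, algebraMap_smul]
    exact FibZero.of_mem (by rw [h𝔭L]; exact Submodule.smul_mem_smul hc trivial)

end BaseChange

section Finite

variable {R A L : Type u} [CommRing R] [CommRing A] [CommRing L] [Algebra R A] [Algebra A L] [Algebra R L]
  [IsScalarTower R A L] [Module.Finite A L] (p : Ideal A) [p.IsPrime] (qL : Ideal L) [qL.IsPrime] [qL.LiesOver p]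
  (huniq : ∀ Q : Ideal L, Q.IsPrime → Q.LiesOver p → Q = qL)
  {M : Type u} [AddCommGroup M] [Module L M] [Module A M] [IsScalarTower A L M] [Module R M] [IsScalarTower R L M]
  [IsScalarTower R A M]

include huniq in
/-- Not being associated in the fibre passes down a finite algebra with a unique prime above. -/
theorem notAssFib_of_finite [Algebra.FiniteType R L] (h : NotAssFib R M qL) : NotAssFib R M p := by
  classical
  obtain ⟨𝔭, h𝔭⟩ : ∃ 𝔭, 𝔭 = qL.comap (algebraMap R L) := ⟨_, rfl⟩
  haveI : 𝔭.IsPrime := h𝔭 ▸ Ideal.IsPrime.comap _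
  haveI : qL.LiesOver 𝔭 := ⟨h𝔭⟩
  have h𝔭A : p.comap (algebraMap R A) = 𝔭 := by
    rw [h𝔭, IsScalarTower.algebraMap_eq R A L, ← Ideal.comap_comap]
    exact congrArg (Ideal.comap (algebraMap R A)) (qL.over_def p)
  have hdown : ∀ x : M, FibZero R p x → FibZero R qL x := fun x ⟨u, hu, hux⟩ => by
    refine ⟨algebraMap A L u, fun h' => hu ((Ideal.mem_of_liesOver qL p u).2 h'), ?_⟩
    rw [algebraMap_smul, ← h𝔭, ← h𝔭A]
    exact hux
  have hmin : qL ∈ (p.map (algebraMap A L)).minimalPrimes := by
    refine ⟨⟨inferInstance, Ideal.map_le_iff_le_comap.2 (qL.over_def p).le⟩, fun Q ⟨hQ, hQle⟩ hle => ?_⟩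
    have hover : Q.LiesOver p := ⟨le_antisymm (Ideal.map_le_iff_le_comap.1 hQle)
      ((Ideal.comap_mono hle).trans (qL.over_def p).ge)⟩
    rw [huniq Q hQ hover]
  intro x hx
  have hmap : ∀ a ∈ p.map (algebraMap A L), FibZero R qL (a • x) := fun a ha => by
    have hle : p.map (algebraMap A L) ≤ (fibKer R M qL).comap (LinearMap.toSpanSingleton L M x) :=
      Ideal.map_le_iff_le_comap.2 fun c hc => by
        show FibZero R qL (algebraMap A L c • x)
        rw [algebraMap_smul]
        exact hdown _ (hx c hc)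
    exact hle ha
  obtain ⟨G, hG, hgen⟩ := GrothLib.WeakAssFib.exists_gens 𝔭 qL
  have hpow : ∀ g ∈ G, ∃ k : ℕ, FibZero R qL (g ^ k • x) := fun g hg => by
    obtain ⟨t, ht, k, hk⟩ := GrothLib.WeakAssFib.exists_mul_pow_mem_of_minimal hmin (hG hg)
    exact ⟨k, FibZero.of_smul ht (by rw [smul_smul]; exact hmap _ hk)⟩
  have key : ∀ G' : Finset L, ∀ v : M, (∀ g ∈ G', ∃ k : ℕ, FibZero R qL (g ^ k • v)) →
      (∀ g ∈ G, g ∉ G' → FibZero R qL (g • v)) → FibZero R qL v := by
    intro G'
    induction G' using Finset.induction_on with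
    | empty =>
      intro v _ hv
      refine h v fun s hs => ?_
      obtain ⟨u, hu, hus⟩ := hgen s hs
      have hle : Ideal.span (G : Set L) ⊔ 𝔭.map (algebraMap R L) ≤
          (fibKer R M qL).comap (LinearMap.toSpanSingleton L M v) :=
        sup_le (Ideal.span_le.2 fun g hg => hv g hg (Finset.notMem_empty g)) fun a ha =>
          FibZero.of_mem (h𝔭 ▸ smul_mem_of_mem_map 𝔭 ha v)
      have := hle hus
      change FibZero R qL ((u • s) • v) at this
      rw [Algebra.smul_def, mul_smul] at this
      exact FibZero.of_smul (fun h' => hu (h𝔭 ▸ h')) this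
    | insert a G'' ha ih =>
      intro v hk hv
      obtain ⟨k, hk₀⟩ := hk a (Finset.mem_insert_self a G'')
      induction k generalizing v with
      | zero => simpa using hk₀
      | succ k ihk =>
        have hav : FibZero R qL (a • v) := by
          refine ihk (a • v) (fun g hg => ?_) (fun g hg hg' => ?_) (by rwa [smul_smul, ← pow_succ])
          · obtain ⟨l, hl⟩ := hk g hg
            exact ⟨l, by rw [smul_comm]; exact hl.smul a⟩
          · rw [smul_comm]; exact (hv g hg hg').smul a
        refine ih v (fun g hg => hk g (Finset.mem_insert_of_mem hg)) fun g hg hg' => ?_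
        rcases eq_or_ne g a with rfl | hga
        · exact hav
        · exact hv g hg fun h' => (Finset.mem_insert.1 h').elim hga hg'
  obtain ⟨u, hu, hux⟩ := key G x hpow fun g hg hg' => absurd hg hg'
  have hle : ∃ c ∉ p, u ∣ algebraMap A L c := by
    by_contra hcon
    simp only [not_exists, not_and] at hcon
    have hle : (Ideal.span {u}).comap (algebraMap A L) ≤ p := fun c hc => by
      by_contra hcp
      exact hcon c hcp (Ideal.mem_span_singleton.1 hc)
    obtain ⟨Q, hQ, hQp, hQc⟩ := Ideal.exists_ideal_over_prime_of_isIntegral p (Ideal.span {u}) hle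
    exact hu (huniq Q hQp ⟨hQc.symm⟩ ▸ hQ (Ideal.mem_span_singleton_self u))
  obtain ⟨c, hc, d, hd⟩ := hle
  refine ⟨c, hc, ?_⟩
  rw [← algebraMap_smul L c, hd, mul_comm, mul_smul, h𝔭A]
  rw [← h𝔭] at hux
  exact smul_mem_smul_top _ hux d

include huniq in
/-- Flatness at the punctured fibre passes down a finite algebra with a unique prime above. -/
theorem punctFlat_of_finite (h : PunctFlat R M qL) : PunctFlat R M p := by
  intro p' _ hlt hcomap
  let T := Algebra.algebraMapSubmonoid L p'.primeCompl
  haveI : IsLocalizedModule p'.primeCompl ((LocalizedModule.mkLinearMap T M).restrictScalars A) :=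
    IsLocalizedModule.restrictScalars _ _
  have hflat : Module.Flat R (LocalizedModule T M) := by
    refine flat_localized_of_forall_disjoint T fun Q _ hd => ?_
    have hQp' : Q.comap (algebraMap A L) ≤ p' := fun a ha => by
      by_contra hap
      exact Set.disjoint_left.1 hd ha ⟨a, hap, rfl⟩
    obtain ⟨Q₁, hQ₁, hQ₁p, hQ₁c⟩ :=
      Ideal.exists_ideal_over_prime_of_isIntegral p Q (hQp'.trans hlt.le)
    have hQle : Q ≤ qL := huniq Q₁ hQ₁p ⟨hQ₁c.symm⟩ ▸ hQ₁
    have hQne : Q ≠ qL := fun he => hlt.not_ge ((qL.over_def p).le.trans (he ▸ hQp'))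
    rcases eq_or_ne (Q.comap (algebraMap R L)) (qL.comap (algebraMap R L)) with hc | hc
    · exact h Q (lt_of_le_of_ne hQle hQne) hc
    · obtain ⟨Q₂, hQ₂ge, hQ₂p, hQ₂c⟩ := Ideal.exists_ideal_over_prime_of_isIntegral p' Q hQp'
      haveI := hQ₂p
      obtain ⟨Q₃, hQ₃, hQ₃p, hQ₃c⟩ :=
        Ideal.exists_ideal_over_prime_of_isIntegral p Q₂ (hQ₂c.le.trans hlt.le)
      have hQ₂le : Q₂ ≤ qL := huniq Q₃ hQ₃p ⟨hQ₃c.symm⟩ ▸ hQ₃
      have hQ₂ne : Q₂ ≠ qL := fun he => hlt.not_ge ((qL.over_def p).le.trans (he ▸ hQ₂c.le))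
      have hQ₂R : Q₂.comap (algebraMap R L) = qL.comap (algebraMap R L) := by
        rw [IsScalarTower.algebraMap_eq R A L, ← Ideal.comap_comap, ← Ideal.comap_comap, hQ₂c, hcomap]
        exact congrArg (Ideal.comap (algebraMap R A)) (qL.over_def p)
      have h2 := h Q₂ (lt_of_le_of_ne hQ₂le hQ₂ne) hQ₂R
      haveI := h2
      haveI : IsLocalizedModule Q.primeCompl
          (LocalizedModule.mkLinearMap Q.primeCompl (LocalizedModule Q₂.primeCompl M) ∘ₗ
            LocalizedModule.mkLinearMap Q₂.primeCompl M) := by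
        let f := LocalizedModule.mkLinearMap Q₂.primeCompl M
        let g := LocalizedModule.mkLinearMap Q.primeCompl (LocalizedModule Q₂.primeCompl M)
        have hcompl : Q₂.primeCompl ≤ Q.primeCompl := fun a ha ha' => ha (hQ₂ge ha')
        refine ⟨fun t => IsLocalizedModule.map_units g t, fun y => ?_, fun {a b} hab => ?_⟩
        · obtain ⟨⟨m, t⟩, ht⟩ := IsLocalizedModule.surj Q.primeCompl g y
          obtain ⟨⟨n, s⟩, hs⟩ := IsLocalizedModule.surj Q₂.primeCompl f m
          refine ⟨⟨n, ⟨s, hcompl s.2⟩ * t⟩, ?_⟩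
          show ((s : L) * (t : L)) • y = g (f n)
          rw [mul_smul, ← hs]
          show (s : L) • ((t : L) • y) = g ((s : L) • m)
          rw [map_smul, ← ht]
          rfl
        · obtain ⟨t, ht⟩ := IsLocalizedModule.exists_of_eq (S := Q.primeCompl) (f := g) hab
          have ht' : f ((t : L) • a) = f ((t : L) • b) := by rw [map_smul, map_smul]; exact ht
          obtain ⟨s, hs⟩ := IsLocalizedModule.exists_of_eq (S := Q₂.primeCompl) ht'
          refine ⟨⟨s, hcompl s.2⟩ * t, ?_⟩
          show ((s : L) * (t : L)) • a = ((s : L) * (t : L)) • b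
          rw [mul_smul, mul_smul]
          exact hs
      haveI := GrothLib.NagataFP.flat_localized (R := R) (M := LocalizedModule Q₂.primeCompl M) Q.primeCompl
      exact Module.Flat.of_linearEquiv ((IsLocalizedModule.linearEquiv Q.primeCompl
        (LocalizedModule.mkLinearMap Q.primeCompl M)
        (LocalizedModule.mkLinearMap Q.primeCompl (LocalizedModule Q₂.primeCompl M) ∘ₗ
          LocalizedModule.mkLinearMap Q₂.primeCompl M)).restrictScalars R)
  exact Module.Flat.of_linearEquiv ((IsLocalizedModule.linearEquiv p'.primeCompl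
    (LocalizedModule.mkLinearMap p'.primeCompl M)
    ((LocalizedModule.mkLinearMap T M).restrictScalars A)).restrictScalars R)

end Finite

/-- **The transfer step of the criterion.** -/
theorem crit_step {R R' S : Type u} [CommRing R] [CommRing R'] [CommRing S] [Algebra R R'] [Algebra R' S]
    [Algebra R S] [IsScalarTower R R' S] [Algebra.FiniteType R' S] [Algebra.FiniteType R S]
    [Algebra.FiniteType R R']
    (IH : ∀ (R'' : Type u) [CommRing R''] [Algebra R' R''] [Algebra R R''] [IsScalarTower R R' R'']
      [Algebra.Etale R' R''], CritAt R R'')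
    (Q : Type u) [AddCommGroup Q] [Module S Q] [Module R Q] [IsScalarTower R S Q] [Module.Finite S Q]
    (qS : Ideal S) [qS.IsPrime] [Algebra.QuasiFiniteAt R' qS]
    (hpunct : PunctFlat R Q qS) (hnot : NotAssFib R Q qS) :
    Module.Flat R (LocalizedModule qS.primeCompl Q) := by
  classical
  obtain ⟨R'', _, _, _, P'', _, _, e, -, P', _, hP'over, hP'q, heP', -, hfinL, huniq⟩ :=
    Algebra.exists_etale_isIdempotentElem_forall_liesOver_eq (qS.under R') qS
  letI : Algebra R R'' := ((algebraMap R' R'').comp (algebraMap R R')).toAlgebra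
  haveI : IsScalarTower R R' R'' := IsScalarTower.of_algebraMap_eq' rfl
  let T := R'' ⊗[R'] S
  let L := Localization.Away e
  let incl : S →+* T := (Algebra.TensorProduct.includeRight (R := R') (A := R'') (B := S)).toRingHom
  letI : Algebra S T := incl.toAlgebra
  haveI : IsScalarTower R S L := IsScalarTower.of_algebraMap_eq fun x => by
    rw [IsScalarTower.algebraMap_apply R T L, IsScalarTower.algebraMap_apply S T L]
    congr 1
    show algebraMap R T x = (1 : R'') ⊗ₜ[R'] algebraMap R S x
    rw [IsScalarTower.algebraMap_apply R R' S, IsScalarTower.algebraMap_apply R R' T,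
      Algebra.TensorProduct.algebraMap_apply, Algebra.algebraMap_eq_smul_one (algebraMap R R' x),
      Algebra.algebraMap_eq_smul_one (A := S) (algebraMap R R' x), TensorProduct.smul_tmul]
  haveI : Module.Flat R' R'' := inferInstance
  haveI : Algebra.IsPushout R' S R'' T := Algebra.IsPushout.symm inferInstance
  haveI : Module.Flat S T := Module.Flat.isBaseChange R' S R'' T (Algebra.IsPushout.out)
  haveI : Module.Flat T L := IsLocalization.flat L (Submonoid.powers e)
  haveI : Module.Flat S L := Module.Flat.trans S T L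
  have hdisj : Disjoint (Submonoid.powers e : Set T) (P' : Set T) :=
    (Ideal.disjoint_powers_iff_notMem_of_isPrime e).2 heP'
  let qL : Ideal L := P'.map (algebraMap T L)
  haveI : qL.IsPrime := IsLocalization.isPrime_of_isPrime_disjoint (Submonoid.powers e) _ _ ‹_› hdisj
  haveI : qL.LiesOver P' := IsLocalization.liesOver_map_of_isPrime_disjoint (Submonoid.powers e) _ hdisj
  haveI : qL.LiesOver P'' := Ideal.LiesOver.trans qL P' P''
  have hqLS : qL.comap (algebraMap S L) = qS := by
    rw [IsScalarTower.algebraMap_eq S T L, ← Ideal.comap_comap]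
    show (qL.under T).comap incl = qS
    rw [← Ideal.over_def qL P']
    exact hP'q
  haveI : qL.LiesOver qS := ⟨hqLS.symm⟩
  have huniqL : ∀ Q' : Ideal L, Q'.IsPrime → Q'.LiesOver P'' → Q' = qL := fun Q' hQ' hover => by
    have h1 : Q'.comap (algebraMap T L) = P' := huniq _ inferInstance
      ⟨by rw [hover.over, Ideal.under_def, Ideal.under_def, Ideal.comap_comap, ← IsScalarTower.algebraMap_eq]⟩
      fun he => hQ'.ne_top (Ideal.eq_top_of_isUnit_mem _ he (IsLocalization.Away.algebraMap_isUnit e))
    show Q' = P'.map (algebraMap T L)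
    rw [← h1, IsLocalization.map_comap (Submonoid.powers e) L Q']
  haveI : Algebra.FiniteType R R'' :=
    Algebra.FiniteType.trans (R := R) (S := R') (A := R'') inferInstance inferInstance
  haveI : Algebra.FiniteType R L :=
    Algebra.FiniteType.trans (R := R) (S := R'') (A := L) inferInstance inferInstance
  haveI : Module.Finite R'' (L ⊗[S] Q) := Module.Finite.trans L (L ⊗[S] Q)
  -- the hypotheses upstairs
  have hpunctL : PunctFlat R (L ⊗[S] Q) qL := fun Q' _ hlt hc => by
    let qS' := Q'.comap (algebraMap S L)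
    haveI : Q'.LiesOver qS' := ⟨rfl⟩
    have hle : qS' ≤ qS := hqLS ▸ Ideal.comap_mono hlt.le
    rcases lt_or_eq_of_le hle with hlt' | heq
    · refine flat_localized_baseChange qS' Q' Q (hpunct qS' hlt' ?_)
      rw [Ideal.comap_comap, ← IsScalarTower.algebraMap_eq, hc, IsScalarTower.algebraMap_eq R S L,
        ← Ideal.comap_comap, hqLS]
    · exfalso
      have hle'' : Q'.comap (algebraMap R'' L) ≤ P'' :=
        (Ideal.comap_mono hlt.le).trans (qL.over_def P'').ge
      have heq'' : Q'.comap (algebraMap R'' L) = P'' := by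
        refine Algebra.QuasiFinite.eq_of_le_of_under_eq (R := R') _ _ hle'' ?_
        show (Q'.comap (algebraMap R'' L)).comap (algebraMap R' R'') = P''.under R'
        rw [Ideal.comap_comap, ← IsScalarTower.algebraMap_eq, IsScalarTower.algebraMap_eq R' S L,
          ← Ideal.comap_comap, show Q'.comap (algebraMap S L) = qS from heq]
        exact P''.over_def (qS.under R')
      exact hlt.ne (huniqL Q' inferInstance ⟨heq''.symm⟩)
  have hnotL : NotAssFib R (L ⊗[S] Q) qL := notAssFib_baseChange qS qL Q hnot
  -- apply the induction hypothesis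
  have hflatA : Module.Flat R (LocalizedModule P''.primeCompl (L ⊗[S] Q)) :=
    IH R'' (L ⊗[S] Q) P'' (punctFlat_of_finite P'' qL huniqL hpunctL) (notAssFib_of_finite P'' qL huniqL hnotL)
  haveI := isLocalizedModule_of_unique (M := L ⊗[S] Q) (M' := LocalizedModule qL.primeCompl (L ⊗[S] Q)) P'' qL huniqL
    (LocalizedModule.mkLinearMap qL.primeCompl (L ⊗[S] Q))
  refine flat_localized_descend qS qL Q ?_
  haveI := hflatA
  exact Module.Flat.of_linearEquiv ((IsLocalizedModule.linearEquiv P''.primeCompl
    ((LocalizedModule.mkLinearMap qL.primeCompl (L ⊗[S] Q)).restrictScalars R'')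
    (LocalizedModule.mkLinearMap P''.primeCompl (L ⊗[S] Q))).restrictScalars R)

end GrothLib.RG6
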