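import Groth.Agent.Lib.RG6.Specialize

/-!
# The flat locus is open in each fibre
-/

set_option autoImplicit false
set_option backward.isDefEq.respectTransparency false
set_option linter.style.haveILetI false
set_option maxHeartbeats 800000

universe u

open TensorProduct GrothLib.AssPts

namespace GrothLib.RG6

/-- A surjection whose kernel is killed at a prime is bijective there. -/
theorem flatAt_of_kill {R P N₀ N : Type u} [CommRing R] [CommRing P] [Algebra R P]
    [AddCommGroup N₀] [Module P N₀] [Module R N₀] [IsScalarTower R P N₀]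
    [AddCommGroup N] [Module P N] [Module R N] [IsScalarTower R P N]
    (φ : N₀ →ₗ[P] N) (hφ : Function.Surjective φ) (q : Ideal P) [q.IsPrime]
    (hkill : ∀ x ∈ LinearMap.ker φ, ∃ s ∉ q, s • x = 0)
    (h : Module.Flat R (LocalizedModule q.primeCompl N₀)) : Module.Flat R (LocalizedModule q.primeCompl N) := by
  have hbij : Function.Bijective (LocalizedModule.map q.primeCompl φ) := by
    refine ⟨?_, fun y => ?_⟩
    · rw [injective_iff_map_eq_zero]
      intro z hz
      induction z using LocalizedModule.induction_on with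
      | h m s =>
        rw [LocalizedModule.map_mk, ← LocalizedModule.zero_mk s, LocalizedModule.mk_eq] at hz
        obtain ⟨v, hv⟩ := hz
        simp only [Submonoid.smul_def, smul_zero, smul_smul] at hv
        obtain ⟨u, hu, hum⟩ := hkill (((v : P) * s) • m) (by rw [LinearMap.mem_ker, map_smul, hv])
        rw [← LocalizedModule.zero_mk s, LocalizedModule.mk_eq]
        refine ⟨⟨u, hu⟩ * v, ?_⟩
        simp only [Submonoid.smul_def, smul_zero, smul_smul, Submonoid.coe_mul]
        rw [mul_assoc, ← smul_smul]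
        exact hum
    · induction y using LocalizedModule.induction_on with
      | h m s =>
        obtain ⟨m, rfl⟩ := hφ m
        exact ⟨LocalizedModule.mk m s, by simp [LocalizedModule.map_mk]⟩
  haveI := h
  exact Module.Flat.of_linearEquiv ((LinearEquiv.ofBijective _ hbij).restrictScalars R).symm

/-- Flatness spreads along the fibre. -/
theorem exists_flat_near_in_fibre {R S : Type u} [CommRing R] [CommRing S] [Algebra R S] [Algebra.FiniteType R S]
    (N : Type u) [AddCommGroup N] [Module S N] [Module R N] [IsScalarTower R S N] [Module.Finite S N]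
    (p : Ideal R) [p.IsPrime] (q : Ideal S) [q.IsPrime]
    (hflat : Module.Flat R (LocalizedModule q.primeCompl N)) :
    ∃ h ∉ q, ∀ (q₁ : Ideal S) [q₁.IsPrime], q₁.LiesOver p → h ∉ q₁ →
      Module.Flat R (LocalizedModule q₁.primeCompl N) := by
  classical
  obtain ⟨n, π, hπ⟩ := Algebra.FiniteType.iff_quotient_mvPolynomial''.1 ‹Algebra.FiniteType R S›
  let P := MvPolynomial (Fin n) R
  letI : Algebra P S := π.toRingHom.toAlgebra
  haveI : IsScalarTower R P S := IsScalarTower.of_algebraMap_eq fun c => (π.commutes c).symm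
  letI : Module P N := Module.compHom N π.toRingHom
  haveI : IsScalarTower P S N := IsScalarTower.of_compHom _ _ _
  haveI : IsScalarTower R P N := IsScalarTower.of_algebraMap_smul fun c x => by
    show π (algebraMap R P c) • x = c • x
    rw [π.commutes, algebraMap_smul]
  haveI : Module.Finite P S := Module.Finite.of_surjective (Algebra.linearMap P S) hπ
  haveI : Module.Finite P N := Module.Finite.trans S N
  let qP := q.under P
  haveI : q.LiesOver qP := ⟨rfl⟩
  haveI := isLocalizedModule_of_surjective (P := P) hπ qP q (LocalizedModule.mkLinearMap q.primeCompl N)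
  have hflat' : Module.Flat R (LocalizedModule qP.primeCompl N) := by
    haveI := hflat
    exact Module.Flat.of_linearEquiv ((IsLocalizedModule.linearEquiv qP.primeCompl
      (LocalizedModule.mkLinearMap qP.primeCompl N)
      ((LocalizedModule.mkLinearMap q.primeCompl N).restrictScalars P)).restrictScalars R)
  obtain ⟨N₀, _, _, _, _, _, φ, g, hφ, hg, hflat₀, hkill⟩ := exists_model_near N qP hflat'
  letI : Algebra P (p.Fiber P) := Algebra.TensorProduct.rightAlgebra
  haveI : IsNoetherianRing (p.Fiber P) := Algebra.FiniteType.isNoetherianRing p.ResidueField (p.Fiber P)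
  haveI : Module.Finite (p.Fiber P) (FlatCA.fiberMod p P N₀) :=
    inferInstanceAs (Module.Finite (p.Fiber P) ((p.Fiber P) ⊗[P] N₀))
  let toFib : P →+* p.Fiber P := GrothLib.WeakAssFib.toFib p
  have hfin := associatedPrimes.finite (p.Fiber P) (FlatCA.fiberMod p P N₀)
  have hex : ∀ Q : Ideal (p.Fiber P), ∃ x, x ∉ qP ∧ (¬ Q.comap toFib ≤ qP → x ∈ Q.comap toFib) := fun Q => by
    by_cases h : Q.comap toFib ≤ qP
    · exact ⟨1, fun h' => ‹q.IsPrime›.ne_top ((Ideal.eq_top_iff_one _).2 (by simpa [qP] using h')), fun h' => absurd h h'⟩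
    · obtain ⟨x, hx, hxt⟩ := SetLike.not_le_iff_exists.1 h
      exact ⟨x, hxt, fun _ => hx⟩
  choose x hxq hx using hex
  let h := g * ∏ Q ∈ hfin.toFinset, x Q
  have hh : h ∉ qP := fun hm => (Ideal.IsPrime.mem_or_mem inferInstance hm).elim hg fun hm' => by
    obtain ⟨Q, -, hQ⟩ := (inferInstance : qP.IsPrime).prod_mem_iff.1 hm'
    exact hxq Q hQ
  refine ⟨π h, hh, fun q₁ _ hq₁ hhq₁ => ?_⟩
  let t := q₁.under P
  haveI : q₁.LiesOver t := ⟨rfl⟩
  haveI : t.LiesOver p := ⟨by
    show p = (q₁.comap (algebraMap P S)).comap (algebraMap R P)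
    rw [Ideal.comap_comap, ← IsScalarTower.algebraMap_eq]
    exact hq₁.over⟩
  have hgt : g ∉ t := fun hm => hhq₁ (Ideal.mul_mem_right _ t hm)
  have hflat₁ : Module.Flat R (LocalizedModule t.primeCompl N₀) := flatAt_of_powers g t hgt hflat₀
  have hkill₁ : ∀ y ∈ LinearMap.ker φ, ∃ s ∉ t, s • y = 0 := by
    intro y hy
    by_contra hne
    push Not at hne
    have hle : (⊥ : Submodule P N₀).colon {y} ≤ t := fun a ha => by
      by_contra hat
      exact hne a hat (by simpa [Submodule.mem_colon_singleton] using ha)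
    obtain ⟨Q, hQ, hQt⟩ := Ideal.exists_minimalPrimes_le hle
    haveI := hQ.1.1
    have hQW : Q ∈ FlatCA.weakAss P (N₀ ⊗[R] R) := by
      rw [weakAss_congr' (AlgebraTensorModule.rid R P N₀)]
      exact mem_weakAss_iff.2 ⟨y, hQ⟩
    haveI : Q.LiesOver (Q.under R) := ⟨rfl⟩
    haveI : (Q.under R).IsPrime := Ideal.IsPrime.comap _
    have hass := (weakAss_fibre_of_flatAt N₀ R (Q.under R) Q (flat_localized_of_le hQt hflat₁) hQW).2
    obtain ⟨Q', hQ'p, hQQ', hQ't, hQ'o, hQ'ass⟩ :=
      exists_assoc_specialization N₀ p (Q.under R) Q hass t hQt hflat₁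
    haveI := hQ'p
    haveI := hQ'o
    have hc : (FlatCA.fiberIdeal p Q').comap toFib = Q' := GrothLib.WeakAssFib.comap_fiberIdeal p Q'
    have hQ'q : Q' ≤ qP := by
      by_contra hnle
      have hxm : x (FlatCA.fiberIdeal p Q') ∈ Q' := hc.le (hx (FlatCA.fiberIdeal p Q') (by rw [hc]; exact hnle))
      refine hhq₁ ?_
      show h ∈ t
      exact Ideal.mul_mem_left _ _ (hQ't (Ideal.mem_of_dvd Q'
        (Finset.dvd_prod_of_mem x (hfin.mem_toFinset.2 hQ'ass)) hxm))
    obtain ⟨s, hs, hsy⟩ := hkill y hy
    exact hs (hQ'q (hQQ' (hQ.1.2 (by simpa [Submodule.mem_colon_singleton] using hsy))))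
  haveI := flatAt_of_kill φ hφ t hkill₁ hflat₁
  haveI := isLocalizedModule_of_surjective (P := P) hπ t q₁ (LocalizedModule.mkLinearMap q₁.primeCompl N)
  exact Module.Flat.of_linearEquiv ((IsLocalizedModule.linearEquiv t.primeCompl
    ((LocalizedModule.mkLinearMap q₁.primeCompl N).restrictScalars P)
    (LocalizedModule.mkLinearMap t.primeCompl N)).restrictScalars R)

end GrothLib.RG6
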