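import Groth.Agent.Lib.RG6.CritDrop
import Groth.Agent.Lib.RG6.CritStep
import Groth.Agent.Lib.RG6.FibreOpen

/-!
# Flatness is detected at the associated points of the fibre
-/

set_option autoImplicit false
set_option backward.isDefEq.respectTransparency false
set_option linter.style.haveILetI false
set_option maxHeartbeats 800000

universe u

open TensorProduct

namespace GrothLib.RG6

section

variable {R P : Type u} [CommRing R] [CommRing P] [Algebra R P]
  {N : Type u} [AddCommGroup N] [Module P N] [Module R N] [IsScalarTower R P N]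

/-- Elements in the multiples of a quotient lift. -/
theorem exists_lift_smul_top (K : Submodule P N) (I : Ideal R) {x : N}
    (hx : (K.mkQ x) ∈ I • (⊤ : Submodule R (N ⧸ K))) :
    ∃ k ∈ K, x - k ∈ I • (⊤ : Submodule R N) := by
  have htop : Submodule.map (K.mkQ.restrictScalars R) (⊤ : Submodule R N) = ⊤ := by
    rw [Submodule.map_top, LinearMap.range_eq_top]
    exact K.mkQ_surjective
  rw [← htop, ← Submodule.map_smul''] at hx
  obtain ⟨y, hy, e⟩ := hx
  refine ⟨x - y, ?_, by rwa [sub_sub_cancel]⟩
  rw [← Submodule.Quotient.mk_eq_zero, Submodule.Quotient.mk_sub, sub_eq_zero]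
  exact e.symm

/-- An injection in the fibre from universal injectivity at the prime. -/
theorem mem_of_fibZero_of_univInj (q p : Ideal P) [q.IsPrime] [p.IsPrime] (hpq : p ≤ q)
    (hp1 : p.comap (algebraMap R P) = q.comap (algebraMap R P)) {r : ℕ} (α : (Fin r → P) →ₗ[P] N)
    (hUI : FlatCA.UnivInj R ((LocalizedModule.map q.primeCompl α).restrictScalars R))
    (f : Fin r → P) (hf : FibZero R q (α f)) : ∀ i, f i ∈ p := by
  obtain ⟨u, hu, hmem⟩ := hf
  let 𝔭 := q.comap (algebraMap R P)
  let mkF := LocalizedModule.mkLinearMap q.primeCompl (Fin r → P)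
  let mkN := LocalizedModule.mkLinearMap q.primeCompl N
  let g := (LocalizedModule.map q.primeCompl α).restrictScalars R
  have h1 : g (mkF (u • f)) ∈ 𝔭 • (⊤ : Submodule R (LocalizedModule q.primeCompl N)) := by
    have hg : g (mkF (u • f)) = (mkN.restrictScalars R) (u • α f) := by
      show LocalizedModule.map q.primeCompl α (LocalizedModule.mk (u • f) 1) = LocalizedModule.mk (u • α f) 1
      rw [LocalizedModule.map_mk, map_smul]
    rw [hg]
    have h' := Submodule.mem_map_of_mem (f := mkN.restrictScalars R) hmem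
    rw [Submodule.map_smul''] at h'
    exact Submodule.smul_mono le_rfl le_top h'
  have h2 : g.lTensor (R ⧸ 𝔭) (Ideal.Quotient.mk 𝔭 1 ⊗ₜ[R] mkF (u • f)) = 0 := by
    apply (TensorProduct.quotTensorEquivQuotSMul (LocalizedModule q.primeCompl N) 𝔭).injective
    rw [map_zero, LinearMap.lTensor_tmul, TensorProduct.quotTensorEquivQuotSMul_mk_tmul, one_smul,
      Submodule.Quotient.mk_eq_zero]
    exact h1
  have h3 : Ideal.Quotient.mk 𝔭 1 ⊗ₜ[R] mkF (u • f) = 0 := hUI (R ⧸ 𝔭) (h2.trans (map_zero _).symm)
  have h4 : mkF (u • f) ∈ 𝔭 • (⊤ : Submodule R (LocalizedModule q.primeCompl (Fin r → P))) := by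
    have := congrArg (TensorProduct.quotTensorEquivQuotSMul (LocalizedModule q.primeCompl (Fin r → P)) 𝔭) h3
    rwa [map_zero, TensorProduct.quotTensorEquivQuotSMul_mk_tmul, one_smul, Submodule.Quotient.mk_eq_zero] at this
  intro i
  let A := Localization.AtPrime q
  have hproj : ∀ z ∈ 𝔭 • (⊤ : Submodule R (LocalizedModule q.primeCompl (Fin r → P))),
      ∃ s ∉ q, ∃ x : Fin r → P, (∀ j, x j ∈ p) ∧ s • z = mkF x := by
    intro z hz
    refine Submodule.smul_induction_on hz (fun c hc z _ => ?_) fun z₁ z₂ h₁ h₂ => ?_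
    · obtain ⟨⟨x, s⟩, hs⟩ := IsLocalizedModule.surj q.primeCompl mkF z
      refine ⟨s, s.2, c • x, fun j => ?_, ?_⟩
      · rw [Pi.smul_apply, Algebra.smul_def]
        exact p.mul_mem_right _ (hp1.ge hc)
      · rw [LinearMap.map_smul_of_tower, ← show (s : P) • z = mkF x from hs, smul_comm]
    · obtain ⟨s₁, hs₁, x₁, hx₁, e₁⟩ := h₁
      obtain ⟨s₂, hs₂, x₂, hx₂, e₂⟩ := h₂
      refine ⟨s₁ * s₂, fun h => (‹q.IsPrime›.mem_or_mem h).elim hs₁ hs₂, s₂ • x₁ + s₁ • x₂, fun j => ?_, ?_⟩
      · exact add_mem (p.mul_mem_left _ (hx₁ j)) (p.mul_mem_left _ (hx₂ j))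
      · rw [smul_add, map_add, map_smul, map_smul, ← e₁, ← e₂, mul_smul, mul_smul, smul_comm s₂ s₁ z₁]
  obtain ⟨s, hs, x, hx, e⟩ := hproj _ h4
  rw [← map_smul] at e
  obtain ⟨t, ht⟩ := IsLocalizedModule.exists_of_eq (S := q.primeCompl) (f := mkF) e
  have h5 := congrFun (show (t : P) • s • u • f = (t : P) • x from ht) i
  simp only [Pi.smul_apply, smul_eq_mul] at h5
  have h6 : (t : P) * (s * (u * f i)) ∈ p := h5 ▸ p.mul_mem_left _ (hx i)
  have h7 := (‹p.IsPrime›.mem_or_mem h6).resolve_left fun h => t.2 (hpq h)
  have h8 := (‹p.IsPrime›.mem_or_mem h7).resolve_left fun h => hs (hpq h)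
  exact (‹p.IsPrime›.mem_or_mem h8).resolve_left fun h => hu (hpq h)

end

/-- **The criterion for algebras étale over affine space.** -/
theorem crit_etale : ∀ (n : ℕ) {R : Type u} [CommRing R] {P : Type u} [CommRing P] [Algebra R P]
    [Algebra (MvPolynomial (Fin n) R) P] [IsScalarTower R (MvPolynomial (Fin n) R) P]
    [Algebra.Etale (MvPolynomial (Fin n) R) P], CritAt R P := by
  intro n
  induction n using Nat.strong_induction_on with
  | _ n ih =>
    intro R _ P _ _ _ _ _ N _ _ _ _ _ q _ hpunct hnot
    classical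
    let Qn := MvPolynomial (Fin n) R
    haveI : Algebra.FinitePresentation R P := Algebra.FinitePresentation.trans R Qn P
    haveI : Module.Flat Qn P := inferInstance
    haveI : Module.Flat R P := Module.Flat.trans R Qn P
    obtain ⟨p, _, hpq, hp1, hp, hdrop⟩ := exists_generic_prime (n := n) (q.comap (algebraMap R P)) q rfl
    by_cases hq : p = q
    · subst hq
      haveI := subsingleton_of_fibZero p (fibZero_all p hp hnot)
      infer_instance
    have hflatp : Module.Flat R (LocalizedModule p.primeCompl N) := hpunct p (lt_of_le_of_ne hpq hq) hp1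
    obtain ⟨r, e, hspan, hind⟩ := exists_basis_mod p N
    let α : (Fin r → P) →ₗ[P] N := Fintype.linearCombination P e
    obtain ⟨hUI, -, hg⟩ := univInj_of_generic (q.comap (algebraMap R P)) q p hpq rfl hp1 hp
      (fun p' _ => isReduced_fiber (n := n) p') hflatp e hspan hind
    haveI : Module.Flat R (Fin r → P) := flat_pi r
    haveI := GrothLib.NagataFP.flat_localized (R := R) (M := Fin r → P) q.primeCompl
    suffices hQ : Module.Flat R (LocalizedModule q.primeCompl N) ∨
        Module.Flat R (LocalizedModule q.primeCompl (N ⧸ LinearMap.range α)) by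
      rcases hQ with h | h
      · exact h
      · exact flat_of_exact ((LocalizedModule.map q.primeCompl α).restrictScalars R)
          ((LocalizedModule.map q.primeCompl (LinearMap.range α).mkQ).restrictScalars R)
          (LocalizedModule.map_exact q.primeCompl _ _ (LinearMap.exact_map_mkQ_range α))
          (LocalizedModule.map_surjective q.primeCompl _ (Submodule.mkQ_surjective _)) hUI
    obtain ⟨k, s, hs⟩ := Module.Finite.exists_fin (R := P) (M := N)
    choose gs hgs hgs' using fun i => hg (s i)
    let g := ∏ i, gs i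
    have hgp : g ∉ p := fun hmem => by
      obtain ⟨i, -, hi⟩ := ‹p.IsPrime›.prod_mem_iff.1 hmem
      exact hgs i hi
    have hann : ∀ x : N ⧸ LinearMap.range α, g • x = 0 := fun x => by
      obtain ⟨x, rfl⟩ := Submodule.mkQ_surjective _ x
      rw [← map_smul, Submodule.mkQ_apply, Submodule.Quotient.mk_eq_zero]
      have hx : x ∈ Submodule.span P (Set.range s) := hs ▸ trivial
      induction hx using Submodule.span_induction with
      | mem y hy =>
        obtain ⟨i, rfl⟩ := hy
        show (∏ j, gs j) • s i ∈ LinearMap.range α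
        rw [← Finset.prod_erase_mul _ gs (Finset.mem_univ i), mul_smul]
        exact Submodule.smul_mem _ _ (hgs' i)
      | zero => rw [smul_zero]; exact zero_mem _
      | add a b _ _ ha hb => rw [smul_add]; exact add_mem ha hb
      | smul c a _ ha => rw [smul_comm]; exact Submodule.smul_mem _ c ha
    by_cases hgq : g ∈ q
    swap
    · right
      haveI : Subsingleton (LocalizedModule q.primeCompl (N ⧸ LinearMap.range α)) := by
        rw [LocalizedModule.subsingleton_iff]
        exact fun x => ⟨g, hgq, hann x⟩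
      infer_instance
    by_cases hnotQ : NotAssFib R (N ⧸ LinearMap.range α) q
    swap
    · left
      simp only [NotAssFib, not_forall] at hnotQ
      obtain ⟨w, hw, hw'⟩ := hnotQ
      obtain ⟨w, rfl⟩ := Submodule.mkQ_surjective _ w
      refine flat_of_height_one (n := n) q p hpq hp1 hp hflatp hnot α
        (fun f hf => mem_of_fibZero_of_univInj q p hpq hp1 α hUI f hf) w (fun t ht => ?_) fun u hu f hf => ?_
      · obtain ⟨u, hu, hmem⟩ := hw t ht
        rw [← map_smul, ← map_smul] at hmem
        obtain ⟨y, ⟨f, rfl⟩, hy⟩ := exists_lift_smul_top _ _ hmem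
        exact ⟨u, hu, f, FibZero.of_mem hy⟩
      · refine hw' ?_
        obtain ⟨v, hv, hmem⟩ := hf
        refine ⟨v * u, fun h => (‹q.IsPrime›.mem_or_mem h).elim hv hu, ?_⟩
        have h' := Submodule.mem_map_of_mem (f := (LinearMap.range α).mkQ.restrictScalars R) hmem
        rw [Submodule.map_smul''] at h'
        have h'' := Submodule.smul_mono (le_refl (q.comap (algebraMap R P))) le_top h'
        have hz : (LinearMap.range α).mkQ (α f) = 0 := (Submodule.Quotient.mk_eq_zero _).2 ⟨f, rfl⟩
        rw [LinearMap.coe_restrictScalars, map_smul, map_sub, map_smul, hz, sub_zero, smul_smul] at h''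
        exact h''
    right
    obtain ⟨m, rfl, z, hqf⟩ := hdrop g hgp hgq
    let S := P ⧸ Ideal.span {g}
    let Q := N ⧸ LinearMap.range α
    have htors : Module.IsTorsionBySet P Q (Ideal.span {g} : Ideal P) := fun x a => by
      obtain ⟨c, hc⟩ := Ideal.mem_span_singleton.1 a.2
      show (a : P) • x = 0
      rw [hc, mul_comm, mul_smul, hann, smul_zero]
    letI : Module S Q := htors.module
    haveI : IsScalarTower P S Q := htors.isScalarTower
    haveI : IsScalarTower R S Q := IsScalarTower.to₁₃₄ R P S Q
    haveI : Module.Finite S Q := Module.Finite.of_restrictScalars_finite P S Q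
    have hker : Ideal.span {g} ≤ q := (Ideal.span_singleton_le_iff_mem _).2 hgq
    let qS : Ideal S := q.map (Ideal.Quotient.mk (Ideal.span {g}))
    haveI : qS.IsPrime := Ideal.map_isPrime_of_surjective Ideal.Quotient.mk_surjective (by rwa [Ideal.mk_ker])
    have hqS : qS.comap (Ideal.Quotient.mk (Ideal.span {g})) = q := by
      rw [Ideal.comap_map_of_surjective _ Ideal.Quotient.mk_surjective, sup_eq_left]
      exact (Ideal.mk_ker (I := Ideal.span {g})).le.trans hker
    haveI : qS.LiesOver q := ⟨hqS.symm⟩
    have hqR : qS.comap (algebraMap R S) = q.comap (algebraMap R P) := by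
      rw [IsScalarTower.algebraMap_eq R P S, ← Ideal.comap_comap]
      exact congrArg (Ideal.comap (algebraMap R P)) hqS
    haveI := isLocalizedModule_of_surjective Ideal.Quotient.mk_surjective q qS
      (LocalizedModule.mkLinearMap qS.primeCompl Q)
    have hpunctS : PunctFlat R Q qS := fun qS' _ hlt hc => by
      let q' := qS'.comap (Ideal.Quotient.mk (Ideal.span {g}))
      haveI : qS'.LiesOver q' := ⟨rfl⟩
      have hq'q : q' < q := by
        refine lt_of_le_of_ne (hqS ▸ Ideal.comap_mono hlt.le) fun he => hlt.ne ?_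
        rw [← Ideal.map_comap_of_surjective _ Ideal.Quotient.mk_surjective qS']
        exact congrArg (Ideal.map _) he
      have hq'R : q'.comap (algebraMap R P) = q.comap (algebraMap R P) := by
        rw [← hqR, ← hc, IsScalarTower.algebraMap_eq R P S, ← Ideal.comap_comap]
        rfl
      have hpq' : p ≤ q' := fun a ha => by
        obtain ⟨t, ht, hta⟩ := hp a ha
        have hta' : t * a ∈ q' := Ideal.map_le_iff_le_comap.2 hq'R.ge hta
        exact ((inferInstance : q'.IsPrime).mem_or_mem hta').resolve_left fun h => ht (hq'q.le h)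
      have hflat' := hpunct q' hq'q hq'R
      haveI : Module.Flat R (LocalizedModule q'.primeCompl N) := hflat'
      obtain ⟨hUI', -, -⟩ := univInj_of_generic (q'.comap (algebraMap R P)) q' p hpq' rfl (hp1.trans hq'R.symm)
        (fun a ha => by
          obtain ⟨t, ht, hta⟩ := hp a ha
          exact ⟨t, fun h => ht (hq'q.le h), by rwa [hq'R]⟩)
        (fun p' _ => isReduced_fiber (n := m + 1) p') hflatp e hspan hind
      haveI : Module.Flat R (LocalizedModule q'.primeCompl Q) :=
        flat_of_univInj ((LocalizedModule.map q'.primeCompl α).restrictScalars R)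
          ((LocalizedModule.map q'.primeCompl (LinearMap.range α).mkQ).restrictScalars R)
          (LocalizedModule.map_exact q'.primeCompl _ _ (LinearMap.exact_map_mkQ_range α))
          (LocalizedModule.map_surjective q'.primeCompl _ (Submodule.mkQ_surjective _)) hUI'
      haveI := isLocalizedModule_of_surjective Ideal.Quotient.mk_surjective q' qS'
        (LocalizedModule.mkLinearMap qS'.primeCompl Q)
      exact Module.Flat.of_linearEquiv ((IsLocalizedModule.linearEquiv q'.primeCompl
        ((LocalizedModule.mkLinearMap qS'.primeCompl Q).restrictScalars P)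
        (LocalizedModule.mkLinearMap q'.primeCompl Q)).restrictScalars R)
    have hnotS : NotAssFib R Q qS := fun x hx => by
      obtain ⟨u, hu, hux⟩ := hnotQ x fun t ht => by
        obtain ⟨v, hv, hvt⟩ := hx (Ideal.Quotient.mk _ t) (Ideal.mem_map_of_mem _ ht)
        obtain ⟨v, rfl⟩ := Ideal.Quotient.mk_surjective v
        refine ⟨v, fun h => hv (Ideal.mem_map_of_mem _ h), ?_⟩
        rw [hqR] at hvt
        rwa [← algebraMap_smul S v, ← algebraMap_smul S t]
      refine ⟨Ideal.Quotient.mk _ u, fun h => hu (hqS ▸ h), ?_⟩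
      rw [hqR]
      exact (algebraMap_smul S u x).symm ▸ hux
    let R' := MvPolynomial (Fin m) R
    let Φ : R' →ₐ[R] S :=
      MvPolynomial.aeval fun i => Ideal.Quotient.mk (Ideal.span {g}) (algebraMap (MvPolynomial (Fin (m + 1)) R) P (z i))
    letI : Algebra R' S := Φ.toRingHom.toAlgebra
    haveI : IsScalarTower R R' S := IsScalarTower.of_algebraMap_eq fun c => (Φ.commutes c).symm
    haveI : Algebra.FiniteType R S :=
      Algebra.FiniteType.of_surjective (Ideal.Quotient.mkₐ R _) Ideal.Quotient.mk_surjective
    haveI : Algebra.FiniteType R' S := Algebra.FiniteType.of_restrictScalars_finiteType R R' S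
    haveI : Algebra.QuasiFiniteAt R' qS := hqf qS hqS
    haveI := crit_step (R' := R') (fun R'' _ _ _ _ _ => ih m (Nat.lt_succ_self m) (R := R) (P := R'')) Q qS
      hpunctS hnotS
    exact Module.Flat.of_linearEquiv ((IsLocalizedModule.linearEquiv q.primeCompl
      (LocalizedModule.mkLinearMap q.primeCompl Q)
      ((LocalizedModule.mkLinearMap qS.primeCompl Q).restrictScalars P)).restrictScalars R)

/-- Flatness at equal primes. -/
theorem flat_congr_prime {R S N : Type u} [CommRing R] [CommRing S] [AddCommGroup N] [Module S N] [Module R N]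
    [Algebra R S] [IsScalarTower R S N] {I J : Ideal S} [I.IsPrime] [J.IsPrime] (e : I = J)
    (h : Module.Flat R (LocalizedModule I.primeCompl N)) : Module.Flat R (LocalizedModule J.primeCompl N) := by
  subst e
  exact h

/-- The criterion for algebras of finite type. -/
theorem crit_finiteType {R S : Type u} [CommRing R] [CommRing S] [Algebra R S] [Algebra.FiniteType R S] :
    CritAt R S := by
  intro N _ _ _ _ _ q _ hpunct hnot
  obtain ⟨n, π, hπ⟩ := Algebra.FiniteType.iff_quotient_mvPolynomial''.1 ‹Algebra.FiniteType R S›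
  let P := MvPolynomial (Fin n) R
  letI : Algebra P S := π.toRingHom.toAlgebra
  haveI : IsScalarTower R P S := IsScalarTower.of_algebraMap_eq fun c => (π.commutes c).symm
  letI : Module P N := Module.compHom N π.toRingHom
  haveI : IsScalarTower P S N := IsScalarTower.of_compHom _ _ _
  haveI : IsScalarTower R P N := IsScalarTower.of_algebraMap_smul fun c x => by
    show π (algebraMap R P c) • x = c • x
    rw [π.commutes, algebraMap_smul]
  haveI : Module.Finite P S := Module.Finite.of_surjective (Algebra.linearMap P S) hπ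
  haveI : Module.Finite P N := Module.Finite.trans S N
  let qP := q.under P
  haveI : q.LiesOver qP := ⟨rfl⟩
  have hqR : qP.comap (algebraMap R P) = q.comap (algebraMap R S) := by
    show (q.comap (algebraMap P S)).comap (algebraMap R P) = _
    rw [Ideal.comap_comap, ← IsScalarTower.algebraMap_eq]
  have hkersub : ∀ x ∈ RingHom.ker (algebraMap P S), ∀ y : N, x • y = 0 := fun x hx y => by
    rw [← algebraMap_smul S x y, show algebraMap P S x = 0 from hx, zero_smul]
  have hflatP : Module.Flat R (LocalizedModule qP.primeCompl N) := by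
    refine crit_etale n (R := R) (P := P) N qP (fun q' _ hlt hc => ?_) fun x hx => ?_
    · by_cases hk : RingHom.ker (algebraMap P S) ≤ q'
      · let qS' := q'.map (algebraMap P S)
        haveI : qS'.IsPrime := Ideal.map_isPrime_of_surjective hπ hk
        have hc' : qS'.comap (algebraMap P S) = q' := by
          rw [Ideal.comap_map_of_surjective (algebraMap P S) hπ, sup_eq_left]
          exact hk
        haveI : qS'.LiesOver q' := ⟨hc'.symm⟩
        have hle : qS' ≤ q := Ideal.map_le_iff_le_comap.2 hlt.le
        have hne : qS' ≠ q := fun he => hlt.ne (hc'.symm.trans (congrArg (Ideal.comap _) he))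
        have hR : qS'.comap (algebraMap R S) = q.comap (algebraMap R S) := by
          rw [← hqR, ← hc, IsScalarTower.algebraMap_eq R P S, ← Ideal.comap_comap, hc']
        haveI := hpunct qS' (lt_of_le_of_ne hle hne) hR
        haveI := isLocalizedModule_of_surjective (P := P) hπ q' qS' (LocalizedModule.mkLinearMap qS'.primeCompl N)
        exact Module.Flat.of_linearEquiv ((IsLocalizedModule.linearEquiv q'.primeCompl
          (LocalizedModule.mkLinearMap q'.primeCompl N)
          ((LocalizedModule.mkLinearMap qS'.primeCompl N).restrictScalars P)).restrictScalars R)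
      · obtain ⟨a, ha, haq⟩ := SetLike.not_le_iff_exists.1 hk
        haveI : Subsingleton (LocalizedModule q'.primeCompl N) := by
          rw [LocalizedModule.subsingleton_iff]
          exact fun y => ⟨a, haq, hkersub a ha y⟩
        infer_instance
    · obtain ⟨u, hu, hux⟩ := hnot x fun t ht => by
        obtain ⟨t, rfl⟩ := hπ t
        obtain ⟨v, hv, hvt⟩ := hx t ht
        exact ⟨π v, hv, by rw [← hqR]; exact hvt⟩
      obtain ⟨u, rfl⟩ := hπ u
      exact ⟨u, hu, by rw [hqR]; exact hux⟩
  haveI := hflatP
  haveI := isLocalizedModule_of_surjective (P := P) hπ qP q (LocalizedModule.mkLinearMap q.primeCompl N)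
  exact Module.Flat.of_linearEquiv ((IsLocalizedModule.linearEquiv qP.primeCompl
    ((LocalizedModule.mkLinearMap q.primeCompl N).restrictScalars P)
    (LocalizedModule.mkLinearMap qP.primeCompl N)).restrictScalars R)

/-- **Flatness at a point follows from flatness at the associated points of the fibre below it.** -/
theorem flatAt_of_ass {R S : Type u} [CommRing R] [CommRing S] [Algebra R S] [Algebra.FiniteType R S]
    (N : Type u) [AddCommGroup N] [Module S N] [Module R N] [IsScalarTower R S N] [Module.Finite S N]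
    (p : Ideal R) [p.IsPrime] (q : Ideal S) [q.IsPrime] [q.LiesOver p]
    (h : ∀ (q' : Ideal S) [q'.IsPrime], q' ≤ q → q'.LiesOver p →
      FlatCA.fiberIdeal p q' ∈ associatedPrimes (p.Fiber S) (FlatCA.fiberMod p S N) →
      Module.Flat R (LocalizedModule q'.primeCompl N)) :
    Module.Flat R (LocalizedModule q.primeCompl N) := by
  classical
  let toFib : S →+* p.Fiber S := GrothLib.WeakAssFib.toFib p
  haveI : IsNoetherianRing (p.Fiber S) := Algebra.FiniteType.isNoetherianRing p.ResidueField (p.Fiber S)
  let C : Set (PrimeSpectrum (p.Fiber S)) :=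
    {x | ¬ Module.Flat R (LocalizedModule (x.asIdeal.comap toFib).primeCompl N)}
  have hC : IsClosed C := by
    rw [← isOpen_compl_iff, isOpen_iff_forall_mem_open]
    intro x hx
    simp only [Set.mem_compl_iff, C, Set.mem_setOf_eq, not_not] at hx
    obtain ⟨g, hg, H⟩ := exists_flat_near_in_fibre N p (x.asIdeal.comap toFib) hx
    refine ⟨PrimeSpectrum.basicOpen (toFib g), fun y hy => ?_, (PrimeSpectrum.basicOpen _).2, hg⟩
    simp only [Set.mem_compl_iff, C, Set.mem_setOf_eq, not_not]
    exact H _ ⟨(GrothLib.WeakAssFib.comap_comap_toFib p y.asIdeal).symm⟩ hy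
  obtain ⟨I, hI⟩ := (PrimeSpectrum.isClosed_iff_zeroLocus_ideal C).1 hC
  haveI hqb : (FlatCA.fiberIdeal p q).IsPrime := isPrime_fiberIdeal p q
  by_contra hflat
  have hqC : (⟨FlatCA.fiberIdeal p q, hqb⟩ : PrimeSpectrum (p.Fiber S)) ∈ C := by
    intro hf
    apply hflat
    exact flat_congr_prime (GrothLib.WeakAssFib.comap_fiberIdeal p q) hf
  have hIle : I ≤ FlatCA.fiberIdeal p q := by
    rw [hI] at hqC
    exact hqC
  obtain ⟨x₀, hx₀, hx₀le⟩ := Ideal.exists_minimalPrimes_le hIle
  haveI := hx₀.1.1
  let q₀ := x₀.comap toFib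
  have hq₀C : (⟨x₀, inferInstance⟩ : PrimeSpectrum (p.Fiber S)) ∈ C := by
    rw [hI]
    exact hx₀.1.2
  haveI hq₀over : q₀.LiesOver p := ⟨(GrothLib.WeakAssFib.comap_comap_toFib p x₀).symm⟩
  have hq₀q : q₀ ≤ q := by
    show x₀.comap toFib ≤ q
    rw [← GrothLib.WeakAssFib.comap_fiberIdeal p q]
    exact Ideal.comap_mono hx₀le
  refine hq₀C (crit_finiteType (R := R) N q₀ (fun q' _ hlt hc => ?_) ?_)
  · have hq'p : q'.comap (algebraMap R S) = p := hc.trans (q₀.over_def p).symm
    haveI : q'.LiesOver p := ⟨hq'p.symm⟩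
    haveI : (FlatCA.fiberIdeal p q').IsPrime := isPrime_fiberIdeal p q'
    by_contra hnf
    have hmem : (⟨FlatCA.fiberIdeal p q', inferInstance⟩ : PrimeSpectrum (p.Fiber S)) ∈ C := by
      intro hf
      apply hnf
      exact flat_congr_prime (GrothLib.WeakAssFib.comap_fiberIdeal p q') hf
    rw [hI] at hmem
    have hle : FlatCA.fiberIdeal p q' ≤ x₀ := Ideal.map_le_iff_le_comap.2 hlt.le
    have h0 := hx₀.2 ⟨inferInstance, hmem⟩ hle
    exact hlt.not_ge ((Ideal.comap_mono h0).trans (GrothLib.WeakAssFib.comap_fiberIdeal p q').le)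
  · intro x hx
    by_contra hx0
    have hp : q₀.comap (algebraMap R S) = p := (q₀.over_def p).symm
    refine hq₀C (h q₀ hq₀q hq₀over (mem_ass_of_local p q₀ (x ⊗ₜ[R] (1 : p.ResidueField)) (fun s hs => ?_) fun s hs => ?_))
    · by_contra hsq
      apply hx0
      refine FibZero.of_smul hsq ?_
      rw [TensorProduct.smul_tmul'] at hs
      obtain ⟨u, hu, hmem⟩ := GrothLib.WeakAssFib.exists_smul_mem_of_tmul_one_eq_zero p hs
      refine ⟨algebraMap R S u, fun h' => hu (hp ▸ h'), ?_⟩
      rw [algebraMap_smul, hp]
      exact hmem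
    · obtain ⟨u, hu, hus⟩ := hx s hs
      rw [hp] at hus
      exact ⟨u, hu, by rw [TensorProduct.smul_tmul', mul_smul, tmul_one_eq_zero_of_mem p hus]⟩

end GrothLib.RG6
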