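import Groth.Agent.Lib.RG6.Dense

/-!
# Local finite presentation from a schematically dense open of the base
-/

set_option autoImplicit false
set_option backward.isDefEq.respectTransparency false
set_option linter.style.haveILetI false
set_option maxHeartbeats 800000

universe u

open CategoryTheory AlgebraicGeometry TopologicalSpace

namespace GrothLib.RG6

theorem appLE_finitePresentation_of_le {X S : Scheme.{u}} (f : X ⟶ S) (U : S.Opens)
    [LocallyOfFinitePresentation (f ∣_ U)] {W : S.Opens} (hW : IsAffineOpen W) (hWU : W ≤ U)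
    {V : X.Opens} (hV : IsAffineOpen V) (e : V ≤ f ⁻¹ᵁ W) : (f.appLE W V e).hom.FinitePresentation := by
  obtain ⟨W, rfl⟩ : ∃ W' : U.toScheme.Opens, U.ι ''ᵁ W' = W :=
    ⟨U.ι ⁻¹ᵁ W, by rw [U.ι.image_preimage_eq_opensRange_inf, Scheme.Opens.opensRange_ι, inf_eq_right.2 hWU]⟩
  have hVU : V ≤ f ⁻¹ᵁ U := fun x hx => hWU (e hx)
  obtain ⟨V, rfl⟩ : ∃ V' : (f ⁻¹ᵁ U).toScheme.Opens, (f ⁻¹ᵁ U).ι ''ᵁ V' = V :=
    ⟨(f ⁻¹ᵁ U).ι ⁻¹ᵁ V, by
      rw [(f ⁻¹ᵁ U).ι.image_preimage_eq_opensRange_inf, Scheme.Opens.opensRange_ι, inf_eq_right.2 hVU]⟩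
  rw [U.ι.isAffineOpen_iff_of_isOpenImmersion] at hW
  rw [(f ⁻¹ᵁ U).ι.isAffineOpen_iff_of_isOpenImmersion] at hV
  have e' : V ≤ (f ∣_ U) ⁻¹ᵁ W := by
    intro x hx
    have hx' : (f ⁻¹ᵁ U).ι x ∈ f ⁻¹ᵁ (U.ι ''ᵁ W) := e ⟨x, hx, rfl⟩
    rw [← image_morphismRestrict_preimage f U W] at hx'
    obtain ⟨y, hy, hyx⟩ := hx'
    rwa [(f ⁻¹ᵁ U).ι.isOpenEmbedding.injective hyx] at hy
  have h := (f ∣_ U).finitePresentation_appLE hW hV e'
  rw [morphismRestrict_appLE] at h
  exact h

/-- **Flat, locally of finite type and locally of finite presentation over a quasi-compact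
schematically dense open implies locally of finite presentation.** -/
theorem locallyOfFinitePresentation_of_dense {X S : Scheme.{u}} (f : X ⟶ S) [LocallyOfFiniteType f] [Flat f]
    (U : S.Opens) [QuasiCompact U.ι] [IsSchemeTheoreticallyDominant U.ι] [LocallyOfFinitePresentation (f ∣_ U)] :
    LocallyOfFinitePresentation f := by
  refine ⟨fun {W} hW {V} hV e => ?_⟩
  classical
  -- a finite family of basic opens covering `U ⊓ W`
  obtain ⟨t, ht, hcov⟩ : ∃ t : Finset Γ(S, W), (∀ r ∈ t, S.basicOpen r ≤ U) ∧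
      U ⊓ W ≤ ⨆ r : t, S.basicOpen r.1 := by
    have hc : IsCompact ((U ⊓ W : S.Opens) : Set S) := by
      have h1 := (U.ι.isCompact_preimage hW.isCompact).image U.ι.continuous
      rw [show U ⊓ W = U.ι ''ᵁ U.ι ⁻¹ᵁ W by
        rw [U.ι.image_preimage_eq_opensRange_inf, Scheme.Opens.opensRange_ι]]
      exact h1
    have hex : ∀ x : ((U ⊓ W : S.Opens) : Set S), ∃ r : Γ(S, W), S.basicOpen r ≤ U ⊓ W ∧ (x : S) ∈ S.basicOpen r :=
      fun x => hW.exists_basicOpen_le (V := U ⊓ W) ⟨x, x.2⟩ x.2.2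
    choose r hr hxr using hex
    obtain ⟨s, hs⟩ := hc.elim_finite_subcover (fun x => ((S.basicOpen (r x) : S.Opens) : Set S))
      (fun x => (S.basicOpen (r x)).2) fun x hx => Set.mem_iUnion.2 ⟨⟨x, hx⟩, hxr _⟩
    refine ⟨s.image r, fun g hg => ?_, fun x hx => ?_⟩
    · obtain ⟨y, -, rfl⟩ := Finset.mem_image.1 hg
      exact (hr y).trans inf_le_left
    · obtain ⟨y, hy, hxy⟩ := Set.mem_iUnion₂.1 (hs hx)
      exact Opens.mem_iSup.2 ⟨⟨r y, Finset.mem_image_of_mem r hy⟩, hxy⟩
  let n := t.card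
  let g : Fin n → Γ(S, W) := fun i => (t.equivFin.symm i).1
  -- injectivity
  have hdense : Function.Injective (RingHom.pi (fun i => algebraMap Γ(S, W) (Localization.Away (g i)))) := by
    rw [injective_iff_map_eq_zero]
    intro s hs
    apply U.ι.app_injective W
    rw [map_zero]
    have hres : ∀ r : t, S.presheaf.map (homOfLE (S.basicOpen_le r.1)).op s = 0 := fun r => by
      have h := congrFun hs (t.equivFin r)
      change algebraMap Γ(S, W) (Localization.Away (g (t.equivFin r))) s = 0 at h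
      rw [IsLocalization.map_eq_zero_iff (Submonoid.powers (g (t.equivFin r)))] at h
      obtain ⟨⟨_, k, rfl⟩, hk⟩ := h
      rw [show g (t.equivFin r) = r.1 from congrArg Subtype.val (t.equivFin.symm_apply_apply r)] at hk
      have hk' : r.1 ^ k * s = 0 := hk
      haveI := hW.isLocalization_basicOpen r.1
      show algebraMap Γ(S, W) Γ(S, S.basicOpen r.1) s = 0
      rw [IsLocalization.map_eq_zero_iff (Submonoid.powers r.1)]
      exact ⟨⟨r.1 ^ k, k, rfl⟩, hk'⟩
    rw [Scheme.Opens.ι_app]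
    refine S.IsSheaf.section_ext fun x hx => ?_
    have hxUW : x ∈ U ⊓ W := by
      change x ∈ U.ι ''ᵁ U.ι ⁻¹ᵁ W at hx
      rw [U.ι.image_preimage_eq_opensRange_inf, Scheme.Opens.opensRange_ι] at hx
      exact hx
    obtain ⟨r, hxr⟩ := Opens.mem_iSup.1 (hcov hxUW)
    have hle : S.basicOpen r.1 ≤ U.ι ''ᵁ U.ι ⁻¹ᵁ W := by
      rw [U.ι.image_preimage_eq_opensRange_inf, Scheme.Opens.opensRange_ι]
      exact le_inf (ht r.1 r.2) (S.basicOpen_le _)
    refine ⟨S.basicOpen r.1, hle, hxr, ?_⟩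
    show S.presheaf.map (homOfLE hle).op (S.presheaf.map _ s) = S.presheaf.map (homOfLE hle).op 0
    rw [map_zero, ← ConcreteCategory.comp_apply, ← Functor.map_comp]
    exact hres r
  -- finite presentation on the basic opens
  have hflat : (f.appLE W V e).hom.Flat := Scheme.Hom.flat_appLE f hW hV e
  have hft : (f.appLE W V e).hom.FiniteType := Scheme.Hom.finiteType_appLE f hW hV e
  algebraize [(f.appLE W V e).hom]
  refine GrothLib.RG6.fp_algebra_of_dense g hdense fun i => ?_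
  let F : Γ(X, V) := algebraMap Γ(S, W) Γ(X, V) (g i)
  have e₁ : X.basicOpen F ≤ f ⁻¹ᵁ S.basicOpen (g i) := by
    rw [f.preimage_basicOpen]
    show X.basicOpen (X.presheaf.map (homOfLE e).op (f.app W (g i))) ≤ _
    rw [Scheme.basicOpen_res]
    exact inf_le_right
  have hi := appLE_finitePresentation_of_le f U (hW.basicOpen (g i)) (ht _ (t.equivFin.symm i).2)
    (hV.basicOpen F) e₁
  haveI := hW.isLocalization_basicOpen (g i)
  haveI := hV.isLocalization_basicOpen F
  have hA : (algebraMap Γ(S, W) Γ(S, S.basicOpen (g i))).FinitePresentation :=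
    RingHom.finitePresentation_algebraMap.2 (IsLocalization.Away.finitePresentation (g i))
  have hcomp := hi.comp hA
  letI : Algebra Γ(S, W) Γ(X, X.basicOpen F) :=
    ((algebraMap Γ(X, V) Γ(X, X.basicOpen F)).comp (algebraMap Γ(S, W) Γ(X, V))).toAlgebra
  haveI : IsScalarTower Γ(S, W) Γ(X, V) Γ(X, X.basicOpen F) := IsScalarTower.of_algebraMap_eq' rfl
  have heq : (f.appLE (S.basicOpen (g i)) (X.basicOpen F) e₁).hom.comp (algebraMap Γ(S, W) Γ(S, S.basicOpen (g i))) =
      algebraMap Γ(S, W) Γ(X, X.basicOpen F) := by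
    rw [IsScalarTower.algebraMap_eq Γ(S, W) Γ(X, V) Γ(X, X.basicOpen F)]
    show (S.presheaf.map (homOfLE (S.basicOpen_le (g i))).op ≫ f.appLE (S.basicOpen (g i)) (X.basicOpen F) e₁).hom =
      (f.appLE W V e ≫ X.presheaf.map (homOfLE (X.basicOpen_le F)).op).hom
    rw [Scheme.Hom.map_appLE, Scheme.Hom.appLE_map]
  rw [heq] at hcomp
  haveI : Algebra.FinitePresentation Γ(S, W) Γ(X, X.basicOpen F) := RingHom.finitePresentation_algebraMap.1 hcomp
  exact Algebra.FinitePresentation.equiv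
    ((IsLocalization.algEquiv (Submonoid.powers F) Γ(X, X.basicOpen F) (Localization.Away F)).restrictScalars Γ(S, W))

end GrothLib.RG6
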