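import Groth.Agent.Lib.RG6.Near
import Groth.Agent.Lib.LocalFP.Basic

/-!
# Flat loci over bases with finitely many weakly associated primes
-/

set_option autoImplicit false
set_option backward.isDefEq.respectTransparency false
set_option linter.style.haveILetI false
set_option maxHeartbeats 800000

universe u

open TensorProduct

namespace GrothLib.RG6

variable {R S : Type u} [CommRing R] [CommRing S] [Algebra R S]

/-- A module finitely presented relative to the base is finitely presented. -/
theorem fp_of_relFP {M : Type u} [AddCommGroup M] [Module S M] (h : FlatCA.RelFinitePresentation R S M) :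
    Module.FinitePresentation S M := by
  obtain ⟨n, φ, hφ, hM⟩ := h
  let Q := MvPolynomial (Fin n) R
  letI : Algebra Q S := φ.toRingHom.toAlgebra
  letI : Module Q M := Module.compHom M φ.toRingHom
  haveI : IsScalarTower Q S M := IsScalarTower.of_compHom _ _ _
  haveI : Module.Finite Q S := Module.Finite.of_surjective (Algebra.linearMap Q S) hφ
  haveI : Module.FinitePresentation Q M := hM
  exact fp_of_restrict (A := Q)

/-- An algebra finitely presented relative to the base as a module is finitely presented. -/
theorem fp_algebra_of_relFP {M : Type u} [AddCommGroup M] [Module S M] (e : M ≃ₗ[S] S)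
    (h : FlatCA.RelFinitePresentation R S M) : Algebra.FinitePresentation R S := by
  obtain ⟨n, φ, hφ, hM⟩ := h
  let Q := MvPolynomial (Fin n) R
  letI : Algebra Q S := φ.toRingHom.toAlgebra
  letI : Module Q M := Module.compHom M φ.toRingHom
  haveI : IsScalarTower Q S M := IsScalarTower.of_compHom _ _ _
  haveI : Module.FinitePresentation Q M := hM
  haveI : Module.FinitePresentation Q S := Module.FinitePresentation.of_equiv (e.restrictScalars Q)
  exact Algebra.FinitePresentation.of_surjective (f := φ) hφ
    (Module.FinitePresentation.fg_ker (Algebra.linearMap Q S) hφ)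

omit [CommRing S] [Algebra R S] in
/-- Finite presentation over a finitely presented algebra mapping onto the ring. -/
theorem relFP_of_surjective {A B : Type u} [CommRing A] [CommRing B] [Algebra R A] [Algebra R B] [Algebra A B]
    [IsScalarTower R A B] [Algebra.FinitePresentation R A] (X : Type u) [AddCommGroup X] [Module B X] [Module A X]
    [IsScalarTower A B X] [Module.FinitePresentation A X] (h : Function.Surjective (IsScalarTower.toAlgHom R A B)) :
    FlatCA.RelFinitePresentation R B X := by
  obtain ⟨m, θ, hθ, hker⟩ := Algebra.FinitePresentation.out (R := R) (A := A)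
  refine ⟨m, (IsScalarTower.toAlgHom R A B).comp θ, h.comp hθ, ?_⟩
  let Q := MvPolynomial (Fin m) R
  letI : Algebra Q A := θ.toRingHom.toAlgebra
  letI : Module Q X := Module.compHom X ((IsScalarTower.toAlgHom R A B).comp θ).toRingHom
  haveI : IsScalarTower Q A X := IsScalarTower.of_algebraMap_smul fun a x => (algebraMap_smul B (θ a) x).symm
  haveI : Module.FinitePresentation Q A :=
    Module.finitePresentation_of_surjective (Algebra.linearMap Q A) hθ hker
  exact Module.FinitePresentation.trans Q X A

variable [Algebra.FiniteType R S]

/-- **Near a point of flatness, over a base with finitely many weakly associated primes.** -/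
theorem exists_good_finiteType (hR : (FlatCA.weakAss R R).Finite)
    (N : Type u) [AddCommGroup N] [Module S N] [Module R N] [IsScalarTower R S N] [Module.Finite S N]
    (q : Ideal S) [q.IsPrime] (hflat : Module.Flat R (LocalizedModule q.primeCompl N)) :
    ∃ g ∉ q, Module.Flat R (LocalizedModule (Submonoid.powers g) N) ∧
      FlatCA.RelFinitePresentation R (Localization.Away g) (LocalizedModule (Submonoid.powers g) N) := by
  obtain ⟨n, π, hπ⟩ := Algebra.FiniteType.iff_quotient_mvPolynomial''.1 ‹Algebra.FiniteType R S›
  let P := MvPolynomial (Fin n) R
  letI : Algebra P S := π.toRingHom.toAlgebra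
  haveI : IsScalarTower R P S := IsScalarTower.of_algebraMap_eq fun c => (π.commutes c).symm
  letI : Module P N := Module.compHom N π.toRingHom
  haveI : IsScalarTower P S N := IsScalarTower.of_compHom _ _ _
  haveI : IsScalarTower R P N := IsScalarTower.of_algebraMap_smul fun c x => by
    show π (algebraMap R P c) • x = c • x
    rw [π.commutes, algebraMap_smul]
  haveI : Module.Finite P S := Module.Finite.of_surjective (Algebra.linearMap P S) hπ
  haveI : Module.Finite P N := Module.Finite.trans S N
  let p := q.under P
  haveI : q.LiesOver p := ⟨rfl⟩
  haveI := isLocalizedModule_of_surjective (P := P) hπ p q (LocalizedModule.mkLinearMap q.primeCompl N)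
  have hflat' : Module.Flat R (LocalizedModule p.primeCompl N) := by
    haveI := hflat
    exact Module.Flat.of_linearEquiv ((IsLocalizedModule.linearEquiv p.primeCompl
      (LocalizedModule.mkLinearMap p.primeCompl N)
      ((LocalizedModule.mkLinearMap q.primeCompl N).restrictScalars P)).restrictScalars R)
  obtain ⟨f, hf, hfp, hflatf⟩ := exists_good hR N p hflat'
  refine ⟨π f, hf, ?_⟩
  let Pf := Localization.Away f
  let Sg := Localization.Away (π f)
  let X := LocalizedModule (Submonoid.powers (π f)) N
  haveI hloc : IsLocalizedModule (Submonoid.powers f)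
      ((LocalizedModule.mkLinearMap (Submonoid.powers (π f)) N).restrictScalars P) := by
    haveI : IsLocalizedModule (Submonoid.powers (algebraMap P S f)) (LocalizedModule.mkLinearMap (Submonoid.powers (π f)) N) :=
      inferInstanceAs (IsLocalizedModule (Submonoid.powers (π f)) (LocalizedModule.mkLinearMap (Submonoid.powers (π f)) N))
    exact IsLocalizedModule.restrictScalars_powers f (LocalizedModule.mkLinearMap (Submonoid.powers (π f)) N)
  let e := IsLocalizedModule.linearEquiv (Submonoid.powers f) (LocalizedModule.mkLinearMap (Submonoid.powers f) N)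
    ((LocalizedModule.mkLinearMap (Submonoid.powers (π f)) N).restrictScalars P)
  refine ⟨haveI := hflatf; Module.Flat.of_linearEquiv (e.restrictScalars R).symm, ?_⟩
  haveI : Algebra.FinitePresentation R Pf :=
    haveI : Algebra.FinitePresentation P Pf := IsLocalization.Away.finitePresentation f
    Algebra.FinitePresentation.trans R P Pf
  let ψ : Pf →ₐ[R] Sg := Localization.awayMapₐ π f
  have hψ : Function.Surjective ψ :=
    IsLocalization.Away.mapₐ_surjective_of_surjective (R := R) (A := P) (B := S) (Aₚ := Pf) (Bₚ := Sg) f hπ
  letI : Algebra Pf Sg := ψ.toRingHom.toAlgebra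
  haveI : IsScalarTower R Pf Sg := IsScalarTower.of_algebraMap_eq fun c => (ψ.commutes c).symm
  letI : Module Pf X := Module.compHom X ψ.toRingHom
  haveI : IsScalarTower Pf Sg X := IsScalarTower.of_compHom _ _ _
  haveI : IsScalarTower P Pf X := IsScalarTower.of_algebraMap_smul fun a x => by
    have h1 : ψ (algebraMap P Pf a) = algebraMap S Sg (π a) := by
      simp [ψ, Localization.awayMapₐ, IsLocalization.Away.mapₐ, IsLocalization.Away.map, IsLocalization.map_eq, P, Pf, Sg]
    show ψ (algebraMap P Pf a) • x = a • x
    rw [h1, algebraMap_smul]
    exact algebraMap_smul S a x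
  haveI : Module.FinitePresentation Pf (LocalizedModule (Submonoid.powers f) N) := hfp
  haveI : Module.FinitePresentation Pf X :=
    Module.FinitePresentation.of_equiv (e.extendScalarsOfIsLocalization (Submonoid.powers f) Pf)
  exact relFP_of_surjective (A := Pf) (B := Sg) X hψ

/-- The flat locus is open. -/
theorem isOpen_flatLocus_of_weakAss (hR : (FlatCA.weakAss R R).Finite)
    (N : Type u) [AddCommGroup N] [Module S N] [Module R N] [IsScalarTower R S N] [Module.Finite S N] :
    IsOpen {q : PrimeSpectrum S | Module.Flat R (LocalizedModule q.asIdeal.primeCompl N)} := by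
  refine isOpen_iff_forall_mem_open.2 fun q hq => ?_
  obtain ⟨g, hg, hflat, -⟩ := exists_good_finiteType hR N q.asIdeal hq
  exact ⟨PrimeSpectrum.basicOpen g, fun q' hq' => flatAt_of_powers g q'.asIdeal hq' hflat,
    (PrimeSpectrum.basicOpen g).2, hg⟩

omit [Algebra.FiniteType R S] in
/-- Finite presentation is checked near every prime. -/
theorem fp_of_forall_exists (N : Type u) [AddCommGroup N] [Module S N]
    (H : ∀ (q : Ideal S) [q.IsPrime], ∃ g ∉ q,
      Module.FinitePresentation (Localization.Away g) (LocalizedModule (Submonoid.powers g) N)) :
    Module.FinitePresentation S N := by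
  refine GrothLib.LocalFP.finitePresentation_of_localizationSpan N
    {g : S | Module.FinitePresentation (Localization.Away g) (LocalizedModule (Submonoid.powers g) N)} ?_ fun g => g.2
  by_contra hne
  obtain ⟨m, hm, hle⟩ := Ideal.exists_le_maximal _ hne
  obtain ⟨g, hg, hfp⟩ := H m
  exact hg (hle (Ideal.subset_span hfp))

/-- **A flat finite module over a finite type algebra over a base with finitely many weakly
associated primes is finitely presented.** -/
theorem fp_of_flat (hR : (FlatCA.weakAss R R).Finite)
    (N : Type u) [AddCommGroup N] [Module S N] [Module R N] [IsScalarTower R S N] [Module.Finite S N]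
    [Module.Flat R N] : Module.FinitePresentation S N := by
  refine fp_of_forall_exists N fun q _ => ?_
  obtain ⟨g, hg, -, hrel⟩ := exists_good_finiteType hR N q (GrothLib.NagataFP.flat_localized _)
  exact ⟨g, hg, fp_of_relFP hrel⟩

/-- Near a point of flatness the algebra is finitely presented. -/
theorem exists_good_algebra (hR : (FlatCA.weakAss R R).Finite) (q : Ideal S) [q.IsPrime]
    (hflat : Module.Flat R (Localization.AtPrime q)) :
    ∃ g ∉ q, Algebra.FinitePresentation R (Localization.Away g) ∧ Module.Flat R (Localization.Away g) := by
  haveI := hflat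
  obtain ⟨g, hg, hflatg, hrel⟩ := exists_good_finiteType hR S q
    (Module.Flat.of_linearEquiv ((IsLocalizedModule.linearEquiv q.primeCompl
      (LocalizedModule.mkLinearMap q.primeCompl S) (Algebra.linearMap S (Localization.AtPrime q))).restrictScalars R))
  let e := IsLocalizedModule.linearEquiv (Submonoid.powers g)
    (LocalizedModule.mkLinearMap (Submonoid.powers g) S) (Algebra.linearMap S (Localization.Away g))
  exact ⟨g, hg, fp_algebra_of_relFP (e.extendScalarsOfIsLocalization (Submonoid.powers g) (Localization.Away g)) hrel,
    Module.Flat.of_linearEquiv (e.restrictScalars R).symm⟩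

/-- A flat finite type algebra over a base with finitely many weakly associated primes is finitely
presented. -/
theorem fp_algebra_of_flat (hR : (FlatCA.weakAss R R).Finite) [Module.Flat R S] :
    Algebra.FinitePresentation R S := by
  refine Algebra.FinitePresentation.of_span_eq_top_target
    {g : S | Algebra.FinitePresentation R (Localization.Away g)} ?_ fun g hg => hg
  by_contra hne
  obtain ⟨m, hm, hle⟩ := Ideal.exists_le_maximal _ hne
  haveI : Module.Flat R (Localization.AtPrime m) :=
    haveI : Module.Flat S (Localization.AtPrime m) := IsLocalization.flat _ m.primeCompl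
    Module.Flat.trans R S (Localization.AtPrime m)
  obtain ⟨g, hg, hfp, -⟩ := exists_good_algebra hR m inferInstance
  exact hg (hle (Ideal.subset_span hfp))

omit [Algebra.FiniteType R S] [Algebra R S] [CommRing S] in
/-- A domain has finitely many weakly associated primes. -/
theorem finite_weakAss_domain [IsDomain R] : (FlatCA.weakAss R R).Finite := by
  refine (Set.finite_singleton (⊥ : Ideal R)).subset ?_
  rintro p ⟨x, hx⟩
  by_cases h : x = 0
  · subst h
    exact absurd (eq_top_iff.2 fun a _ => hx.1.2 ((Submodule.mem_annihilator_span_singleton _ _).2 (smul_zero a)))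
      hx.1.1.ne_top
  · refine Set.mem_singleton_iff.2 (le_antisymm (hx.2 ⟨Ideal.isPrime_bot, fun a ha => ?_⟩ bot_le) bot_le)
    exact (mul_eq_zero.1 ((Submodule.mem_annihilator_span_singleton _ _).1 ha)).resolve_right h

end GrothLib.RG6
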