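import Groth.Agent.Lib.RG6.WeakAss
import Groth.Agent.Lib.FibreFlat.UnivRegular

/-!
# Specializations of relative associated points along flat families
-/

set_option autoImplicit false
set_option backward.isDefEq.respectTransparency false
set_option linter.style.haveILetI false
set_option maxHeartbeats 800000

universe u

open TensorProduct GrothLib.AssPts

namespace GrothLib.RG6

/-- An element regular on the fibre is regular after every base change, at a point of flatness. -/
theorem regular_at_flat_point {A B : Type u} [CommRing A] [CommRing B] [Algebra A B] [Algebra.FiniteType A B]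
    (N : Type u) [AddCommGroup N] [Module B N] [Module A N] [IsScalarTower A B N] [Module.Finite B N]
    (p : Ideal A) [p.IsPrime] (t : Ideal B) [t.IsPrime] [t.LiesOver p]
    (hflat : Module.Flat A (LocalizedModule t.primeCompl N)) (b : B)
    (hb : ∀ w : N ⊗[A] p.ResidueField, b • w = 0 → ∃ u ∉ t, u • w = 0)
    (Q : Type u) [AddCommGroup Q] [Module A Q] (z : N ⊗[A] Q) (hz : b • z = 0) : ∃ u ∉ t, u • z = 0 := by
  obtain ⟨n, π, hπ⟩ := Algebra.FiniteType.iff_quotient_mvPolynomial''.1 ‹Algebra.FiniteType A B›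
  let P := MvPolynomial (Fin n) A
  letI : Algebra P B := π.toRingHom.toAlgebra
  haveI : IsScalarTower A P B := IsScalarTower.of_algebraMap_eq fun c => (π.commutes c).symm
  letI : Module P N := Module.compHom N π.toRingHom
  haveI : IsScalarTower P B N := IsScalarTower.of_compHom _ _ _
  haveI : IsScalarTower A P N := IsScalarTower.of_algebraMap_smul fun c x => by
    show π (algebraMap A P c) • x = c • x
    rw [π.commutes, algebraMap_smul]
  haveI : Module.Finite P B := Module.Finite.of_surjective (Algebra.linearMap P B) hπ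
  haveI : Module.Finite P N := Module.Finite.trans B N
  let tP := t.under P
  haveI : t.LiesOver tP := ⟨rfl⟩
  have htP : tP.comap (algebraMap A P) = p := by
    show (t.comap (algebraMap P B)).comap (algebraMap A P) = p
    rw [Ideal.comap_comap, ← IsScalarTower.algebraMap_eq]
    exact (t.over_def p).symm
  haveI := isLocalizedModule_of_surjective (P := P) hπ tP t (LocalizedModule.mkLinearMap t.primeCompl N)
  have hflat' : Module.Flat A (LocalizedModule tP.primeCompl N) := by
    haveI := hflat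
    exact Module.Flat.of_linearEquiv ((IsLocalizedModule.linearEquiv tP.primeCompl
      (LocalizedModule.mkLinearMap tP.primeCompl N)
      ((LocalizedModule.mkLinearMap t.primeCompl N).restrictScalars P)).restrictScalars A)
  have hsmul : ∀ {X : Type u} [AddCommGroup X] [Module A X] (a : P) (x : N ⊗[A] X), π a • x = a • x := by
    intro X _ _ a x
    induction x using TensorProduct.induction_on with
    | zero => rw [smul_zero, smul_zero]
    | add u v hu hv => rw [smul_add, smul_add, hu, hv]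
    | tmul y m => rw [smul_tmul', smul_tmul']; rfl
  obtain ⟨b, rfl⟩ := hπ b
  obtain ⟨N₀, _, _, _, _, _, φ, g, hφ, hg, hflat₀, hkill⟩ := exists_model_near N tP hflat'
  obtain ⟨z₀, rfl⟩ := LinearMap.rTensor_surjective Q (g := φ.restrictScalars A) hφ z
  change π b • AlgebraTensorModule.rTensor A Q φ z₀ = 0 at hz
  rw [hsmul, ← map_smul] at hz
  obtain ⟨s, hs, hsz⟩ := exists_smul_eq_zero_of_rTensor φ hφ tP hkill _ hz
  rw [smul_comm] at hsz
  obtain ⟨u, hu, huz⟩ := GrothLib.FibreFlat.univ_regular (A := A) (K := p.ResidueField) tP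
    (flatAt_of_powers g tP hg hflat₀)
    ((Ideal.ker_algebraMap_residueField p).trans htP.symm) b
    (fun w hw => by
      obtain ⟨a, ha, h1⟩ := hb (AlgebraTensorModule.rTensor A p.ResidueField φ w) (by rw [hsmul, ← map_smul, hw, map_zero])
      obtain ⟨a, rfl⟩ := hπ a
      rw [hsmul, ← map_smul] at h1
      obtain ⟨s, hs, h2⟩ := exists_smul_eq_zero_of_rTensor φ hφ tP hkill _ h1
      exact ⟨s * a, fun h => (‹t.IsPrime›.mem_or_mem ((map_mul π s a) ▸ h)).elim hs ha, by rw [mul_smul]; exact h2⟩)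
    Q _ hsz
  refine ⟨π (u * s), fun h => (‹t.IsPrime›.mem_or_mem ((map_mul π u s) ▸ h)).elim hu hs, ?_⟩
  show π (u * s) • AlgebraTensorModule.rTensor A Q φ z₀ = 0
  rw [hsmul, ← map_smul, mul_smul, huz, map_zero]

/-- **Relative associated points specialize to relative associated points.** -/
theorem exists_assoc_specialization {A B : Type u} [CommRing A] [CommRing B] [Algebra A B] [Algebra.FiniteType A B]
    (N : Type u) [AddCommGroup N] [Module B N] [Module A N] [IsScalarTower A B N] [Module.Finite B N]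
    (p : Ideal A) [p.IsPrime] (p' : Ideal A) [p'.IsPrime] (q' : Ideal B) [q'.IsPrime] [q'.LiesOver p']
    (hass : FlatCA.fiberIdeal p' q' ∈ associatedPrimes (p'.Fiber B) (FlatCA.fiberMod p' B N))
    (t : Ideal B) [t.IsPrime] (hqt : q' ≤ t) [t.LiesOver p]
    (hflat : Module.Flat A (LocalizedModule t.primeCompl N)) :
    ∃ (q : Ideal B) (_ : q.IsPrime), q' ≤ q ∧ q ≤ t ∧ q.LiesOver p ∧
      FlatCA.fiberIdeal p q ∈ associatedPrimes (p.Fiber B) (FlatCA.fiberMod p B N) := by
  classical
  letI : Algebra B (p.Fiber B) := Algebra.TensorProduct.rightAlgebra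
  haveI : IsNoetherianRing (p.Fiber B) := Algebra.FiniteType.isNoetherianRing p.ResidueField (p.Fiber B)
  haveI : Module.Finite (p.Fiber B) (FlatCA.fiberMod p B N) :=
    inferInstanceAs (Module.Finite (p.Fiber B) ((p.Fiber B) ⊗[B] N))
  let toFib : B →+* p.Fiber B := GrothLib.WeakAssFib.toFib p
  let Ass := (associatedPrimes.finite (p.Fiber B) (FlatCA.fiberMod p B N)).toFinset
  have hAss : ∀ P, P ∈ Ass ↔ P ∈ associatedPrimes (p.Fiber B) (FlatCA.fiberMod p B N) := fun P =>
    (associatedPrimes.finite (p.Fiber B) (FlatCA.fiberMod p B N)).mem_toFinset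
  by_contra hne
  obtain ⟨b, hbq, hbP⟩ : ∃ b ∈ q', ∀ P ∈ associatedPrimes (p.Fiber B) (FlatCA.fiberMod p B N),
      P.comap toFib ≤ t → toFib b ∉ P := by
    by_contra hc
    push Not at hc
    obtain ⟨P, hP, hqP⟩ := (Ideal.subset_union_prime (R := B) (s := Ass.filter fun P => P.comap toFib ≤ t)
      (f := fun P : Ideal (p.Fiber B) => P.comap toFib) ⊥ ⊥ fun P hP _ _ => by
        haveI := ((hAss P).1 (Finset.mem_filter.1 hP).1).1
        infer_instance).1 (fun g hg => by
      obtain ⟨P, hP, hPt, hgP⟩ := hc g hg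
      exact Set.mem_iUnion₂.2 ⟨P, Finset.mem_filter.2 ⟨(hAss P).2 hP, hPt⟩, hgP⟩)
    obtain ⟨hP, hPt⟩ := Finset.mem_filter.1 hP
    haveI := ((hAss P).1 hP).1
    refine hne ⟨P.comap toFib, inferInstance, hqP, hPt,
      ⟨(GrothLib.WeakAssFib.comap_comap_toFib p P).symm⟩, ?_⟩
    rw [GrothLib.WeakAssFib.fiberIdeal_comap]
    exact (hAss P).1 hP
  obtain ⟨e, he⟩ := GrothLib.WeakAssFib.exists_fibreEquiv p (S := B) N
  have hreg : ∀ w : N ⊗[A] p.ResidueField, b • w = 0 → ∃ u ∉ t, u • w = 0 := by
    intro w hw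
    have hex : ∀ P : Ideal (p.Fiber B), ∃ x, x ∉ t ∧ (¬ P.comap toFib ≤ t → toFib x ∈ P) := fun P => by
      by_cases h : P.comap toFib ≤ t
      · exact ⟨1, fun h' => ‹t.IsPrime›.ne_top ((Ideal.eq_top_iff_one _).2 h'), fun h' => absurd h h'⟩
      · obtain ⟨x, hx, hxt⟩ := SetLike.not_le_iff_exists.1 h
        exact ⟨x, hxt, fun _ => hx⟩
    choose x hxt hx using hex
    have hh : ∏ P ∈ Ass, x P ∉ t := fun h => by
      obtain ⟨P, -, hP⟩ := ‹t.IsPrime›.prod_mem_iff.1 h
      exact hxt P hP
    have hrad : toFib (∏ P ∈ Ass, x P) ∈ ((⊥ : Submodule (p.Fiber B) (FlatCA.fiberMod p B N)).colon {e w}).radical := by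
      rw [← Ideal.sInf_minimalPrimes, Ideal.mem_sInf]
      intro P hP
      have hPA : P ∈ associatedPrimes (p.Fiber B) (FlatCA.fiberMod p B N) := by
        rw [← weakAss_eq_associatedPrimes]
        exact mem_weakAss_iff.2 ⟨e w, hP⟩
      have hbmem : toFib b ∈ P := hP.1.2 (Submodule.mem_colon_singleton.2 ((Submodule.mem_bot _).2
        (by rw [← he, hw, map_zero])))
      rw [map_prod]
      haveI := hP.1.1
      exact hP.1.1.prod_mem_iff.2 ⟨P, (hAss P).2 hPA, hx P fun hle => hbP P hPA hle hbmem⟩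
    obtain ⟨k, hk⟩ := hrad
    rw [Submodule.mem_colon_singleton, Submodule.mem_bot, ← map_pow, ← he, e.map_eq_zero_iff] at hk
    exact ⟨_, fun h => hh (‹t.IsPrime›.mem_of_pow_mem k h), hk⟩
  have hp'mem : p' ∈ FlatCA.weakAss A (A ⧸ p') := by
    refine mem_weakAss_iff.2 ⟨Ideal.Quotient.mk p' 1, ?_⟩
    have : (⊥ : Submodule A (A ⧸ p')).colon {(Ideal.Quotient.mk p' 1 : A ⧸ p')} = p' := by
      ext a
      rw [Submodule.mem_colon_singleton, Submodule.mem_bot, Algebra.smul_def, map_one, mul_one,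
        Ideal.Quotient.algebraMap_eq, Ideal.Quotient.eq_zero_iff_mem]
    rw [this, Ideal.minimalPrimes_eq_subsingleton_self]
    rfl
  have hw := GrothLib.WeakAssFib.mem_weakAss_of_fibre N (A ⧸ p') p' q' (flat_localized_of_le hqt hflat) hp'mem hass
  obtain ⟨z, hz⟩ := mem_weakAss_iff.1 hw
  obtain ⟨s, hs, n, hn⟩ := GrothLib.WeakAssFib.exists_mul_pow_mem_of_minimal hz hbq
  rw [Submodule.mem_colon_singleton, Submodule.mem_bot, mul_smul] at hn
  have hpow : ∀ m : ℕ, ∀ x : N ⊗[A] (A ⧸ p'), b ^ m • x = 0 → ∃ u ∉ t, u • x = 0 := by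
    intro m
    induction m with
    | zero => exact fun x hx => ⟨1, fun h => ‹t.IsPrime›.ne_top ((Ideal.eq_top_iff_one _).2 h), by simpa using hx⟩
    | succ m ih =>
      intro x hx
      rw [pow_succ', mul_smul] at hx
      obtain ⟨u, hu, hux⟩ := regular_at_flat_point N p t hflat b hreg _ _ hx
      rw [smul_comm] at hux
      obtain ⟨v, hv, hvx⟩ := ih _ hux
      exact ⟨v * u, fun h => (‹t.IsPrime›.mem_or_mem h).elim hv hu, by rw [mul_smul]; exact hvx⟩
  rw [smul_comm] at hn
  obtain ⟨u, hu, hux⟩ := hpow n _ hn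
  have hmem : u * s ∈ q' := hz.1.2 (by rw [Submodule.mem_colon_singleton, Submodule.mem_bot, mul_smul]; exact hux)
  exact (‹q'.IsPrime›.mem_or_mem hmem).elim (fun h => hu (hqt h)) hs

end GrothLib.RG6
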