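import Groth.Agent.Lib.RG6.Near

/-!
# Weakly associated primes at a point of flatness
-/

set_option autoImplicit false
set_option backward.isDefEq.respectTransparency false
set_option linter.style.haveILetI false
set_option maxHeartbeats 800000

universe u

open TensorProduct GrothLib.AssPts

namespace GrothLib.RG6

section Fibre

variable {R S : Type u} [CommRing R] [CommRing S] [Algebra R S]
  (p : Ideal R) [p.IsPrime] (q : Ideal S) [q.IsPrime] [q.LiesOver p]

theorem isPrime_fiberIdeal : (FlatCA.fiberIdeal p q).IsPrime := by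
  let φ : p.Fiber S →ₐ[R] q.ResidueField := Algebra.TensorProduct.lift
    (Ideal.ResidueField.mapₐ p q (Algebra.ofId R S) (q.over_def p)) (IsScalarTower.toAlgHom R S q.ResidueField)
    fun _ _ => Commute.all _ _
  haveI : (RingHom.ker φ.toRingHom).IsPrime := RingHom.ker_isPrime φ.toRingHom
  have hc : (RingHom.ker φ.toRingHom).comap (GrothLib.WeakAssFib.toFib p) = q := by
    ext s
    show φ ((1 : p.ResidueField) ⊗ₜ[R] s) = 0 ↔ _
    rw [Algebra.TensorProduct.lift_tmul, map_one, one_mul]
    exact Ideal.algebraMap_residueField_eq_zero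
  have h := GrothLib.WeakAssFib.fiberIdeal_comap (S := S) p (RingHom.ker φ.toRingHom)
  rw [hc] at h
  rw [h]
  infer_instance

variable {N : Type u} [AddCommGroup N] [Module S N] [Module R N] [IsScalarTower R S N]

/-- An element of the fibre with annihilator equal to the prime after localizing gives an associated
prime of the fibre module. -/
theorem mem_ass_of_local [Algebra.FiniteType R S] (w : N ⊗[R] p.ResidueField)
    (h1 : ∀ s : S, s • w = 0 → s ∈ q) (h2 : ∀ s ∈ q, ∃ u ∉ q, (u * s) • w = 0) :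
    FlatCA.fiberIdeal p q ∈ associatedPrimes (p.Fiber S) (FlatCA.fiberMod p S N) := by
  classical
  haveI : IsNoetherianRing (p.Fiber S) := Algebra.FiniteType.isNoetherianRing p.ResidueField (p.Fiber S)
  obtain ⟨e, he⟩ := GrothLib.WeakAssFib.exists_fibreEquiv p (S := S) N
  let toFib : S →+* p.Fiber S := GrothLib.WeakAssFib.toFib p
  haveI := isPrime_fiberIdeal p q
  have hc : ∀ s : S, toFib s ∈ FlatCA.fiberIdeal p q ↔ s ∈ q := fun s =>
    SetLike.ext_iff.1 (GrothLib.WeakAssFib.comap_fiberIdeal p q) s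
  have hcl : ∀ x : p.Fiber S, ∃ r : R, r ∉ p ∧ ∃ s : S, algebraMap R (p.Fiber S) r * x = toFib s := fun x => by
    obtain ⟨r, hr, s, h⟩ := Ideal.Fiber.exists_smul_eq_one_tmul p x
    exact ⟨r, hr, s, by rw [← Algebra.smul_def]; exact h⟩
  obtain ⟨G, hG⟩ := (IsNoetherian.noetherian (FlatCA.fiberIdeal p q) : (FlatCA.fiberIdeal p q).FG)
  have hex : ∀ x : G, ∃ u, u ∉ q ∧ (x : p.Fiber S) • e (u • w) = 0 := fun x => by
    obtain ⟨r, hr, s, hrs⟩ := hcl x
    have hs : s ∈ q := by
      rw [← hc, ← hrs]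
      exact Ideal.mul_mem_left _ _ (hG.le (Ideal.subset_span x.2))
    obtain ⟨u, hu, hus⟩ := h2 s hs
    refine ⟨u, hu, ?_⟩
    have h0 : algebraMap R (p.Fiber S) r • ((x : p.Fiber S) • e (u • w)) = 0 := by
      rw [smul_smul, hrs, ← he, smul_smul, mul_comm, hus, map_zero]
    rwa [IsUnit.smul_eq_zero (GrothLib.WeakAssFib.isUnit_toFib p hr)] at h0
  choose u hu hux using hex
  let U := ∏ x : G, u x
  have hU : U ∉ q := fun h => by
    obtain ⟨x, -, hx⟩ := ‹q.IsPrime›.prod_mem_iff.1 h
    exact hu x hx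
  refine isAssociatedPrime_iff.2 ⟨inferInstance, e (U • w), le_antisymm (fun x hx => ?_) fun x hx => ?_⟩
  · have hle : FlatCA.fiberIdeal p q ≤ (⊥ : Submodule (p.Fiber S) (FlatCA.fiberMod p S N)).colon {e (U • w)} := by
      rw [← hG]
      refine Submodule.span_le.2 fun y hy => ?_
      rw [SetLike.mem_coe, Submodule.mem_colon_singleton, Submodule.mem_bot, show U = _ from
        (Finset.prod_erase_mul _ u (Finset.mem_univ (⟨y, hy⟩ : G))).symm, mul_smul, he, smul_comm, hux ⟨y, hy⟩,
        smul_zero]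
    exact hle hx
  · rw [Submodule.mem_colon_singleton, Submodule.mem_bot] at hx
    obtain ⟨r, hr, s, hrs⟩ := hcl x
    have h0 : (s * U) • w = 0 := by
      apply e.map_eq_zero_iff.1
      rw [mul_smul, he, show GrothLib.WeakAssFib.toFib p s = toFib s from rfl, ← hrs, mul_smul, hx, smul_zero]
    have hsq : s ∈ q := (‹q.IsPrime›.mem_or_mem (h1 _ h0)).resolve_right hU
    rw [← hc, ← hrs] at hsq
    exact (Ideal.unit_mul_mem_iff_mem _ (GrothLib.WeakAssFib.isUnit_toFib p hr)).1 hsq

/-- An associated prime of the fibre is the annihilator of an element. -/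
theorem exists_of_mem_ass [Algebra.FiniteType R S]
    (h : FlatCA.fiberIdeal p q ∈ associatedPrimes (p.Fiber S) (FlatCA.fiberMod p S N)) :
    ∃ w : N ⊗[R] p.ResidueField, ∀ s : S, s • w = 0 ↔ s ∈ q := by
  haveI : IsNoetherianRing (p.Fiber S) := Algebra.FiniteType.isNoetherianRing p.ResidueField (p.Fiber S)
  obtain ⟨e, he⟩ := GrothLib.WeakAssFib.exists_fibreEquiv p (S := S) N
  obtain ⟨-, w', hw'⟩ := isAssociatedPrime_iff.1 h
  obtain ⟨w, rfl⟩ := e.surjective w'
  refine ⟨w, fun s => ?_⟩
  rw [← SetLike.ext_iff.1 (GrothLib.WeakAssFib.comap_fiberIdeal p q) s, Ideal.mem_comap, hw',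
    Submodule.mem_colon_singleton, Submodule.mem_bot, ← he, e.map_eq_zero_iff]

end Fibre

/-- Kernels of maps killed near a prime stay so after tensoring. -/
theorem exists_smul_eq_zero_of_rTensor {R P N₀ N M : Type u} [CommRing R] [CommRing P] [Algebra R P]
    [AddCommGroup N₀] [Module P N₀] [Module R N₀] [IsScalarTower R P N₀]
    [AddCommGroup N] [Module P N] [Module R N] [IsScalarTower R P N] [AddCommGroup M] [Module R M]
    (φ : N₀ →ₗ[P] N) (hφ : Function.Surjective φ) (q : Ideal P) [q.IsPrime]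
    (hkill : ∀ x ∈ LinearMap.ker φ, ∃ s ∉ q, s • x = 0) (z : N₀ ⊗[R] M)
    (hz : AlgebraTensorModule.rTensor R M φ z = 0) : ∃ s ∉ q, s • z = 0 := by
  have hex : Function.Exact ((LinearMap.ker φ).subtype.restrictScalars R) (φ.restrictScalars R) := fun y =>
    ⟨fun hy => ⟨⟨y, hy⟩, rfl⟩, by rintro ⟨⟨y, hy⟩, rfl⟩; exact hy⟩
  obtain ⟨v, rfl⟩ := (rTensor_exact M hex hφ z).1 hz
  clear hz
  induction v using TensorProduct.induction_on with
  | zero => exact ⟨1, fun h => ‹q.IsPrime›.ne_top ((Ideal.eq_top_iff_one _).2 h), by rw [map_zero, smul_zero]⟩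
  | tmul a m =>
    obtain ⟨s, hs, hsa⟩ := hkill a a.2
    refine ⟨s, hs, ?_⟩
    show s • ((a : N₀) ⊗ₜ[R] m) = 0
    rw [smul_tmul', hsa, zero_tmul]
  | add a b ha hb =>
    obtain ⟨s, hs, hsa⟩ := ha
    obtain ⟨t, ht, htb⟩ := hb
    refine ⟨s * t, fun h => (‹q.IsPrime›.mem_or_mem h).elim hs ht, ?_⟩
    rw [map_add, smul_add, mul_smul, mul_smul, htb, smul_zero, smul_comm, hsa, smul_zero, add_zero]

/-- The finitely presented case of the fibre criterion, with flatness only at the prime. -/
theorem weakAss_fibre_of_flatAt_fp {R P : Type u} [CommRing R] [CommRing P] [Algebra R P] [Algebra.FinitePresentation R P]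
    (N : Type u) [AddCommGroup N] [Module P N] [Module R N] [IsScalarTower R P N] [Module.Finite P N]
    (M : Type u) [AddCommGroup M] [Module R M] (p : Ideal R) [p.IsPrime] (q : Ideal P) [q.IsPrime] [q.LiesOver p]
    (hflat : Module.Flat R (LocalizedModule q.primeCompl N)) (hq : q ∈ FlatCA.weakAss P (N ⊗[R] M)) :
    p ∈ FlatCA.weakAss R M ∧ ∃ w : N ⊗[R] p.ResidueField,
      (∀ s : P, s • w = 0 → s ∈ q) ∧ ∀ s ∈ q, ∃ u ∉ q, (u * s) • w = 0 := by
  obtain ⟨N₀, _, _, _, _, _, φ, g, hφ, hg, hflat₀, hkill⟩ := exists_model_near N q hflat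
  let Φ := AlgebraTensorModule.rTensor R M φ
  obtain ⟨z, hz⟩ := mem_weakAss_iff.1 hq
  obtain ⟨z₀, rfl⟩ := LinearMap.rTensor_surjective M (g := φ.restrictScalars R) hφ z
  change q ∈ ((⊥ : Submodule P (N ⊗[R] M)).colon {Φ z₀}).minimalPrimes at hz
  have hmin : q ∈ ((⊥ : Submodule P (N₀ ⊗[R] M)).colon {z₀}).minimalPrimes := by
    refine ⟨⟨inferInstance, fun a ha => hz.1.2 ?_⟩, fun P' hP' hle => ?_⟩
    · rw [Submodule.mem_colon_singleton, Submodule.mem_bot] at ha ⊢
      rw [← map_smul, ha, map_zero]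
    · refine hz.2 ⟨hP'.1, fun a ha => ?_⟩ hle
      rw [Submodule.mem_colon_singleton, Submodule.mem_bot, ← map_smul] at ha
      obtain ⟨s, hs, hsa⟩ := exists_smul_eq_zero_of_rTensor φ hφ q hkill _ ha
      refine (hP'.1.mem_or_mem (hP'.2 ?_)).resolve_left fun h => hs (hle h)
      rw [Submodule.mem_colon_singleton, Submodule.mem_bot, mul_smul, hsa]
  let Pg := Localization.Away g
  let Ng := LocalizedModule (Submonoid.powers g) N₀
  let f := LocalizedModule.mkLinearMap (Submonoid.powers g) N₀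
  haveI : Algebra.FinitePresentation R Pg :=
    haveI : Algebra.FinitePresentation P Pg := IsLocalization.Away.finitePresentation g
    Algebra.FinitePresentation.trans R P Pg
  haveI := hflat₀
  have hd : Disjoint (Submonoid.powers g : Set P) q := by
    rw [Set.disjoint_left]
    rintro _ ⟨k, rfl⟩ hk
    exact hg (‹q.IsPrime›.mem_of_pow_mem k hk)
  let q' := q.map (algebraMap P Pg)
  haveI : q'.IsPrime := IsLocalization.isPrime_of_isPrime_disjoint (Submonoid.powers g) Pg q ‹_› hd
  have hcomap : q'.comap (algebraMap P Pg) = q :=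
    IsLocalization.comap_map_of_isPrime_disjoint (Submonoid.powers g) Pg ‹q.IsPrime› hd
  haveI : q'.LiesOver p := ⟨by
    rw [Ideal.under_def, IsScalarTower.algebraMap_eq R P Pg, ← Ideal.comap_comap, hcomap]
    exact q.over_def p⟩
  let L := AlgebraTensorModule.rTensor R M f
  have hq' : q' ∈ FlatCA.weakAss Pg (Ng ⊗[R] M) := by
    refine mem_weakAss_iff.2 ⟨L z₀, ⟨inferInstance, fun a ha => ?_⟩, ?_⟩
    · rw [Submodule.mem_colon_singleton, Submodule.mem_bot] at ha
      obtain ⟨⟨b, s⟩, hb⟩ := IsLocalization.surj (Submonoid.powers g) a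
      obtain ⟨c, hc⟩ := (IsLocalizedModule.eq_zero_iff (Submonoid.powers g) L (m := b • z₀)).1 (by
        rw [map_smul, ← algebraMap_smul Pg b, ← show a * algebraMap P Pg s = algebraMap P Pg b from hb, mul_comm,
          mul_smul, ha, smul_zero])
      rw [Submonoid.smul_def, smul_smul] at hc
      have hbq : b ∈ q := (‹q.IsPrime›.mem_or_mem (hmin.1.2 (Submodule.mem_colon_singleton.2
        ((Submodule.mem_bot P).2 hc)))).resolve_left fun h => Set.disjoint_left.1 hd c.2 h
      refine ((Ideal.mul_unit_mem_iff_mem _ (IsLocalization.map_units Pg s)).1 ?_)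
      rw [show a * algebraMap P Pg s = algebraMap P Pg b from hb]
      exact Ideal.mem_map_of_mem _ hbq
    · rintro P' ⟨hP', hPle⟩ hPq
      refine Ideal.map_le_iff_le_comap.2 (hmin.2 ⟨Ideal.IsPrime.comap _, fun a ha => hPle ?_⟩
        ((Ideal.comap_mono hPq).trans hcomap.le))
      rw [Submodule.mem_colon_singleton, Submodule.mem_bot] at ha ⊢
      rw [algebraMap_smul, ← map_smul, ha, map_zero]
  obtain ⟨hp, hass⟩ := (Groth.Agent.S1192.result (R := R) (S := Pg) Ng M p q').1 hq'
  refine ⟨hp, ?_⟩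
  obtain ⟨w, hw⟩ := exists_of_mem_ass p q' hass
  let F := AlgebraTensorModule.rTensor R p.ResidueField f
  obtain ⟨⟨w₀, t⟩, ht⟩ := IsLocalizedModule.surj (Submonoid.powers g) F w
  have ht' : (t : P) • w = F w₀ := ht
  have htq : (t : P) ∉ q := fun h => Set.disjoint_left.1 hd t.2 h
  have h1 : ∀ s : P, s • w₀ = 0 → s ∈ q := fun s hs => by
    have h0 : algebraMap P Pg (s * t) • w = 0 := by rw [algebraMap_smul, mul_smul, ht', ← map_smul, hs, map_zero]
    have h' : s * (t : P) ∈ q := hcomap.le ((hw _).1 h0)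
    exact (‹q.IsPrime›.mem_or_mem h').resolve_right htq
  have h2 : ∀ s ∈ q, ∃ u ∉ q, (u * s) • w₀ = 0 := fun s hs => by
    have h0 : F (s • w₀) = 0 := by
      rw [map_smul, ← ht', smul_comm, ← algebraMap_smul Pg s w, (hw _).2 (Ideal.mem_map_of_mem _ hs), smul_zero]
    obtain ⟨c, hc⟩ := (IsLocalizedModule.eq_zero_iff (Submonoid.powers g) F).1 h0
    exact ⟨c, fun h => Set.disjoint_left.1 hd c.2 h, by rw [mul_smul]; exact hc⟩
  refine ⟨AlgebraTensorModule.rTensor R p.ResidueField φ w₀, fun s hs => ?_, fun s hs => ?_⟩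
  · rw [← map_smul] at hs
    obtain ⟨u, hu, hus⟩ := exists_smul_eq_zero_of_rTensor φ hφ q hkill _ hs
    rw [smul_smul] at hus
    exact (‹q.IsPrime›.mem_or_mem (h1 _ hus)).resolve_left hu
  · obtain ⟨u, hu, hus⟩ := h2 s hs
    exact ⟨u, hu, by rw [← map_smul, hus, map_zero]⟩

/-- **Weakly associated primes at a point of flatness come from the base and the fibre.** -/
theorem weakAss_fibre_of_flatAt {R S : Type u} [CommRing R] [CommRing S] [Algebra R S] [Algebra.FiniteType R S]
    (N : Type u) [AddCommGroup N] [Module S N] [Module R N] [IsScalarTower R S N] [Module.Finite S N]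
    (M : Type u) [AddCommGroup M] [Module R M] (p : Ideal R) [p.IsPrime] (q : Ideal S) [q.IsPrime] [q.LiesOver p]
    (hflat : Module.Flat R (LocalizedModule q.primeCompl N)) (hq : q ∈ FlatCA.weakAss S (N ⊗[R] M)) :
    p ∈ FlatCA.weakAss R M ∧ FlatCA.fiberIdeal p q ∈ associatedPrimes (p.Fiber S) (FlatCA.fiberMod p S N) := by
  obtain ⟨n, π, hπ⟩ := Algebra.FiniteType.iff_quotient_mvPolynomial''.1 ‹Algebra.FiniteType R S›
  let P := MvPolynomial (Fin n) R
  letI : Algebra P S := π.toRingHom.toAlgebra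
  haveI : IsScalarTower R P S := IsScalarTower.of_algebraMap_eq fun c => (π.commutes c).symm
  letI : Module P N := Module.compHom N π.toRingHom
  haveI : IsScalarTower P S N := IsScalarTower.of_compHom _ _ _
  haveI : IsScalarTower R P N := IsScalarTower.of_algebraMap_smul fun c x => by
    show π (algebraMap R P c) • x = c • x
    rw [π.commutes, algebraMap_smul]
  haveI : Module.Finite P S := Module.Finite.of_surjective (Algebra.linearMap P S) hπ
  haveI : Module.Finite P N := Module.Finite.trans S N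
  let qP := q.under P
  haveI : q.LiesOver qP := ⟨rfl⟩
  haveI : qP.LiesOver p := ⟨by
    show p = (q.comap (algebraMap P S)).comap (algebraMap R P)
    rw [Ideal.comap_comap, ← IsScalarTower.algebraMap_eq]
    exact q.over_def p⟩
  haveI := isLocalizedModule_of_surjective (P := P) hπ qP q (LocalizedModule.mkLinearMap q.primeCompl N)
  have hflat' : Module.Flat R (LocalizedModule qP.primeCompl N) := by
    haveI := hflat
    exact Module.Flat.of_linearEquiv ((IsLocalizedModule.linearEquiv qP.primeCompl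
      (LocalizedModule.mkLinearMap qP.primeCompl N)
      ((LocalizedModule.mkLinearMap q.primeCompl N).restrictScalars P)).restrictScalars R)
  have hsmul : ∀ {X : Type u} [AddCommGroup X] [Module R X] (a : P) (x : N ⊗[R] X), π a • x = a • x := by
    intro X _ _ a x
    induction x using TensorProduct.induction_on with
    | zero => rw [smul_zero, smul_zero]
    | add u v hu hv => rw [smul_add, smul_add, hu, hv]
    | tmul y m => rw [smul_tmul', smul_tmul']; rfl
  have hqP : qP ∈ FlatCA.weakAss P (N ⊗[R] M) := by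
    obtain ⟨z, hz⟩ := mem_weakAss_iff.1 hq
    refine mem_weakAss_iff.2 ⟨z, ?_⟩
    have : (⊥ : Submodule P (N ⊗[R] M)).colon {z} =
        ((⊥ : Submodule S (N ⊗[R] M)).colon {z}).comap π.toRingHom := by
      ext a
      rw [Ideal.mem_comap, Submodule.mem_colon_singleton, Submodule.mem_colon_singleton, Submodule.mem_bot,
        Submodule.mem_bot, ← hsmul a z]
      rfl
    rw [this]
    exact Ideal.minimalPrimes_comap_of_surjective (f := π.toRingHom) hπ hz
  obtain ⟨hp, w, h1, h2⟩ := weakAss_fibre_of_flatAt_fp N M p qP hflat' hqP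
  refine ⟨hp, mem_ass_of_local p q w (fun s hs => ?_) fun s hs => ?_⟩
  · obtain ⟨a, rfl⟩ := hπ s
    rw [hsmul] at hs
    exact h1 a hs
  · obtain ⟨a, rfl⟩ := hπ s
    obtain ⟨u, hu, hus⟩ := h2 a hs
    exact ⟨π u, hu, by rw [← map_mul, hsmul]; exact hus⟩

end GrothLib.RG6
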