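import Groth.Agent.Lib.RG6.WeakAss

/-!
# Injectivity along flat maps covering the relative associated points
-/

set_option autoImplicit false
set_option backward.isDefEq.respectTransparency false
set_option linter.style.haveILetI false
set_option maxHeartbeats 800000

universe u

open TensorProduct GrothLib.AssPts

namespace GrothLib.RG6

/-- A flat algebra whose image meets every weakly associated prime detects elements. -/
theorem eq_zero_of_one_tmul_eq_zero {B B' X : Type u} [CommRing B] [CommRing B'] [Algebra B B'] [Module.Flat B B']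
    [AddCommGroup X] [Module B X]
    (h : ∀ q : Ideal B, q ∈ FlatCA.weakAss B X → ∃ q' : Ideal B', q'.IsPrime ∧ q'.comap (algebraMap B B') = q)
    (x : X) (hx : (1 : B') ⊗ₜ[B] x = 0) : x = 0 := by
  by_contra hx0
  let J : Ideal B := LinearMap.ker (LinearMap.toSpanSingleton B X x)
  have hJ : ∀ a, a ∈ J ↔ a • x = 0 := fun a => Iff.rfl
  have hJtop : J ≠ ⊤ := fun h => hx0 (by simpa using (hJ 1).1 (h ▸ trivial))
  obtain ⟨m, hm, hJm⟩ := Ideal.exists_le_maximal J hJtop
  obtain ⟨q, hq, -⟩ := Ideal.exists_minimalPrimes_le hJm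
  have hqW : q ∈ FlatCA.weakAss B X := by
    refine mem_weakAss_iff.2 ⟨x, ?_⟩
    convert hq using 2
    ext a
    rw [Submodule.mem_colon_singleton, Submodule.mem_bot, hJ]
  obtain ⟨q', hq', hqq'⟩ := h q hqW
  let g : B ⧸ J →ₗ[B] X := J.liftQ (LinearMap.toSpanSingleton B X x) le_rfl
  have hg : Function.Injective g := LinearMap.ker_eq_bot.1 (Submodule.ker_liftQ_eq_bot _ _ _ le_rfl)
  have h1 : g.lTensor B' ((1 : B') ⊗ₜ[B] (Ideal.Quotient.mk J 1 : B ⧸ J)) = 0 := by
    rw [LinearMap.lTensor_tmul, show g (Ideal.Quotient.mk J 1) = x from one_smul B x, hx]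
  have h2 := Module.Flat.lTensor_preserves_injective_linearMap (M := B') g hg (h1.trans (map_zero _).symm)
  have h3 := congrArg (TensorProduct.tensorQuotEquivQuotSMul B' J) h2
  rw [map_zero, TensorProduct.tensorQuotEquivQuotSMul_tmul_mk, one_smul, Submodule.Quotient.mk_eq_zero,
    Ideal.smul_top_eq_map] at h3
  have hle : J.map (algebraMap B B') ≤ q' := Ideal.map_le_iff_le_comap.2 (hqq'.symm ▸ hq.1.2)
  exact hq'.ne_top ((Ideal.eq_top_iff_one q').2 (hle h3))

/-- **Base changes stay injective.** -/
theorem baseChange_injective_of_relAss {A B B' : Type u} [CommRing A] [CommRing B] [CommRing B'] [Algebra A B]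
    [Algebra B B'] [Algebra A B'] [IsScalarTower A B B'] [Algebra.FiniteType A B] [Module.Flat B B']
    (N : Type u) [AddCommGroup N] [Module B N] [Module A N] [IsScalarTower A B N] [Module.Finite B N] [Module.Flat A N]
    (h : ∀ (p : Ideal A) (q : Ideal B) [p.IsPrime] [q.IsPrime] [q.LiesOver p],
      FlatCA.fiberIdeal p q ∈ associatedPrimes (p.Fiber B) (FlatCA.fiberMod p B N) →
      ∃ q' : Ideal B', q'.IsPrime ∧ q'.comap (algebraMap B B') = q)
    (A' : Type u) [AddCommGroup A'] [Module A A'] :
    Function.Injective (((TensorProduct.mk B B' N 1).restrictScalars A).lTensor A') := by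
  rw [injective_iff_map_eq_zero]
  intro z hz
  let X := N ⊗[A] A'
  let ι : A' → (N →ₗ[B] X) := fun a => (AlgebraTensorModule.mk A B N A').flip a
  let Ψ : A' ⊗[A] (B' ⊗[B] N) →ₗ[A] B' ⊗[B] X := TensorProduct.lift (LinearMap.mk₂ A
    (fun a y => (ι a).lTensor B' y)
    (fun a a' y => by simp only [ι, map_add, LinearMap.lTensor_add, LinearMap.add_apply])
    (fun c a y => by
      induction y using TensorProduct.induction_on with
      | zero => simp
      | add u v hu hv => simp only [map_add, hu, hv, smul_add]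
      | tmul b n =>
        show b ⊗ₜ[B] (n ⊗ₜ[A] (c • a)) = c • (b ⊗ₜ[B] (n ⊗ₜ[A] a))
        rw [TensorProduct.tmul_smul, TensorProduct.tmul_smul])
    (fun a y y' => map_add _ _ _)
    (fun c a y => LinearMap.map_smul_of_tower _ _ _))
  have hΨ : ∀ z, Ψ (((TensorProduct.mk B B' N 1).restrictScalars A).lTensor A' z) =
      (1 : B') ⊗ₜ[B] (TensorProduct.comm A A' N z : X) := fun z => by
    induction z using TensorProduct.induction_on with
    | zero => simp
    | add u v hu hv => simp only [map_add, hu, hv, tmul_add]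
    | tmul a n => simp [Ψ, ι]; rfl
  have h0 : (1 : B') ⊗ₜ[B] (TensorProduct.comm A A' N z : X) = 0 := by rw [← hΨ, hz, map_zero]
  refine (TensorProduct.comm A A' N).map_eq_zero_iff.1 (eq_zero_of_one_tmul_eq_zero (fun q hq => ?_) _ h0)
  obtain ⟨m, hm⟩ := mem_weakAss_iff.1 hq
  haveI := hm.1.1
  haveI : q.LiesOver (q.under A) := ⟨rfl⟩
  haveI : (q.under A).IsPrime := Ideal.IsPrime.comap _
  exact h (q.under A) q
    (weakAss_fibre_of_flatAt N A' (q.under A) q (GrothLib.NagataFP.flat_localized _) hq).2

end GrothLib.RG6
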