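import Mathlib
import Groth.Prelude.Def_FlatCA

/-!
# Universal injectivity of the map to the completion
-/

set_option autoImplicit false
set_option backward.isDefEq.respectTransparency false
set_option linter.style.haveILetI false

universe u

open TensorProduct

namespace GrothLib.RG6

variable {R S : Type u} [CommRing R] [CommRing S] [Algebra R S]
  {N : Type u} [AddCommGroup N] [Module S N] [Module R N] [IsScalarTower R S N]

theorem finite_tensor [Module.Finite S N] (Q : Type u) [AddCommGroup Q] [Module R Q] [Module.Finite R Q] :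
    Module.Finite S (N ⊗[R] Q) := by
  classical
  obtain ⟨a, ha⟩ := Module.Finite.fg_top (R := S) (M := N)
  obtain ⟨b, hb⟩ := Module.Finite.fg_top (R := R) (M := Q)
  refine ⟨⟨(a ×ˢ b).image fun x => x.1 ⊗ₜ[R] x.2, Submodule.eq_top_iff'.2 fun z => ?_⟩⟩
  set U := Submodule.span S (((a ×ˢ b).image fun x => x.1 ⊗ₜ[R] x.2 : Finset (N ⊗[R] Q)) : Set (N ⊗[R] Q))
  induction z using TensorProduct.induction_on with
  | zero => exact zero_mem _
  | add x y hx hy => exact add_mem hx hy
  | tmul n m =>
    have hn : n ∈ Submodule.span S (a : Set N) := ha.ge trivial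
    induction hn using Submodule.span_induction with
    | mem x hx =>
      have hm : m ∈ Submodule.span R (b : Set Q) := hb.ge trivial
      induction hm using Submodule.span_induction with
      | mem y hy =>
        exact Submodule.subset_span (Finset.mem_coe.2 (Finset.mem_image.2 ⟨(x, y), Finset.mem_product.2 ⟨hx, hy⟩, rfl⟩))
      | zero => rw [TensorProduct.tmul_zero]; exact zero_mem _
      | add y y' _ _ h h' => rw [TensorProduct.tmul_add]; exact add_mem h h'
      | smul c y _ h => rw [TensorProduct.tmul_smul, ← algebraMap_smul S c]; exact Submodule.smul_mem _ _ h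
    | zero => rw [TensorProduct.zero_tmul]; exact zero_mem _
    | add x y _ _ h h' => rw [TensorProduct.add_tmul]; exact add_mem h h'
    | smul c x _ h => rw [← TensorProduct.smul_tmul']; exact Submodule.smul_mem _ _ h

/-- **Universal injectivity of the map to the completion, from the associated primes.** -/
theorem univInj_of_ass [IsNoetherianRing S] [Module.Finite S N] (I : Ideal R)
    (h : ∀ (Q : Type u) [AddCommGroup Q] [Module R Q], Module.Finite R Q →
      ∀ q ∈ associatedPrimes S (N ⊗[R] Q), I.map (algebraMap R S) ⊔ q ≠ ⊤) :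
    FlatCA.UnivInj R (AdicCompletion.of I N) := by
  intro Q _ _
  -- the finite case
  have hfin : ∀ (P : Type u) [AddCommGroup P] [Module R P], Module.Finite R P →
      ∀ w : P ⊗[R] N, (AdicCompletion.of I N).lTensor P w = 0 → w = 0 := by
    intro P _ _ hP w hw
    haveI := finite_tensor (R := R) (S := S) (N := N) P
    let z : N ⊗[R] P := TensorProduct.comm R P N w
    suffices hz : z = 0 from (TensorProduct.comm R P N).map_eq_zero_iff.1 hz
    have hmem : ∀ n : ℕ, z ∈ (I.map (algebraMap R S)) ^ n • (⊤ : Submodule S (N ⊗[R] P)) := fun n => by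
      let K : Submodule R N := I ^ n • ⊤
      have h0 : K.mkQ.rTensor P z = 0 := by
        have h1 := congrArg ((AdicCompletion.eval I N n).lTensor P) hw
        rw [map_zero, ← LinearMap.comp_apply, ← LinearMap.lTensor_comp, AdicCompletion.eval_comp_of] at h1
        have e : (K.mkQ.rTensor P) ∘ₗ (TensorProduct.comm R P N).toLinearMap =
            (TensorProduct.comm R P (N ⧸ K)).toLinearMap ∘ₗ K.mkQ.lTensor P := TensorProduct.ext' fun a b => rfl
        show ((K.mkQ.rTensor P) ∘ₗ (TensorProduct.comm R P N).toLinearMap) w = 0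
        rw [e, LinearMap.comp_apply, h1, map_zero]
      obtain ⟨v, hv⟩ := (rTensor_exact P (LinearMap.exact_subtype_mkQ K) K.mkQ_surjective z).1 h0
      rw [← hv]
      clear hv h0
      induction v using TensorProduct.induction_on with
      | zero => rw [map_zero]; exact zero_mem _
      | add a b ha hb => rw [map_add]; exact add_mem ha hb
      | tmul k m =>
        rw [LinearMap.rTensor_tmul]
        refine Submodule.smul_induction_on (p := fun y => y ⊗ₜ[R] m ∈
          (I.map (algebraMap R S)) ^ n • (⊤ : Submodule S (N ⊗[R] P))) k.2 (fun a ha y _ => ?_) fun a b ha hb => by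
          rw [TensorProduct.add_tmul]; exact add_mem ha hb
        rw [← algebraMap_smul S a y, ← TensorProduct.smul_tmul', ← Ideal.map_pow]
        exact Submodule.smul_mem_smul (Ideal.mem_map_of_mem _ ha) trivial
    obtain ⟨r, hr⟩ := ((I.map (algebraMap R S)).mem_iInf_smul_pow_eq_bot_iff z).1 (Submodule.mem_iInf _ |>.2 hmem)
    by_contra hne
    obtain ⟨q, hq, hle⟩ := exists_le_isAssociatedPrime_of_isNoetherianRing S z hne
    refine h P hP q hq ((Ideal.eq_top_iff_one _).2 ?_)
    have h1 : (1 : S) - r ∈ q := hle (Submodule.mem_colon_singleton.2 (by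
      rw [Submodule.mem_bot, sub_smul, one_smul, hr, sub_self]))
    rw [show (1 : S) = (r : S) + (1 - r) by ring]
    exact add_mem (Ideal.mem_sup_left r.2) (Ideal.mem_sup_right h1)
  rw [injective_iff_map_eq_zero]
  intro z hz
  obtain ⟨P, hP, w, rfl⟩ := TensorProduct.exists_of_fg (R := R) (M := Q) (N := N) z
  have h1 : P.subtype.rTensor (AdicCompletion I N) ((AdicCompletion.of I N).lTensor P w) = 0 := by
    rw [← hz, ← LinearMap.comp_apply, ← LinearMap.comp_apply]
    congr 1
    exact TensorProduct.ext' fun a b => rfl
  obtain ⟨P', hle, hP', h2⟩ := TensorProduct.eq_zero_of_fg_of_subtype_eq_zero hP h1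
  have h3 : (AdicCompletion.of I N).lTensor P' ((Submodule.inclusion hle).rTensor N w) = 0 := by
    rw [← h2, ← LinearMap.comp_apply, ← LinearMap.comp_apply]
    congr 1
    exact TensorProduct.ext' fun a b => rfl
  have h4 := hfin P' (Module.Finite.iff_fg.2 hP') _ h3
  rw [← Submodule.subtype_comp_inclusion P P' hle, LinearMap.rTensor_comp, LinearMap.comp_apply, h4, map_zero]

end GrothLib.RG6
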