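import Mathlib
import Groth.Prelude.Def_FlatCA
import Groth.Agent.S2069
import Groth.Agent.Lib.RG6.WeakAss
import Groth.Agent.Lib.RG6.Generic

/-!
# Associated primes of tensor products with a flat module over a noetherian ring
-/

set_option autoImplicit false
set_option backward.isDefEq.respectTransparency false
set_option linter.style.haveILetI false

universe u

open TensorProduct

namespace GrothLib.RG6

variable {R S : Type u} [CommRing R] [CommRing S] [Algebra R S]
  {N : Type u} [AddCommGroup N] [Module S N] [Module R N] [IsScalarTower R S N]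

/-- An element of the fibre whose annihilator is the prime gives an associated prime of the fibre. -/
theorem mem_ass_of_colon (p : Ideal R) [p.IsPrime] (q : Ideal S) [q.IsPrime] [q.LiesOver p]
    (w : N ⊗[R] p.ResidueField) (h : ∀ s : S, s • w = 0 ↔ s ∈ q) :
    FlatCA.fiberIdeal p q ∈ associatedPrimes (p.Fiber S) (FlatCA.fiberMod p S N) := by
  obtain ⟨e, he⟩ := GrothLib.WeakAssFib.exists_fibreEquiv p (S := S) N
  haveI := isPrime_fiberIdeal p q
  have key : (⊥ : Submodule (p.Fiber S) (FlatCA.fiberMod p S N)).colon {e w} = FlatCA.fiberIdeal p q := by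
    refine le_antisymm (fun x hx => ?_) (Ideal.map_le_iff_le_comap.2 fun t ht => ?_)
    · rw [Submodule.mem_colon_singleton, Submodule.mem_bot] at hx
      obtain ⟨r, hr, s, hrs⟩ := Ideal.Fiber.exists_smul_eq_one_tmul p x
      have hrs' : algebraMap R (p.Fiber S) r * x = GrothLib.WeakAssFib.toFib p s := by
        rw [← Algebra.smul_def]; exact hrs
      have h0 : s • w = 0 := e.map_eq_zero_iff.1 (by rw [he, ← hrs', mul_smul, hx, smul_zero])
      have hm : GrothLib.WeakAssFib.toFib p s ∈ FlatCA.fiberIdeal p q := Ideal.mem_map_of_mem _ ((h s).1 h0)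
      rw [← hrs'] at hm
      exact (Ideal.unit_mul_mem_iff_mem _ (GrothLib.WeakAssFib.isUnit_toFib p hr)).1 hm
    · rw [Ideal.mem_comap, Submodule.mem_colon_singleton, Submodule.mem_bot]
      have h1 := he t w
      rw [(h t).2 ht, map_zero] at h1
      exact h1.symm
  exact ⟨inferInstance, e w, by rw [key, Ideal.IsPrime.radical inferInstance]⟩

/-- **Associated primes of a tensor product lie in associated primes of fibres.** -/
theorem fiber_mem_ass_of_mem_ass [IsNoetherianRing R] [IsNoetherianRing S] [Module.Flat R N]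
    (M : Type u) [AddCommGroup M] [Module R M] (q : Ideal S) (hq : q ∈ associatedPrimes S (N ⊗[R] M)) :
    ∃ (p : Ideal R) (_ : p.IsPrime) (_ : q.IsPrime) (_ : q.LiesOver p), p ∈ associatedPrimes R M ∧
      FlatCA.fiberIdeal p q ∈ associatedPrimes (p.Fiber S) (FlatCA.fiberMod p S N) := by
  have hqp : q.IsPrime := hq.isPrime
  rw [Groth.Agent.S2069.result, Set.mem_iUnion₂] at hq
  obtain ⟨p, hp, hq⟩ := hq
  have hpp : p.IsPrime := hp.isPrime
  obtain ⟨e⟩ := Groth.Agent.S2069.nonempty_quot_equiv R S N p
  rw [LinearEquiv.AssociatedPrimes.eq e] at hq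
  obtain ⟨-, x, hx⟩ := isAssociatedPrime_iff.1 hq
  let g : (R ⧸ p) →ₗ[R] p.ResidueField := (IsScalarTower.toAlgHom R (R ⧸ p) p.ResidueField).toLinearMap
  have hg : Function.Injective g := p.injective_algebraMap_quotient_residueField
  let j : N ⊗[R] (R ⧸ p) →ₗ[S] N ⊗[R] p.ResidueField := AlgebraTensorModule.lTensor S N g
  have hj : Function.Injective j := by
    show Function.Injective (g.lTensor N)
    exact Module.Flat.lTensor_preserves_injective_linearMap g hg
  have hcol : ∀ s : S, s • j x = 0 ↔ s ∈ q := fun s => by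
    rw [← map_smul, map_eq_zero_iff j hj, hx, Submodule.mem_colon_singleton, Submodule.mem_bot]
  have hlo : q.comap (algebraMap R S) = p := by
    refine le_antisymm (fun r hr => ?_) (fun r hr => ?_)
    · by_contra hrp
      have h0 : j x = 0 := by
        refine eq_zero_of_smul_fibre p hrp ?_
        rw [← algebraMap_smul S r (j x)]
        exact (hcol _).2 hr
      exact hqp.ne_top ((Ideal.eq_top_iff_one q).2 ((hcol 1).1 (by rw [one_smul, h0])))
    · rw [Ideal.mem_comap, hx, Submodule.mem_colon_singleton, Submodule.mem_bot, algebraMap_smul]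
      clear hcol hx
      induction x using TensorProduct.induction_on with
      | zero => rw [smul_zero]
      | add a b ha hb => rw [smul_add, ha, hb, add_zero]
      | tmul n z =>
        rw [← TensorProduct.tmul_smul, Algebra.smul_def, Ideal.Quotient.algebraMap_eq,
          Ideal.Quotient.eq_zero_iff_mem.mpr hr, zero_mul, TensorProduct.tmul_zero]
  haveI : q.LiesOver p := ⟨hlo.symm⟩
  exact ⟨p, hpp, hqp, inferInstance, hp, mem_ass_of_colon p q (j x) hcol⟩

end GrothLib.RG6
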