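import Mathlib

/-!
# Contents over a valuation ring
-/

set_option autoImplicit false
set_option backward.isDefEq.respectTransparency false
set_option linter.style.haveILetI false

universe u

open IsLocalRing TensorProduct

namespace GrothLib.RG6

/-- An element is a scalar times an element not divisible by the maximal ideal. -/
def HasContent (A : Type u) [CommRing A] [IsLocalRing A] {X : Type u} [AddCommGroup X] [Module A X] (x : X) : Prop :=
  ∃ (a : A) (y : X), x = a • y ∧ (a = 0 ∨ y ∉ maximalIdeal A • (⊤ : Submodule A X))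

variable {A : Type u} [CommRing A] [IsDomain A] [ValuationRing A]
  {X : Type u} [AddCommGroup X] [Module A X]

theorem smul_cancel_of_flat [Module.Flat A X] {a : A} (ha : a ≠ 0) {u v : X} (h : a • u = a • v) : u = v :=
  Module.Flat.isSMulRegular_of_nonZeroDivisors (mem_nonZeroDivisors_of_ne_zero ha) h

/-- Membership in an ideal times the module is divisibility by one of its elements. -/
theorem exists_mem_smul {J : Ideal A} {x : X} (hx : x ∈ J • (⊤ : Submodule A X)) :
    ∃ j ∈ J, ∃ z : X, x = j • z := by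
  refine Submodule.smul_induction_on hx (fun j hj z _ => ⟨j, hj, z, rfl⟩) ?_
  rintro _ _ ⟨j, hj, z, rfl⟩ ⟨k, hk, w, rfl⟩
  rcases ValuationRing.dvd_total j k with ⟨c, rfl⟩ | ⟨c, rfl⟩
  · exact ⟨j, hj, z + c • w, by rw [smul_add, mul_smul]⟩
  · exact ⟨k, hk, c • z + w, by rw [smul_add, mul_smul]⟩

/-- The smallest ideal is principal. -/
theorem HasContent.exists_principal [Module.Flat A X] {x : X} (h : HasContent A x) :
    ∃ I : Ideal A, I.IsPrincipal ∧ x ∈ I • (⊤ : Submodule A X) ∧
      ∀ J : Ideal A, x ∈ J • (⊤ : Submodule A X) → I ≤ J := by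
  obtain ⟨a, y, rfl, hy⟩ := h
  refine ⟨Ideal.span {a}, ⟨⟨a, rfl⟩⟩, Submodule.smul_mem_smul (Ideal.mem_span_singleton_self a) trivial,
    fun J hJ => (Ideal.span_singleton_le_iff_mem _).2 ?_⟩
  by_cases ha : a = 0
  · rw [ha]; exact zero_mem _
  by_contra haJ
  obtain ⟨j, hj, z, hz⟩ := exists_mem_smul hJ
  rcases ValuationRing.dvd_total a j with ⟨c, hc⟩ | ⟨c, hc⟩
  · refine hy.resolve_left ha ?_
    have hcm : c ∈ maximalIdeal A := fun hu => haJ (by
      obtain ⟨d, hd⟩ := hu.exists_left_inv
      have : a = d * j := by rw [hc, mul_comm a c, ← mul_assoc, hd, one_mul]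
      rw [this]; exact J.mul_mem_left _ hj)
    rw [hc, mul_smul] at hz
    rw [smul_cancel_of_flat ha hz]
    exact Submodule.smul_mem_smul hcm trivial
  · exact haJ (hc ▸ J.mul_mem_right _ hj)

/-- Contents in an extension whose first map is injective modulo the maximal ideal. -/
theorem HasContent.of_exact {F N Q : Type u} [AddCommGroup F] [Module A F] [AddCommGroup N] [Module A N]
    [AddCommGroup Q] [Module A Q] (f : F →ₗ[A] N) (g : N →ₗ[A] Q) (hex : Function.Exact f g)
    (hg : Function.Surjective g)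
    (hf : ∀ d, f d ∈ maximalIdeal A • (⊤ : Submodule A N) → d ∈ maximalIdeal A • (⊤ : Submodule A F))
    (hF : ∀ d : F, HasContent A d) (hQ : ∀ z : Q, HasContent A z) (x : N) : HasContent A x := by
  have hgm : ∀ n ∈ maximalIdeal A • (⊤ : Submodule A N), g n ∈ maximalIdeal A • (⊤ : Submodule A Q) := fun n hn => by
    have := Submodule.mem_map_of_mem (f := g) hn
    rw [Submodule.map_smul''] at this
    exact Submodule.smul_mono le_rfl le_top this
  obtain ⟨a, z, hz, hza⟩ := hQ (g x)
  obtain ⟨y, rfl⟩ := hg z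
  obtain ⟨d, hd⟩ := (hex (x - a • y)).1 (by rw [map_sub, map_smul, hz, sub_self])
  obtain ⟨b, e, rfl, he⟩ := hF d
  rw [map_smul] at hd
  by_cases ha : a = 0
  · refine ⟨b, f e, by rw [hd, ha, zero_smul, sub_zero], he.imp id fun h hm => h (hf e hm)⟩
  by_cases hab : a ∣ b
  · obtain ⟨c, rfl⟩ := hab
    refine ⟨a, y + c • f e, by rw [smul_add, smul_smul, hd, add_sub_cancel], Or.inr fun hm => hza.resolve_left ha ?_⟩
    have := hgm _ hm
    rwa [map_add, map_smul, (hex (f e)).2 ⟨e, rfl⟩, smul_zero, add_zero] at this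
  · obtain ⟨c, rfl⟩ := (ValuationRing.dvd_total a b).resolve_left hab
    have hb : b ≠ 0 := fun hb => ha (by rw [hb, zero_mul])
    refine ⟨b, c • y + f e, by rw [smul_add, smul_smul, hd, add_sub_cancel], Or.inr fun hm => he.resolve_left hb (hf e ?_)⟩
    have hc : c ∈ maximalIdeal A := fun hu => hab ((associated_mul_unit_left b c hu).dvd)
    have := sub_mem hm (Submodule.smul_mem_smul (r := c) hc (Submodule.mem_top (x := y)))
    rwa [add_sub_cancel_left] at this

/-- Contents transfer along linear equivalences. -/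
theorem HasContent.of_equiv {Y : Type u} [AddCommGroup Y] [Module A Y] (e : X ≃ₗ[A] Y) {x : X}
    (h : HasContent A (e x)) : HasContent A x := by
  obtain ⟨a, y, hy, hya⟩ := h
  refine ⟨a, e.symm y, ?_, hya.imp id fun h hm => h ?_⟩
  · apply e.injective
    rw [map_smul, e.apply_symm_apply, hy]
  · have := Submodule.mem_map_of_mem (f := e.toLinearMap) hm
    rw [Submodule.map_smul''] at this
    have h' := Submodule.smul_mono (le_refl (maximalIdeal A)) le_top this
    rwa [LinearEquiv.coe_coe, e.apply_symm_apply] at h'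

/-- Contents descend along a faithfully flat base change. -/
theorem HasContent.descend {S L : Type u} [CommRing S] [CommRing L] [Algebra A S] [Algebra S L]
    [Module.FaithfullyFlat S L] {Q : Type u} [AddCommGroup Q] [Module S Q] [Module A Q] [IsScalarTower A S Q]
    [Module S X] [Module L X] [IsScalarTower S L X] [IsScalarTower A S X] [Module.Flat A X]
    (h : Q →ₗ[S] X) (hb : IsBaseChange L h) {x : Q} (hx : HasContent A (h x)) : HasContent A x := by
  have hmk : ∀ {Q : Type u} [AddCommGroup Q] [Module S Q] (z : Q), (1 : L) ⊗ₜ[S] z = 0 → z = 0 := fun z hz =>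
    Module.FaithfullyFlat.tensorProduct_mk_injective (A := S) (B := L) _ (hz.trans (TensorProduct.tmul_zero _ _).symm)
  have hinj : Function.Injective h := by
    rw [injective_iff_map_eq_zero]
    intro z hz
    refine hmk z (hb.equiv.injective ?_)
    rw [IsBaseChange.equiv_tmul, one_smul, hz, map_zero]
  obtain ⟨a, y, hy, hya⟩ := hx
  by_cases ha : a = 0
  · exact ⟨0, x, by rw [zero_smul]; exact hinj (by rw [hy, ha, zero_smul, map_zero]), Or.inl rfl⟩
  let s : S := algebraMap A S a
  let K : Submodule S Q := LinearMap.range (LinearMap.lsmul S Q s)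
  have hx0 : K.mkQ x = 0 := by
    refine hmk _ ?_
    obtain ⟨w, rfl⟩ := hb.equiv.surjective y
    have h1 : (1 : L) ⊗ₜ[S] x = s • w := hb.equiv.injective (by
      rw [IsBaseChange.equiv_tmul, one_smul, hy, ← algebraMap_smul S a (hb.equiv w)]
      exact ((hb.equiv.restrictScalars S).map_smul s w).symm)
    have h2 := congrArg (K.mkQ.lTensor L) h1
    rw [LinearMap.lTensor_tmul] at h2
    rw [h2, map_smul, ← LinearMap.smul_apply, ← LinearMap.lTensor_smul,
      show s • K.mkQ = 0 from LinearMap.ext fun q => by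
        rw [LinearMap.smul_apply, ← map_smul]
        exact (Submodule.Quotient.mk_eq_zero _).2 ⟨q, rfl⟩, LinearMap.lTensor_zero, LinearMap.zero_apply]
  obtain ⟨z, hz⟩ := (Submodule.Quotient.mk_eq_zero _).1 hx0
  have hxz : x = a • z := by
    rw [← hz, LinearMap.lsmul_apply]
    exact algebraMap_smul S a z
  refine ⟨a, z, hxz, Or.inr fun hm => hya.resolve_left ha ?_⟩
  have hzy : h z = y := smul_cancel_of_flat ha (by rw [← hy, hxz, LinearMap.map_smul_of_tower])
  have := Submodule.mem_map_of_mem (f := h.restrictScalars A) hm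
  rw [Submodule.map_smul''] at this
  rw [← hzy]
  exact Submodule.smul_mono (le_refl (maximalIdeal A)) le_top this

omit [IsDomain A] [ValuationRing A] in
/-- Elements of an ideal times a localized module. -/
theorem exists_smul_eq_mk_of_mem {P N : Type u} [CommRing P] [Algebra A P] [AddCommGroup N] [Module P N]
    [Module A N] [IsScalarTower A P N] (T : Submonoid P) (I : Ideal A) {z : LocalizedModule T N}
    (hz : z ∈ I • (⊤ : Submodule A (LocalizedModule T N))) :
    ∃ t ∈ T, ∃ m ∈ I • (⊤ : Submodule A N), t • z = LocalizedModule.mkLinearMap T N m := by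
  refine Submodule.smul_induction_on hz (fun c hc w _ => ?_) ?_
  · obtain ⟨⟨x, s⟩, hs⟩ := IsLocalizedModule.surj T (LocalizedModule.mkLinearMap T N) w
    refine ⟨s, s.2, c • x, Submodule.smul_mem_smul hc trivial, ?_⟩
    rw [LinearMap.map_smul_of_tower, ← hs, smul_comm]
    rfl
  · rintro z₁ z₂ ⟨s₁, hs₁, x₁, hx₁, e₁⟩ ⟨s₂, hs₂, x₂, hx₂, e₂⟩
    refine ⟨s₁ * s₂, T.mul_mem hs₁ hs₂, s₂ • x₁ + s₁ • x₂, add_mem ?_ ?_, ?_⟩
    · have := Submodule.mem_map_of_mem (f := (LinearMap.lsmul P N s₂).restrictScalars A) hx₁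
      rw [Submodule.map_smul''] at this
      exact Submodule.smul_mono le_rfl le_top this
    · have := Submodule.mem_map_of_mem (f := (LinearMap.lsmul P N s₁).restrictScalars A) hx₂
      rw [Submodule.map_smul''] at this
      exact Submodule.smul_mono le_rfl le_top this
    · rw [smul_add, map_add, map_smul, map_smul, ← e₁, ← e₂, mul_smul, mul_smul, smul_comm s₂ s₁ z₁]

end GrothLib.RG6
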