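import Mathlib
import Groth.Agent.S1963
import Groth.Agent.S14726
import Groth.Agent.Lib.FibreFlat.UnivRegular
import Groth.Agent.Lib.NagataFP.Global
import Groth.Agent.Lib.WeakAssFib.Fibre
import Groth.Agent.Lib.RG6.Generic
import Groth.Agent.Lib.RG6.ContentBasic

/-!
# Contents in algebras étale over affine space over a valuation ring
-/

set_option autoImplicit false
set_option backward.isDefEq.respectTransparency false
set_option linter.style.haveILetI false
set_option maxHeartbeats 800000
set_option linter.unusedSectionVars false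

universe u

open IsLocalRing TensorProduct

namespace GrothLib.RG6

variable {A P : Type u} [CommRing A] [IsDomain A] [ValuationRing A] [CommRing P] [Algebra A P] {n : ℕ}
  [Algebra (MvPolynomial (Fin n) A) P] [IsScalarTower A (MvPolynomial (Fin n) A) P]
  [Algebra.Etale (MvPolynomial (Fin n) A) P]
  (q p : Ideal P) [q.IsPrime] [p.IsPrime] (hpq : p ≤ q)
  (hq : q.comap (algebraMap A P) = maximalIdeal A) (hp1 : p.comap (algebraMap A P) = maximalIdeal A)
  (hp : ∀ a ∈ p, ∃ s ∉ q, s * a ∈ (maximalIdeal A).map (algebraMap A P))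

include n hpq hp1 hp in
/-- Below the prime lies a generic point of the closed fibre of affine space. -/
theorem under_mem_minimalPrimes :
    p.under (MvPolynomial (Fin n) A) ∈
      ((maximalIdeal A).map (algebraMap A (MvPolynomial (Fin n) A))).minimalPrimes := by
  let Qn := MvPolynomial (Fin n) A
  haveI : Module.Flat Qn P := inferInstance
  refine ⟨⟨inferInstance, Ideal.map_le_iff_le_comap.2 fun a ha => ?_⟩, fun w ⟨hw, hmw⟩ hle => ?_⟩
  · show algebraMap Qn P (algebraMap A Qn a) ∈ p
    rw [← IsScalarTower.algebraMap_apply]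
    exact hp1.ge ha
  haveI := hw
  haveI : p.LiesOver (p.under Qn) := ⟨rfl⟩
  obtain ⟨p', hp'p, hp'prime, hp'⟩ := Ideal.exists_ideal_le_liesOver_of_le (p := w) (q := p.under Qn) p hle
  have hpp' : p ≤ p' := fun a ha => by
    obtain ⟨s, hs, hsa⟩ := hp a ha
    have hm : (maximalIdeal A).map (algebraMap A P) ≤ p' := by
      rw [IsScalarTower.algebraMap_eq A Qn P, ← Ideal.map_map, Ideal.map_le_iff_le_comap]
      exact hmw.trans hp'.over.le
    exact (hp'prime.mem_or_mem (hm hsa)).resolve_left fun h => hs (hpq (hp'p h))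
  rw [hp'.over]
  exact Ideal.comap_mono hpp'

include n hpq hp1 hp in
/-- **Elements at the generic point of the closed fibre are scalars times units.** -/
theorem exists_value (f : P) :
    ∃ (g : P) (a : A) (h : P), g ∉ p ∧ h ∉ p ∧ g * f = algebraMap A P a * h := by
  let Qn := MvPolynomial (Fin n) A
  let u : Ideal Qn := p.under Qn
  haveI : Algebra.Smooth A Qn := ⟨inferInstance, inferInstance⟩
  obtain ⟨hV, -, -, hval⟩ := Groth.Agent.S14726.result A Qn u (under_mem_minimalPrimes (n := n) q p hpq hp1 hp)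
  let V := Localization.AtPrime u
  haveI : ValuationRing V := hV
  let Pp := Localization.AtPrime p
  let ν : V →ₐ[Qn] Pp := IsLocalization.liftAlgHom (M := u.primeCompl) (f := Algebra.ofId Qn Pp) fun t => by
    show IsUnit (algebraMap Qn Pp t)
    rw [IsScalarTower.algebraMap_apply Qn P Pp]
    exact IsLocalization.map_units Pp (⟨_, fun h => t.2 h⟩ : p.primeCompl)
  let B := V ⊗[Qn] P
  let φ : B →ₐ[Qn] Pp := Algebra.TensorProduct.lift ν (IsScalarTower.toAlgHom Qn P Pp) fun _ _ => Commute.all _ _
  let m₀ : Ideal B := (maximalIdeal Pp).comap φ.toRingHom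
  have hm₀ : m₀.comap (algebraMap V B) = maximalIdeal V := by
    rw [← IsLocalization.map_comap u.primeCompl V (m₀.comap (algebraMap V B)),
      ← Localization.AtPrime.map_eq_maximalIdeal]
    congr 1
    ext x
    show φ (algebraMap V B (algebraMap Qn V x)) ∈ maximalIdeal Pp ↔ x ∈ u
    rw [← IsScalarTower.algebraMap_apply Qn V B, AlgHom.commutes, IsScalarTower.algebraMap_apply Qn P Pp,
      IsLocalization.AtPrime.to_map_mem_maximal_iff Pp p]
    rfl
  obtain ⟨-, -, -, -, hb⟩ := Groth.Agent.S1963.result V B m₀ hm₀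
  let ψ : Localization.AtPrime m₀ →+* Pp := IsLocalization.lift (M := m₀.primeCompl) (g := φ.toRingHom) fun t =>
    notMem_maximalIdeal.1 t.2
  have hψ : ψ (algebraMap B _ ((1 : V) ⊗ₜ[Qn] f)) = algebraMap P Pp f := by
    simp only [ψ, IsLocalization.lift_eq]
    show φ ((1 : V) ⊗ₜ[Qn] f) = _
    rw [Algebra.TensorProduct.lift_tmul, map_one, one_mul]
    rfl
  suffices key : ∃ (a : A) (w : Pp), IsUnit w ∧ algebraMap P Pp f = algebraMap A Pp a * w by
    obtain ⟨a, w, hw, hf⟩ := key
    obtain ⟨⟨h, t⟩, ht⟩ := IsLocalization.surj p.primeCompl w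
    have hh : h ∉ p := fun hmem => by
      have h1 := (IsLocalization.AtPrime.to_map_mem_maximal_iff Pp p h).2 hmem
      rw [← ht] at h1
      exact h1 (hw.mul (IsLocalization.map_units Pp t))
    obtain ⟨c, hc⟩ := (IsLocalization.eq_iff_exists p.primeCompl Pp).1
      (show algebraMap P Pp ((t : P) * f) = algebraMap P Pp (algebraMap A P a * h) by
        rw [map_mul, map_mul, ← IsScalarTower.algebraMap_apply, hf, ← ht]; ring)
    refine ⟨(c : P) * t, a, (c : P) * h, fun hm => (‹p.IsPrime›.mem_or_mem hm).elim c.2 t.2,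
      fun hm => (‹p.IsPrime›.mem_or_mem hm).elim c.2 hh, ?_⟩
    rw [mul_assoc, hc]
    ring
  by_cases h0 : algebraMap B (Localization.AtPrime m₀) ((1 : V) ⊗ₜ[Qn] f) = 0
  · refine ⟨0, 1, isUnit_one, ?_⟩
    rw [← hψ, h0, map_zero, map_zero, zero_mul]
  obtain ⟨v, w, hvw⟩ := hb _ h0
  have hψv : ψ (algebraMap V (Localization.AtPrime m₀) v) = ν v := by
    rw [IsScalarTower.algebraMap_apply V B (Localization.AtPrime m₀)]
    simp only [ψ, IsLocalization.lift_eq]
    show φ (v ⊗ₜ[Qn] (1 : P)) = _
    rw [Algebra.TensorProduct.lift_tmul, map_one, mul_one]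
  by_cases hv : v = 0
  · refine ⟨0, 1, isUnit_one, ?_⟩
    rw [← hψ, hvw, map_mul, hψv, hv, map_zero, mul_zero, map_zero, zero_mul]
  obtain ⟨a, w', hw'⟩ := hval v hv
  refine ⟨a, ψ w * ν w', (w.isUnit.map ψ).mul (w'.isUnit.map ν), ?_⟩
  rw [← hψ, hvw, map_mul, hψv, hw', map_mul, IsScalarTower.algebraMap_apply A Qn V, AlgHom.commutes,
    ← IsScalarTower.algebraMap_apply]
  ring

include n hpq hq hp1 hp in
/-- Elements outside the generic prime are regular at the prime after any tensor product. -/
theorem exists_smul_eq_zero_of_notMem (g : P) (hg : g ∉ p) (X : Type u) [AddCommGroup X] [Module A X]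
    (z : P ⊗[A] X) (hz : g • z = 0) : ∃ t ∉ q, t • z = 0 := by
  let Qn := MvPolynomial (Fin n) A
  haveI : Algebra.FinitePresentation A P := Algebra.FinitePresentation.trans A Qn P
  haveI : Module.Flat Qn P := inferInstance
  haveI : Module.Flat A P := Module.Flat.trans A Qn P
  let 𝔭 := maximalIdeal A
  refine GrothLib.FibreFlat.univ_regular (A := A) (K := 𝔭.ResidueField) q
    (GrothLib.NagataFP.flat_localized (R := A) (M := P) q.primeCompl)
    ((Ideal.ker_algebraMap_residueField 𝔭).trans hq.symm) g (fun w hw => ?_) X z hz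
  obtain ⟨b, hb, x, hx⟩ := GrothLib.WeakAssFib.exists_smul_eq_tmul_one 𝔭 w
  have hgx : (g • x) ⊗ₜ[A] (1 : 𝔭.ResidueField) = 0 := by
    rw [← TensorProduct.smul_tmul', ← hx, smul_comm, hw, smul_zero]
  obtain ⟨c, hc, hmem⟩ := GrothLib.WeakAssFib.exists_smul_mem_of_tmul_one_eq_zero 𝔭 hgx
  rw [Ideal.smul_top_eq_map, Submodule.restrictScalars_mem] at hmem
  have hxp : x ∈ p := by
    have h1 : algebraMap A P c * (g * x) ∈ p := by
      rw [← Algebra.smul_def]
      exact Ideal.map_le_iff_le_comap.2 hp1.ge hmem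
    exact (‹p.IsPrime›.mem_or_mem ((‹p.IsPrime›.mem_or_mem h1).resolve_left fun h => hc (hp1.le h))).resolve_left hg
  obtain ⟨s, hs, hsx⟩ := hp x hxp
  refine ⟨s, hs, eq_zero_of_smul_fibre 𝔭 hb ?_⟩
  rw [smul_comm, hx, TensorProduct.smul_tmul']
  refine tmul_one_eq_zero_of_mem 𝔭 ?_
  rw [Ideal.smul_top_eq_map, Submodule.restrictScalars_mem]
  exact hsx

include n hpq hq hp1 hp in
/-- **Every element is a scalar times an element outside the generic prime, at the prime.** -/
theorem exists_value_at (f : P) :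
    ∃ (s : P) (a : A) (f' : P), s ∉ q ∧ s * f = algebraMap A P a * f' ∧ (a = 0 ∨ f' ∉ p) := by
  obtain ⟨g, a, h, hg, hh, hgh⟩ := exists_value (n := n) q p hpq hp1 hp f
  by_cases ha : a = 0
  · rw [ha, map_zero, zero_mul] at hgh
    obtain ⟨s, hs, hs0⟩ := exists_smul_eq_zero_of_notMem (n := n) q p hpq hq hp1 hp g hg A (f ⊗ₜ[A] (1 : A))
      (by rw [TensorProduct.smul_tmul', smul_eq_mul, hgh, TensorProduct.zero_tmul])
    refine ⟨s, 0, 0, hs, ?_, Or.inl rfl⟩
    have := congrArg (TensorProduct.rid A P) hs0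
    rw [map_zero] at this
    simpa [TensorProduct.smul_tmul'] using this
  · let I : Ideal A := Ideal.span {a}
    have h0 : g • (f ⊗ₜ[A] Ideal.Quotient.mk I 1) = 0 := by
      rw [TensorProduct.smul_tmul', smul_eq_mul, hgh, ← Algebra.smul_def, TensorProduct.smul_tmul,
        show a • Ideal.Quotient.mk I (1 : A) = Ideal.Quotient.mk I (a * 1) from rfl, mul_one,
        Ideal.Quotient.eq_zero_iff_mem.2 (Ideal.mem_span_singleton_self a), TensorProduct.tmul_zero]
    obtain ⟨s, hs, hs0⟩ := exists_smul_eq_zero_of_notMem (n := n) q p hpq hq hp1 hp g hg _ _ h0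
    rw [TensorProduct.smul_tmul', smul_eq_mul, ← (TensorProduct.tensorQuotEquivQuotSMul P I).map_eq_zero_iff,
      TensorProduct.tensorQuotEquivQuotSMul_tmul_mk, one_smul, Submodule.Quotient.mk_eq_zero,
      Ideal.smul_top_eq_map, Submodule.restrictScalars_mem, Ideal.map_span, Set.image_singleton,
      Ideal.mem_span_singleton] at hs0
    obtain ⟨f', hf'⟩ := hs0
    refine ⟨s, a, f', hs, hf', Or.inr fun hmem => ?_⟩
    haveI : Module.Flat (MvPolynomial (Fin n) A) P := inferInstance
    haveI : Module.Flat A P := Module.Flat.trans A (MvPolynomial (Fin n) A) P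
    have h1 : g * f' = s * h := by
      refine smul_cancel_of_flat (A := A) ha ?_
      rw [Algebra.smul_def, Algebra.smul_def]
      linear_combination -g * hf' + s * hgh
    exact (‹p.IsPrime›.mem_or_mem (h1 ▸ Ideal.mul_mem_left _ g hmem : s * h ∈ p)).elim (fun h' => hs (hpq h')) hh

include n hpq hq hp1 hp in
/-- **Contents in free modules.** -/
theorem hasContent_free (r : ℕ) (x : LocalizedModule q.primeCompl (Fin r → P)) : HasContent A x := by
  classical
  let mk := LocalizedModule.mkLinearMap q.primeCompl (Fin r → P)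
  obtain ⟨⟨d, s₀⟩, hd⟩ := IsLocalizedModule.surj q.primeCompl mk x
  choose s a f hs hf hfa using fun i => exists_value_at (n := n) q p hpq hq hp1 hp (d i)
  let T : P := (∏ i, s i)
  have hT : T ∉ q := fun h => by
    obtain ⟨i, -, hi⟩ := ‹q.IsPrime›.prod_mem_iff.1 h
    exact hs i hi
  let tT : q.primeCompl := ⟨T * s₀, fun h => (‹q.IsPrime›.mem_or_mem h).elim hT s₀.2⟩
  have hx : (tT : P) • x = mk (T • d) := by
    rw [map_smul, ← show (s₀ : P) • x = mk d from hd, smul_smul]
  have hcancel : Function.Injective fun z : LocalizedModule q.primeCompl (Fin r → P) => (tT : P) • z :=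
    ((Module.End.isUnit_iff _).1 (IsLocalizedModule.map_units mk tT)).1
  by_cases hall : ∀ i, a i = 0
  · refine ⟨0, x, hcancel ?_, Or.inl rfl⟩
    show (tT : P) • x = (tT : P) • ((0 : A) • x)
    rw [hx, zero_smul, smul_zero, show T • d = 0 from funext fun i => by
      rw [Pi.smul_apply, smul_eq_mul,
        show T = (∏ k ∈ Finset.univ.erase i, s k) * s i from (Finset.prod_erase_mul _ _ (Finset.mem_univ i)).symm,
        mul_assoc, hf i, hall i,
        map_zero, zero_mul, mul_zero, Pi.zero_apply], map_zero]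
  · obtain ⟨i₀, hi₀⟩ := not_forall.1 hall
    obtain ⟨i₁, ⟨-, hi₁⟩, hmin⟩ : ∃ i, (i ∈ Finset.univ ∧ a i ≠ 0) ∧ ∀ j ∈ (Finset.univ : Finset (Fin r)), a i ∣ a j := by
      have : ∀ t : Finset (Fin r), (∃ j ∈ t, a j ≠ 0) → ∃ i, (i ∈ t ∧ a i ≠ 0) ∧ ∀ j ∈ t, a i ∣ a j := by
        intro t
        induction t using Finset.induction_on with
        | empty => rintro ⟨j, hj, -⟩; exact absurd hj (Finset.notMem_empty j)
        | insert k t hk ih =>
          intro hex
          by_cases ht : ∃ j ∈ t, a j ≠ 0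
          · obtain ⟨i, ⟨hit, hia⟩, hi⟩ := ih ht
            rcases ValuationRing.dvd_total (a i) (a k) with h | h
            · refine ⟨i, ⟨Finset.mem_insert_of_mem hit, hia⟩, fun j hj => ?_⟩
              rcases Finset.mem_insert.1 hj with rfl | hj
              exacts [h, hi j hj]
            · refine ⟨k, ⟨Finset.mem_insert_self k t, fun h0 => hia (zero_dvd_iff.1 (h0 ▸ h))⟩, fun j hj => ?_⟩
              rcases Finset.mem_insert.1 hj with rfl | hj
              exacts [dvd_rfl, h.trans (hi j hj)]
          · simp only [not_exists, not_and, not_not] at ht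
            obtain ⟨j, hj, hja⟩ := hex
            rcases Finset.mem_insert.1 hj with rfl | hj
            · exact ⟨j, ⟨Finset.mem_insert_self j t, hja⟩, fun l hl => (Finset.mem_insert.1 hl).elim
                (fun e => e ▸ dvd_rfl) fun hl => (ht l hl).symm ▸ dvd_zero _⟩
            · exact absurd (ht j hj) hja
      exact this _ ⟨i₀, Finset.mem_univ _, hi₀⟩
    choose c hc using fun j => hmin j (Finset.mem_univ j)
    let e : Fin r → P := fun j => (∏ k ∈ Finset.univ.erase j, s k) * (algebraMap A P (c j) * f j)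
    have he : T • d = a i₁ • e := funext fun j => by
      rw [Pi.smul_apply, smul_eq_mul, Pi.smul_apply, Algebra.smul_def,
        show T = (∏ k ∈ Finset.univ.erase j, s k) * s j from (Finset.prod_erase_mul _ _ (Finset.mem_univ j)).symm,
        mul_assoc, hf j, hc j, map_mul]
      ring
    obtain ⟨y, hy⟩ := ((Module.End.isUnit_iff _).1 (IsLocalizedModule.map_units mk tT)).2 (mk e)
    refine ⟨a i₁, y, hcancel ?_, Or.inr fun hm => ?_⟩
    · show (tT : P) • x = (tT : P) • (a i₁ • y)
      rw [hx, he, LinearMap.map_smul_of_tower, smul_comm, ← show (tT : P) • y = mk e from hy]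
    · obtain ⟨t, ht, w, hw, htw⟩ := exists_smul_eq_mk_of_mem q.primeCompl (maximalIdeal A) hm
      have h1 : mk (t • e) = mk ((tT : P) • w) := by
        rw [map_smul, map_smul, ← show (tT : P) • y = mk e from hy, smul_comm, htw]
      obtain ⟨t', ht'⟩ := IsLocalizedModule.exists_of_eq (S := q.primeCompl) (f := mk) h1
      have h2 := congrFun (show (t' : P) • t • e = (t' : P) • (tT : P) • w from ht') i₁
      have hwp : w i₁ ∈ p := by
        refine Submodule.smul_induction_on (p := fun v : Fin r → P => v i₁ ∈ p) hw (fun b hb v _ => ?_)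
          fun u v hu hv => by rw [Pi.add_apply]; exact add_mem hu hv
        rw [Pi.smul_apply, Algebra.smul_def]
        exact p.mul_mem_right _ (hp1.ge hb)
      have h3 : (t' : P) * (t * e i₁) ∈ p := by
        have : (t' : P) * (t * e i₁) = (t' : P) * ((tT : P) * w i₁) := h2
        rw [this]
        exact p.mul_mem_left _ (p.mul_mem_left _ hwp)
      have hci : c i₁ = 1 := by
        have := hc i₁
        exact mul_left_cancel₀ hi₁ (by rw [← this, mul_one])
      have h4 := (‹p.IsPrime›.mem_or_mem ((‹p.IsPrime›.mem_or_mem h3).resolve_left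
        fun h => t'.2 (hpq h))).resolve_left fun h => ht (hpq h)
      simp only [e, hci, map_one, one_mul] at h4
      rcases ‹p.IsPrime›.mem_or_mem h4 with h5 | h5
      · obtain ⟨k, -, hk⟩ := ‹p.IsPrime›.prod_mem_iff.1 h5
        exact hs k (hpq hk)
      · exact (hfa i₁).resolve_left hi₁ h5

end GrothLib.RG6
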