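import Mathlib
import Groth.Agent.Lib.NoetherInt.Basic
import Groth.Agent.Lib.Hensel.Reduced
import Groth.Agent.Lib.Hensel.Normal
import Groth.Agent.Lib.WeakAssFib.Fibre
import Groth.Agent.Lib.JacobsonDescent.Basic

/-!
# Étale algebras over polynomial rings: generic points of fibres and dimension drop
-/

set_option autoImplicit false
set_option linter.style.haveILetI false
set_option maxHeartbeats 1000000

universe u

open TensorProduct

namespace GrothLib.RG6

variable {R P : Type u} [CommRing R] [CommRing P] [Algebra R P] {n : ℕ}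
  [Algebra (MvPolynomial (Fin n) R) P] [IsScalarTower R (MvPolynomial (Fin n) R) P]

local notation "Qn" => MvPolynomial (Fin n) R

/-- The map from the polynomial ring over the residue field to the fibre ring. -/
noncomputable def fibHom (p' : Ideal R) [p'.IsPrime] :
    MvPolynomial (Fin n) p'.ResidueField →ₐ[p'.ResidueField] p'.Fiber P :=
  MvPolynomial.aeval fun i => (1 : p'.ResidueField) ⊗ₜ[R] algebraMap Qn P (MvPolynomial.X i)

theorem fibHom_map (p' : Ideal R) [p'.IsPrime] (f : Qn) :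
    fibHom p' (MvPolynomial.map (algebraMap R p'.ResidueField) f) =
      ((1 : p'.ResidueField) ⊗ₜ[R] algebraMap Qn P f : p'.Fiber P) := by
  let ι : P →ₐ[R] p'.Fiber P := Algebra.TensorProduct.includeRight
  let F₁ : Qn →+* p'.Fiber P := (fibHom (P := P) (n := n) p').toRingHom.comp (MvPolynomial.map (algebraMap R p'.ResidueField))
  let F₂ : Qn →+* p'.Fiber P := ι.toRingHom.comp (algebraMap Qn P)
  suffices F₁ = F₂ from RingHom.congr_fun this f
  refine MvPolynomial.ringHom_ext (fun r => ?_) fun i => ?_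
  · show fibHom p' (MvPolynomial.map _ (MvPolynomial.C r)) = ι (algebraMap Qn P (algebraMap R Qn r))
    rw [MvPolynomial.map_C, ← IsScalarTower.algebraMap_apply, AlgHom.commutes, ← MvPolynomial.algebraMap_eq,
      AlgHom.commutes, ← IsScalarTower.algebraMap_apply]
  · show fibHom p' (MvPolynomial.map _ (MvPolynomial.X i)) = _
    rw [MvPolynomial.map_X]
    exact MvPolynomial.aeval_X _ i

variable [Algebra.Etale (MvPolynomial (Fin n) R) P]

attribute [local instance] MvPolynomial.algebraMvPolynomial Algebra.TensorProduct.rightAlgebra in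
/-- The fibre ring is étale over the polynomial ring over the residue field. -/
theorem etale_fibHom (p' : Ideal R) [p'.IsPrime] :
    @Algebra.Etale (MvPolynomial (Fin n) p'.ResidueField) (p'.Fiber P) _ _
      (fibHom (n := n) (P := P) p').toRingHom.toAlgebra := by
  letI aQF : Algebra (MvPolynomial (Fin n) p'.ResidueField) (p'.Fiber P) :=
    (fibHom (n := n) (P := P) p').toRingHom.toAlgebra
  letI aF : Algebra Qn (p'.Fiber P) :=
    ((algebraMap P (p'.Fiber P)).comp (algebraMap Qn P)).toAlgebra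
  haveI : IsScalarTower Qn P (p'.Fiber P) := IsScalarTower.of_algebraMap_eq' rfl
  haveI : IsScalarTower Qn (MvPolynomial (Fin n) p'.ResidueField) (p'.Fiber P) :=
    IsScalarTower.of_algebraMap_eq fun f => (fibHom_map p' f).symm
  haveI : IsScalarTower p'.ResidueField (MvPolynomial (Fin n) p'.ResidueField) (p'.Fiber P) :=
    IsScalarTower.of_algebraMap_eq fun c => ((fibHom (n := n) (P := P) p').commutes c).symm
  haveI : IsScalarTower R (MvPolynomial (Fin n) p'.ResidueField) (p'.Fiber P) :=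
    IsScalarTower.of_algebraMap_eq fun c => (((fibHom (n := n) (P := P) p').restrictScalars R).commutes c).symm
  haveI : Algebra.IsPushout R P p'.ResidueField (p'.Fiber P) := .symm inferInstance
  haveI : Algebra.IsPushout Qn P (MvPolynomial (Fin n) p'.ResidueField) (p'.Fiber P) :=
    (Algebra.IsPushout.comp_iff (R := R) (S := Qn) (R' := p'.ResidueField)
      (S' := MvPolynomial (Fin n) p'.ResidueField) (T := P) (T' := p'.Fiber P)).1 inferInstance
  haveI : Algebra.IsPushout Qn (MvPolynomial (Fin n) p'.ResidueField) P (p'.Fiber P) := .symm inferInstance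
  exact Algebra.Etale.of_equiv (Algebra.IsPushout.equiv Qn (MvPolynomial (Fin n) p'.ResidueField) P (p'.Fiber P))

include n in
/-- The fibres are reduced. -/
theorem isReduced_fiber (p' : Ideal R) [p'.IsPrime] : IsReduced (p'.Fiber P) := by
  letI := (fibHom (P := P) (n := n) p').toRingHom.toAlgebra
  haveI := etale_fibHom (P := P) (n := n) p'
  exact GrothLib.Hensel.isReduced_of_etale (MvPolynomial (Fin n) p'.ResidueField) _

attribute [local instance] MvPolynomial.algebraMvPolynomial in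
omit [Algebra R P] [Algebra (MvPolynomial (Fin n) R) P] [IsScalarTower R (MvPolynomial (Fin n) R) P]
  [Algebra.Etale (MvPolynomial (Fin n) R) P] [CommRing P] in
/-- The polynomial ring over a residue field is quasi-finite over the polynomial ring. -/
theorem quasiFinite_residue_polynomial (p' : Ideal R) [p'.IsPrime] (m : ℕ) :
    (MvPolynomial.map (σ := Fin m) (algebraMap R p'.ResidueField)).QuasiFinite := by
  suffices h : Algebra.QuasiFinite (MvPolynomial (Fin m) R) (MvPolynomial (Fin m) p'.ResidueField) from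
    RingHom.quasiFinite_algebraMap.2 h
  haveI : Algebra.QuasiFinite R p'.ResidueField := inferInstance
  haveI : Algebra.QuasiFinite (MvPolynomial (Fin m) R) (MvPolynomial (Fin m) R ⊗[R] p'.ResidueField) :=
    Algebra.QuasiFinite.baseChange
  exact (Algebra.QuasiFinite.iff_of_algEquiv (Algebra.IsPushout.equiv R (MvPolynomial (Fin m) R) p'.ResidueField
    (MvPolynomial (Fin m) p'.ResidueField))).1 ‹_›

omit [Algebra R P] [Algebra (MvPolynomial (Fin n) R) P] [IsScalarTower R (MvPolynomial (Fin n) R) P]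
  [Algebra.Etale (MvPolynomial (Fin n) R) P] [CommRing P] [CommRing R] in
/-- A closed subscheme of a quasi-finite scheme over a closed subscheme which is finite over a
smaller space is quasi-finite over that space. -/
theorem quasiFinite_cut {Y Z V F U : Type u} [CommRing Y] [CommRing Z] [CommRing V] [CommRing F] [CommRing U]
    (a : Y →+* Z) (b : Z →+* V) (c : Z →+* F) (π : F →+* U) (d : V →+* U) (hcomm : d.comp b = π.comp c)
    (hba : (b.comp a).Finite) (hc : c.QuasiFinite) (hπ : Function.Surjective π) :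
    ((π.comp c).comp a).QuasiFinite := by
  have h1 : (d.comp b).QuasiFinite :=
    hcomm ▸ (RingHom.QuasiFinite.of_finite (RingHom.Finite.of_surjective π hπ)).comp hc
  rw [← hcomm, RingHom.comp_assoc]
  exact h1.of_comp.comp (RingHom.QuasiFinite.of_finite hba)

omit [Algebra R P] [Algebra (MvPolynomial (Fin n) R) P] [IsScalarTower R (MvPolynomial (Fin n) R) P]
  [Algebra.Etale (MvPolynomial (Fin n) R) P] [CommRing P] [CommRing R] in
/-- Quasi-finiteness at a prime from a quasi-finite algebra covering the local ring of the fibre. -/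
theorem weaklyQuasiFiniteAt_of_hom {R' S U : Type u} [CommRing R'] [CommRing S] [CommRing U] [Algebra R' S]
    (qS : Ideal S) [qS.IsPrime] (u : R' →+* U) (hu : u.QuasiFinite)
    (Ψ : U →+* Localization.AtPrime qS ⧸ (qS.under R').map (algebraMap R' (Localization.AtPrime qS)))
    (hcomm : Ψ.comp u = algebraMap R' _)
    (hrange : ∀ a : S, ∃ y, Ψ y = Ideal.Quotient.mk _ (algebraMap S (Localization.AtPrime qS) a)) :
    Algebra.WeaklyQuasiFiniteAt R' qS := by
  rw [Algebra.weaklyQuasiFiniteAt_iff]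
  letI := u.toAlgebra
  haveI : Algebra.QuasiFinite R' U := hu
  refine Algebra.QuasiFinite.of_forall_exists_mul_mem_range
    ({ Ψ with commutes' := fun c => RingHom.congr_fun hcomm c } :
      U →ₐ[R'] Localization.AtPrime qS ⧸ (qS.under R').map (algebraMap R' (Localization.AtPrime qS))) fun x => ?_
  obtain ⟨y, rfl⟩ := Ideal.Quotient.mk_surjective x
  obtain ⟨a, s, rfl⟩ := IsLocalization.exists_mk'_eq qS.primeCompl y
  obtain ⟨ya, hya⟩ := hrange a
  obtain ⟨ys, hys⟩ := hrange s
  refine ⟨ys, ?_, ⟨ya, ?_⟩⟩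
  · show IsUnit (Ψ ys)
    rw [hys]
    exact (IsLocalization.map_units (Localization.AtPrime qS) s).map _
  · show Ψ ya = _ * Ψ ys
    rw [hya, hys, ← map_mul, IsLocalization.mk'_spec]

omit [Algebra R P] [Algebra (MvPolynomial (Fin n) R) P] [IsScalarTower R (MvPolynomial (Fin n) R) P]
  [Algebra.Etale (MvPolynomial (Fin n) R) P] [CommRing P] [CommRing R] in
/-- A hypersurface in affine space over a field, and what is quasi-finite over it, is quasi-finite over
affine space of one dimension less. -/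
theorem quasiFinite_hypersurface {k F : Type u} [Field k] [CommRing F] {m : ℕ}
    (c : MvPolynomial (Fin (m + 1)) k →+* F) (hc : c.QuasiFinite)
    (f : MvPolynomial (Fin (m + 1)) k) (z : Fin m → MvPolynomial (Fin (m + 1)) k)
    (hz : ((Ideal.Quotient.mkₐ k (Ideal.span {f})).comp (MvPolynomial.aeval z)).IsIntegral) :
    (((Ideal.Quotient.mk ((Ideal.span {f}).map c)).comp c).comp
      (MvPolynomial.aeval (R := k) z).toRingHom).QuasiFinite := by
  refine quasiFinite_cut _ (Ideal.Quotient.mk (Ideal.span {f})) c _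
    (Ideal.quotientMap ((Ideal.span {f}).map c) c Ideal.le_comap_map) (Ideal.quotientMap_comp_mk _) ?_ hc
    Ideal.Quotient.mk_surjective
  refine RingHom.IsIntegral.to_finite hz (RingHom.FiniteType.of_comp_finiteType
    (f := algebraMap k (MvPolynomial (Fin m) k)) ?_)
  rw [show (((Ideal.Quotient.mk (Ideal.span {f})).comp (MvPolynomial.aeval (R := k) z).toRingHom).comp
      (algebraMap k (MvPolynomial (Fin m) k))) =
    (Ideal.Quotient.mk (Ideal.span {f})).comp (algebraMap k (MvPolynomial (Fin (m + 1)) k)) from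
      RingHom.ext fun x => congrArg (Ideal.Quotient.mk (Ideal.span {f})) ((MvPolynomial.aeval z).commutes x)]
  exact (RingHom.FiniteType.of_surjective _ Ideal.Quotient.mk_surjective).comp
    (RingHom.finiteType_algebraMap.2 inferInstance)

omit [Algebra (MvPolynomial (Fin n) R) P] [IsScalarTower R (MvPolynomial (Fin n) R) P]
  [Algebra.Etale (MvPolynomial (Fin n) R) P] in
/-- A map out of the fibre ring. -/
theorem exists_fibre_lift {X : Type u} [CommRing X] [Algebra R X] (𝔭 : Ideal R) [𝔭.IsPrime] (PX : P →ₐ[R] X)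
    (h1 : ∀ c ∈ 𝔭, algebraMap R X c = 0) (h2 : ∀ c : R, c ∉ 𝔭 → IsUnit (algebraMap R X c)) :
    ∃ Ψ : 𝔭.Fiber P →ₐ[R] X, ∀ a, Ψ ((1 : 𝔭.ResidueField) ⊗ₜ[R] a) = PX a := by
  let κX : 𝔭.ResidueField →ₐ[R] X := Ideal.ResidueField.liftₐ 𝔭 (Algebra.ofId R X)
    (fun c hc => h1 c hc) (fun c hc => h2 c hc)
  refine ⟨Algebra.TensorProduct.lift κX PX fun _ _ => Commute.all _ _, fun a => ?_⟩
  rw [Algebra.TensorProduct.lift_tmul, map_one, one_mul]

/-- **The generic point of a fibre, and dimension drop for elements away from it.** -/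
theorem exists_generic_prime (𝔭 : Ideal R) [𝔭.IsPrime] (q : Ideal P) [q.IsPrime]
    (hq : q.comap (algebraMap R P) = 𝔭) :
    ∃ (p : Ideal P) (_ : p.IsPrime), p ≤ q ∧ p.comap (algebraMap R P) = 𝔭 ∧
      (∀ a ∈ p, ∃ s ∉ q, s * a ∈ 𝔭.map (algebraMap R P)) ∧
      ∀ g ∉ p, g ∈ q → ∃ m, ∃ hm : n = m + 1, ∃ z : Fin m → MvPolynomial (Fin n) R,
        ∀ (qS : Ideal (P ⧸ Ideal.span {g})) [qS.IsPrime], qS.comap (Ideal.Quotient.mk (Ideal.span {g})) = q →
          @Algebra.QuasiFiniteAt (MvPolynomial (Fin m) R) (P ⧸ Ideal.span {g}) _ _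
            (MvPolynomial.aeval (R := R) fun i => Ideal.Quotient.mk (Ideal.span {g}) (algebraMap Qn P (z i))).toRingHom.toAlgebra
            qS _ := by
  classical
  let κ := 𝔭.ResidueField
  let F := 𝔭.Fiber P
  let ι : P →ₐ[R] F := Algebra.TensorProduct.includeRight
  letI aF : Algebra (MvPolynomial (Fin n) κ) F := (fibHom (P := P) (n := n) 𝔭).toRingHom.toAlgebra
  haveI hetF := etale_fibHom (P := P) (n := n) 𝔭
  haveI : IsScalarTower κ (MvPolynomial (Fin n) κ) F :=
    IsScalarTower.of_algebraMap_eq fun c => ((fibHom (P := P) (n := n) 𝔭).commutes c).symm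
  haveI : IsNoetherianRing F := Algebra.FiniteType.isNoetherianRing (MvPolynomial (Fin n) κ) F
  haveI : q.LiesOver 𝔭 := ⟨hq.symm⟩
  let φ : F →ₐ[R] q.ResidueField := Algebra.TensorProduct.lift
    (Ideal.ResidueField.mapₐ 𝔭 q (Algebra.ofId R P) (q.over_def 𝔭)) (IsScalarTower.toAlgHom R P q.ResidueField)
    fun _ _ => Commute.all _ _
  have hφι : ∀ a, φ (ι a) = algebraMap P q.ResidueField a := fun a => by
    show φ ((1 : κ) ⊗ₜ[R] a) = _
    rw [Algebra.TensorProduct.lift_tmul, map_one, one_mul]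
    rfl
  let qb : Ideal F := RingHom.ker φ.toRingHom
  haveI : qb.IsPrime := RingHom.ker_isPrime φ.toRingHom
  have hqb : ∀ a, ι a ∈ qb ↔ a ∈ q := fun a => by
    show φ (ι a) = 0 ↔ _
    rw [hφι, Ideal.algebraMap_residueField_eq_zero]
  have hunit : ∀ b : R, b ∉ 𝔭 → IsUnit (algebraMap R F b) := fun b hb => GrothLib.WeakAssFib.isUnit_toFib 𝔭 hb
  have hclear : ∀ x : F, ∃ b : R, b ∉ 𝔭 ∧ ∃ s : P, algebraMap R F b * x = ι s := fun x => by
    obtain ⟨b, hb, s, e⟩ := Ideal.Fiber.exists_smul_eq_one_tmul 𝔭 x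
    exact ⟨b, hb, s, by rw [← Algebra.smul_def]; exact e⟩
  have hclear' : ∀ x : F, x ∉ qb → ∃ s : P, s ∉ q ∧ ∀ y, x * y = 0 → ι s * y = 0 := fun x hx => by
    obtain ⟨b, hb, s, e⟩ := hclear x
    refine ⟨s, fun hs => hx ?_, fun y hy => by rw [← e, mul_assoc, hy, mul_zero]⟩
    have := (hqb s).2 hs
    rw [← e] at this
    exact (Ideal.unit_mul_mem_iff_mem _ (hunit b hb)).1 this
  haveI : IsIntegrallyClosed (MvPolynomial (Fin n) κ) :=
    GrothLib.JacobsonDescent.isIntegrallyClosed_mvPolynomial κ _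
  have hdom := (GrothLib.Hensel.isNormalDomain_localization_of_etale (MvPolynomial (Fin n) κ) qb).1
  let pb : Ideal F :=
    { carrier := {x | ∃ t ∉ qb, t * x = 0}
      zero_mem' := ⟨1, fun h => ‹qb.IsPrime›.ne_top ((Ideal.eq_top_iff_one _).2 h), mul_zero _⟩
      add_mem' := fun {x y} ⟨t, ht, htx⟩ ⟨t', ht', hty⟩ =>
        ⟨t * t', fun h => (‹qb.IsPrime›.mem_or_mem h).elim ht ht', by
          rw [mul_add, mul_right_comm, htx, zero_mul, mul_assoc, hty, mul_zero, add_zero]⟩
      smul_mem' := fun c x ⟨t, ht, htx⟩ => ⟨t, ht, by rw [smul_eq_mul, mul_left_comm, htx, mul_zero]⟩ }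
  have hpble : pb ≤ qb := fun x ⟨t, ht, htx⟩ =>
    (‹qb.IsPrime›.mem_or_mem (htx ▸ zero_mem qb : t * x ∈ qb)).resolve_left ht
  haveI hpbp : pb.IsPrime := by
    refine Ideal.isPrime_iff.2 ⟨fun h => ‹qb.IsPrime›.ne_top (top_le_iff.1 (h ▸ hpble)), fun {x y} hxy => ?_⟩
    obtain ⟨t, ht, htxy⟩ := hxy
    rcases hdom (t * x) y (by rw [mul_assoc, htxy]) with ⟨s, hs, h⟩ | ⟨s, hs, h⟩
    · exact Or.inl ⟨s * t, fun h' => (‹qb.IsPrime›.mem_or_mem h').elim hs ht, by rw [mul_assoc, h]⟩
    · exact Or.inr ⟨s, hs, h⟩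
  have hpbmin : ∀ Pr : Ideal F, Pr.IsPrime → Pr ≤ qb → pb ≤ Pr := fun Pr hPr hle x ⟨t, ht, htx⟩ =>
    (hPr.mem_or_mem (htx ▸ zero_mem Pr : t * x ∈ Pr)).resolve_left fun h => ht (hle h)
  let p : Ideal P := pb.comap ι.toRingHom
  have hpq : p ≤ q := fun a ha => (hqb a).1 (hpble ha)
  have hker : ∀ a : P, ι a = 0 → ∃ u : R, u ∉ 𝔭 ∧ algebraMap R P u * a ∈ 𝔭.map (algebraMap R P) := by
    intro a ha
    have h1 : a ⊗ₜ[R] (1 : κ) = 0 := by
      rw [← TensorProduct.comm_tmul]
      exact (congrArg (TensorProduct.comm R κ P) ha).trans (map_zero _)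
    obtain ⟨u, hu, hmem⟩ := GrothLib.WeakAssFib.exists_smul_mem_of_tmul_one_eq_zero 𝔭 h1
    refine ⟨u, hu, ?_⟩
    rw [← Algebra.smul_def]
    rw [Ideal.smul_top_eq_map] at hmem
    exact hmem
  refine ⟨p, inferInstance, hpq, ?_, fun a ha => ?_, fun g hgp hgq => ?_⟩
  · refine le_antisymm ((Ideal.comap_mono hpq).trans hq.le) fun c hc => ⟨1, fun h =>
      ‹qb.IsPrime›.ne_top ((Ideal.eq_top_iff_one _).2 h), ?_⟩
    show (1 : F) * ι (algebraMap R P c) = 0
    rw [one_mul, AlgHom.commutes, IsScalarTower.algebraMap_apply R κ F, Ideal.algebraMap_residueField_eq_zero.2 hc,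
      map_zero]
  · obtain ⟨t, ht, hta⟩ := ha
    obtain ⟨s, hs, hs'⟩ := hclear' t ht
    obtain ⟨u, hu, hmem⟩ := hker (s * a) (by rw [map_mul]; exact hs' _ hta)
    refine ⟨algebraMap R P u * s, fun h => (‹q.IsPrime›.mem_or_mem h).elim (fun h' => hu (hq ▸ h')) hs, ?_⟩
    rwa [mul_assoc]
  -- dimension drop
  have hgb : ι g ∉ pb := hgp
  let I : Ideal F := Ideal.span {ι g}
  have hcontr : ∀ Pr ∈ I.minimalPrimes, ∃ w : MvPolynomial (Fin n) κ, ∃ t : F,
      w ≠ 0 ∧ t ∉ qb ∧ algebraMap _ F w * t ∈ Pr := by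
    intro Pr hPr
    haveI := hPr.1.1
    by_cases hle : Pr ≤ qb
    · have hne : Pr.comap (algebraMap (MvPolynomial (Fin n) κ) F) ≠ ⊥ := fun h0 => by
        haveI : Algebra.QuasiFinite (MvPolynomial (Fin n) κ) F := inferInstance
        have heq : pb = Pr := Algebra.QuasiFinite.eq_of_le_of_under_eq (R := MvPolynomial (Fin n) κ) pb Pr
          (hpbmin Pr inferInstance hle) (le_antisymm (Ideal.comap_mono (hpbmin Pr inferInstance hle))
            (by show Pr.comap _ ≤ _; rw [h0]; exact bot_le))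
        exact hgb (heq ▸ hPr.1.2 (Ideal.mem_span_singleton_self _))
      obtain ⟨w, hw, hw0⟩ := Submodule.exists_mem_ne_zero_of_ne_bot hne
      exact ⟨w, 1, hw0, fun h => ‹qb.IsPrime›.ne_top ((Ideal.eq_top_iff_one _).2 h), by rw [mul_one]; exact hw⟩
    · obtain ⟨t, htP, ht⟩ := SetLike.not_le_iff_exists.1 hle
      exact ⟨1, t, one_ne_zero, ht, Ideal.mul_mem_left _ _ htP⟩
  choose! w t hw0 ht hwt using hcontr
  have hfin : I.minimalPrimes.Finite := Ideal.finite_minimalPrimes_of_isNoetherianRing F I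
  let h := ∏ Pr ∈ hfin.toFinset, w Pr
  let T := ∏ Pr ∈ hfin.toFinset, t Pr
  have hh0 : h ≠ 0 := Finset.prod_ne_zero_iff.2 fun Pr hPr => hw0 Pr (hfin.mem_toFinset.1 hPr)
  have hT : T ∉ qb := fun hT => by
    obtain ⟨Pr, hPr, hPr'⟩ := ‹qb.IsPrime›.prod_mem_iff.1 hT
    exact ht Pr (hfin.mem_toFinset.1 hPr) hPr'
  have hrad : algebraMap _ F h * T ∈ I.radical := by
    rw [← Ideal.sInf_minimalPrimes, Ideal.mem_sInf]
    intro Pr hPr
    rw [map_prod, ← Finset.prod_mul_distrib, ← Finset.mul_prod_erase _ _ (hfin.mem_toFinset.2 hPr)]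
    exact Ideal.mul_mem_right _ _ (hwt Pr hPr)
  obtain ⟨N, hN⟩ := hrad
  obtain ⟨sT, hsT, hsT'⟩ : ∃ sT : P, sT ∉ q ∧ ∃ b : R, b ∉ 𝔭 ∧ algebraMap R F b * T ^ N = ι sT := by
    obtain ⟨b, hb, s, e⟩ := hclear (T ^ N)
    refine ⟨s, fun hs => hT (‹qb.IsPrime›.mem_of_pow_mem N ?_), b, hb, e⟩
    have := (hqb s).2 hs
    rw [← e] at this
    exact (Ideal.unit_mul_mem_iff_mem _ (hunit b hb)).1 this
  obtain ⟨b, hb, hbT⟩ := hsT'
  let f := h ^ N
  have hfI : algebraMap _ F f * ι sT ∈ I := by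
    rw [← hbT, mul_left_comm, map_pow, ← mul_pow]
    exact Ideal.mul_mem_left _ _ hN
  have hgI : I ≤ qb := (Ideal.span_singleton_le_iff_mem _).2 ((hqb g).2 hgq)
  obtain ⟨m, rfl⟩ : ∃ m, n = m + 1 := by
    refine Nat.exists_eq_succ_of_ne_zero fun h0 => ?_
    subst h0
    have hu : IsUnit h := by
      obtain ⟨c, hc⟩ := MvPolynomial.C_surjective (Fin 0) h
      rw [← hc]
      exact IsUnit.map MvPolynomial.C (isUnit_iff_ne_zero.2 fun h' => hh0 (by rw [← hc, h', map_zero]))
    exact hsT ((hqb sT).1 (hgI ((Ideal.unit_mul_mem_iff_mem _ ((hu.pow N).map _)).1 hfI)))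
  obtain ⟨zk, hzk, hint⟩ := GrothLib.NoetherInt.exists_substitution κ f (pow_ne_zero N hh0) (Ideal.span {f})
    (Ideal.mem_span_singleton_self f)
  choose z₀ hz₀ using hzk
  refine ⟨m, rfl, fun i => MvPolynomial.map (Int.castRingHom R) (z₀ i), fun qS _ hqS => ?_⟩
  let R' := MvPolynomial (Fin m) R
  let S := P ⧸ Ideal.span {g}
  let mkS := Ideal.Quotient.mk (Ideal.span {g})
  let Φ : R' →ₐ[R] S := MvPolynomial.aeval fun i => mkS (algebraMap _ P (MvPolynomial.map (Int.castRingHom R) (z₀ i)))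
  letI aS : Algebra R' S := Φ.toRingHom.toAlgebra
  haveI : IsScalarTower R R' S := IsScalarTower.of_algebraMap_eq fun c => (Φ.commutes c).symm
  haveI : Algebra.FiniteType R P := Algebra.FiniteType.trans (R := R) (S := MvPolynomial (Fin (m + 1)) R) (A := P) inferInstance inferInstance
  haveI : Algebra.FiniteType R S := Algebra.FiniteType.of_surjective (Ideal.Quotient.mkₐ R _) Ideal.Quotient.mk_surjective
  haveI : Algebra.FiniteType R' S := Algebra.FiniteType.of_restrictScalars_finiteType R R' S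
  suffices Algebra.WeaklyQuasiFiniteAt R' qS from Algebra.QuasiFiniteAt.of_weaklyQuasiFiniteAt qS
  let U := F ⧸ (Ideal.span {f}).map (algebraMap (MvPolynomial (Fin (m + 1)) κ) F)
  let mkU := Ideal.Quotient.mk ((Ideal.span {f}).map (algebraMap (MvPolynomial (Fin (m + 1)) κ) F))
  let az : MvPolynomial (Fin m) κ →+* MvPolynomial (Fin (m + 1)) κ := (MvPolynomial.aeval (R := κ) zk).toRingHom
  let u : R' →+* U := ((mkU.comp (algebraMap (MvPolynomial (Fin (m + 1)) κ) F)).comp az).comp
    (MvPolynomial.map (algebraMap R κ))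
  have hu : RingHom.QuasiFinite (R := R') (S := U) u :=
    RingHom.QuasiFinite.comp (R := R') (S := MvPolynomial (Fin m) κ) (T := U)
      (quasiFinite_hypersurface (algebraMap (MvPolynomial (Fin (m + 1)) κ) F)
        (RingHom.quasiFinite_algebraMap.2 inferInstance) f zk hint)
      (quasiFinite_residue_polynomial (R := R) 𝔭 m)
  let Sq := Localization.AtPrime qS
  let M := (qS.under R').map (algebraMap R' Sq)
  let X := Sq ⧸ M
  let mkX : Sq →+* X := Ideal.Quotient.mk M
  have h𝔭 : ∀ c ∈ 𝔭, algebraMap R X c = 0 := fun c hc => by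
    rw [IsScalarTower.algebraMap_apply R R' X, IsScalarTower.algebraMap_apply R' Sq X]
    refine Ideal.Quotient.eq_zero_iff_mem.2 (Ideal.mem_map_of_mem _ ?_)
    show algebraMap R' S (algebraMap R R' c) ∈ qS
    rw [← IsScalarTower.algebraMap_apply R R' S, IsScalarTower.algebraMap_apply R P S]
    show algebraMap R P c ∈ qS.comap mkS
    rw [hqS]
    exact hq.ge hc
  have hPu : ∀ s : P, s ∉ q → IsUnit (mkX (algebraMap S Sq (mkS s))) := fun s hs =>
    (IsLocalization.map_units Sq (⟨mkS s, fun h => hs (hqS.le h)⟩ : qS.primeCompl)).map mkX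
  let PX : P →ₐ[R] X :=
    (Ideal.Quotient.mkₐ R M).comp ((IsScalarTower.toAlgHom R S Sq).comp (Ideal.Quotient.mkₐ R (Ideal.span {g})))
  obtain ⟨Ψ, hΨ⟩ := exists_fibre_lift (X := X) 𝔭 PX h𝔭 fun c hc => by
    rw [← PX.commutes]
    exact hPu (algebraMap R P c) fun h => hc (hq ▸ h)
  have hΨι : ∀ a, Ψ (ι a) = PX a := hΨ
  have hΨI : ∀ x ∈ I, Ψ x = 0 := fun x hx => by
    obtain ⟨c, rfl⟩ := Ideal.mem_span_singleton.1 hx
    rw [map_mul, hΨι]
    show mkX (algebraMap S Sq (mkS g)) * _ = 0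
    rw [show mkS g = 0 from Ideal.Quotient.eq_zero_iff_mem.2 (Ideal.mem_span_singleton_self g), map_zero, map_zero,
      zero_mul]
  have hΨf : Ψ (algebraMap _ F f) = 0 := by
    have := hΨI _ hfI
    rw [map_mul, hΨι] at this
    exact (hPu sT hsT).mul_left_eq_zero.1 this
  let ΨU : U →+* X := Ideal.Quotient.lift _ Ψ.toRingHom fun x hx => by
    have hle : (Ideal.span {f}).map (algebraMap (MvPolynomial (Fin (m + 1)) κ) F) ≤ RingHom.ker Ψ.toRingHom := by
      rw [Ideal.map_span, Ideal.span_le]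
      rintro _ ⟨_, rfl, rfl⟩
      exact hΨf
    exact hle hx
  refine weaklyQuasiFiniteAt_of_hom (U := U) qS u hu ΨU ?_ fun a => ?_
  · refine MvPolynomial.ringHom_ext (fun c => ?_) fun i => ?_
    · show Ψ (algebraMap (MvPolynomial (Fin (m + 1)) κ) F (MvPolynomial.aeval zk
        (MvPolynomial.map (algebraMap R κ) (MvPolynomial.C c)))) = algebraMap R' X (algebraMap R R' c)
      rw [MvPolynomial.map_C, MvPolynomial.aeval_C, ← IsScalarTower.algebraMap_apply,
        ← IsScalarTower.algebraMap_apply R κ F, ← IsScalarTower.algebraMap_apply R R' X]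
      exact Ψ.commutes c
    · show Ψ (fibHom 𝔭 (MvPolynomial.aeval zk
        (MvPolynomial.map (algebraMap R κ) (MvPolynomial.X i)))) = algebraMap R' X (MvPolynomial.X i)
      rw [MvPolynomial.map_X, MvPolynomial.aeval_X, ← hz₀ i,
        show (MvPolynomial.map (Int.castRingHom κ)) (z₀ i) =
          MvPolynomial.map (algebraMap R κ) (MvPolynomial.map (Int.castRingHom R) (z₀ i)) by
            rw [MvPolynomial.map_map]
            exact congrArg (fun e => MvPolynomial.map e (z₀ i)) (Subsingleton.elim _ _),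
        fibHom_map, hΨ, IsScalarTower.algebraMap_apply R' Sq X, IsScalarTower.algebraMap_apply R' S Sq]
      show mkX (algebraMap S Sq _) = mkX (algebraMap S Sq (Φ (MvPolynomial.X i)))
      rw [MvPolynomial.aeval_X]
      rfl
  · obtain ⟨a, rfl⟩ := Ideal.Quotient.mk_surjective a
    exact ⟨mkU (ι a), hΨι a⟩

end GrothLib.RG6
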