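import Mathlib
import Groth.Agent.Lib.CAlgMisc.FlatSquare
import Groth.Agent.Lib.RG6.Tools

/-!
# Transfer along an étale neighbourhood which makes a quasi-finite algebra finite
-/

set_option autoImplicit false
set_option backward.isDefEq.respectTransparency false
set_option linter.style.haveILetI false
set_option maxHeartbeats 800000

universe u

open TensorProduct

namespace GrothLib.RG6

/-- Localizing a module over a quotient ring at a prime is localizing at its preimage. -/
theorem isLocalizedModule_of_surjective {P S : Type u} [CommRing P] [CommRing S] [Algebra P S]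
    (hsurj : Function.Surjective (algebraMap P S)) (q : Ideal P) [q.IsPrime] (qS : Ideal S) [qS.IsPrime]
    [qS.LiesOver q] {M M' : Type u} [AddCommGroup M] [Module S M] [Module P M] [IsScalarTower P S M]
    [AddCommGroup M'] [Module S M'] [Module P M'] [IsScalarTower P S M'] (f : M →ₗ[S] M')
    [IsLocalizedModule qS.primeCompl f] : IsLocalizedModule q.primeCompl (f.restrictScalars P) := by
  have hmem : ∀ s : P, s ∈ q.primeCompl ↔ algebraMap P S s ∈ qS.primeCompl := fun s =>
    not_congr (Ideal.mem_of_liesOver qS q s)
  refine ⟨fun s => ?_, fun y => ?_, fun {a b} hab => ?_⟩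
  · rw [Module.End.isUnit_iff]
    have h := (Module.End.isUnit_iff _).1 (IsLocalizedModule.map_units f ⟨_, (hmem s).1 s.2⟩)
    have heq : (fun x : M' => (s : P) • x) = fun x => algebraMap P S s • x :=
      funext fun x => (algebraMap_smul S (s : P) x).symm
    show Function.Bijective fun x : M' => (s : P) • x
    rw [heq]
    exact h
  · obtain ⟨⟨m, t⟩, ht⟩ := IsLocalizedModule.surj qS.primeCompl f y
    obtain ⟨s, hs⟩ := hsurj t
    refine ⟨⟨m, ⟨s, (hmem s).2 (hs ▸ t.2)⟩⟩, ?_⟩
    show s • y = f m
    rw [← algebraMap_smul S s y, hs]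
    exact ht
  · obtain ⟨t, ht⟩ := IsLocalizedModule.exists_of_eq (S := qS.primeCompl) (f := f) hab
    obtain ⟨s, hs⟩ := hsurj t
    refine ⟨⟨s, (hmem s).2 (hs ▸ t.2)⟩, ?_⟩
    show s • a = s • b
    rw [← algebraMap_smul S s a, ← algebraMap_smul S s b, hs]
    exact ht

/-- A localization at a prime and the standard one are finitely presented together. -/
theorem fp_atPrime_iff {A : Type u} [CommRing A] (q : Ideal A) [q.IsPrime] {N X : Type u}
    [AddCommGroup N] [Module A N] [AddCommGroup X] [Module A X] [Module (Localization.AtPrime q) X]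
    [IsScalarTower A (Localization.AtPrime q) X] (f : N →ₗ[A] X) [IsLocalizedModule q.primeCompl f] :
    Module.FinitePresentation (Localization.AtPrime q) (LocalizedModule q.primeCompl N) ↔
      Module.FinitePresentation (Localization.AtPrime q) X :=
  (LinearEquiv.extendScalarsOfIsLocalization q.primeCompl (Localization.AtPrime q)
    (IsLocalizedModule.linearEquiv q.primeCompl (LocalizedModule.mkLinearMap q.primeCompl N) f)).finitePresentation_iff

/-- At the unique prime over a prime of the base of a finite algebra, localizing is localizing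
the base. -/
theorem isLocalizedModule_of_unique {A L : Type u} [CommRing A] [CommRing L] [Algebra A L] [Module.Finite A L]
    (p : Ideal A) [p.IsPrime] (qL : Ideal L) [qL.IsPrime] [qL.LiesOver p]
    (huniq : ∀ Q : Ideal L, Q.IsPrime → Q.LiesOver p → Q = qL)
    {M M' : Type u} [AddCommGroup M] [Module L M] [Module A M] [IsScalarTower A L M]
    [AddCommGroup M'] [Module L M'] [Module A M'] [IsScalarTower A L M'] (f : M →ₗ[L] M')
    [IsLocalizedModule qL.primeCompl f] : IsLocalizedModule p.primeCompl (f.restrictScalars A) := by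
  have hdvd : ∀ t ∈ qL.primeCompl, ∃ u ∈ p.primeCompl, t ∣ algebraMap A L u := fun t ht => by
    by_contra hcon
    simp only [not_exists, not_and] at hcon
    have hle : (Ideal.span {t}).comap (algebraMap A L) ≤ p := fun u hu => by
      by_contra hup
      exact hcon u hup (Ideal.mem_span_singleton.1 hu)
    obtain ⟨Q, hQ, hQp, hQc⟩ := Ideal.exists_ideal_over_prime_of_isIntegral p (Ideal.span {t}) hle
    exact ht (huniq Q hQp ⟨hQc.symm⟩ ▸ hQ (Ideal.mem_span_singleton_self t))
  have hmem : ∀ u ∈ p.primeCompl, algebraMap A L u ∈ qL.primeCompl := fun u hu h =>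
    hu ((Ideal.mem_of_liesOver qL p u).2 h)
  refine ⟨fun u => ?_, fun y => ?_, fun {a b} hab => ?_⟩
  · rw [Module.End.isUnit_iff]
    have h := (Module.End.isUnit_iff _).1 (IsLocalizedModule.map_units f ⟨_, hmem u u.2⟩)
    have heq : (fun x : M' => (u : A) • x) = fun x => algebraMap A L u • x :=
      funext fun x => (algebraMap_smul L (u : A) x).symm
    show Function.Bijective fun x : M' => (u : A) • x
    rw [heq]
    exact h
  · obtain ⟨⟨m, t⟩, ht⟩ := IsLocalizedModule.surj qL.primeCompl f y
    obtain ⟨u, hu, c, hc⟩ := hdvd t t.2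
    refine ⟨⟨c • m, ⟨u, hu⟩⟩, ?_⟩
    show u • y = f (c • m)
    rw [map_smul, ← algebraMap_smul L u y, hc, mul_comm, mul_smul, ← ht]
    rfl
  · obtain ⟨t, ht⟩ := IsLocalizedModule.exists_of_eq (S := qL.primeCompl) (f := f) hab
    obtain ⟨u, hu, c, hc⟩ := hdvd t t.2
    refine ⟨⟨u, hu⟩, ?_⟩
    show u • a = u • b
    rw [← algebraMap_smul L u a, ← algebraMap_smul L u b, hc, mul_comm, mul_smul, mul_smul]
    exact congrArg (c • ·) ht

/-- The statement which is transferred. -/
def FPAt (R A : Type u) [CommRing R] [CommRing A] [Algebra R A] : Prop :=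
  ∀ (M : Type u) [AddCommGroup M] [Module A M] [Module R M] [IsScalarTower R A M] [Module.Finite A M]
    (p : Ideal A) [p.IsPrime], Module.Flat R (LocalizedModule p.primeCompl M) →
      Module.FinitePresentation (Localization.AtPrime p) (LocalizedModule p.primeCompl M)

/-- **The transfer step.** -/
theorem fp_step {R R' S : Type u} [CommRing R] [CommRing R'] [CommRing S] [Algebra R R'] [Algebra R' S]
    [Algebra R S] [IsScalarTower R R' S] [Algebra.FiniteType R' S]
    (IH : ∀ (R'' : Type u) [CommRing R''] [Algebra R' R''] [Algebra R R''] [IsScalarTower R R' R'']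
      [Algebra.Etale R' R''], FPAt R R'')
    (Q : Type u) [AddCommGroup Q] [Module S Q] [Module R Q] [IsScalarTower R S Q] [Module.Finite S Q]
    (qS : Ideal S) [qS.IsPrime] [Algebra.QuasiFiniteAt R' qS]
    (hflat : Module.Flat R (LocalizedModule qS.primeCompl Q)) :
    Module.FinitePresentation (Localization.AtPrime qS) (LocalizedModule qS.primeCompl Q) := by
  classical
  obtain ⟨R'', _, _, _, P'', _, _, e, -, P', _, hP'over, hP'q, heP', -, hfinL, huniq⟩ :=
    Algebra.exists_etale_isIdempotentElem_forall_liesOver_eq (qS.under R') qS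
  letI : Algebra R R'' := ((algebraMap R' R'').comp (algebraMap R R')).toAlgebra
  haveI : IsScalarTower R R' R'' := IsScalarTower.of_algebraMap_eq' rfl
  let T := R'' ⊗[R'] S
  let L := Localization.Away e
  let incl : S →+* T := (Algebra.TensorProduct.includeRight (R := R') (A := R'') (B := S)).toRingHom
  letI : Algebra S T := incl.toAlgebra
  haveI : IsScalarTower R S L := IsScalarTower.of_algebraMap_eq fun x => by
    rw [IsScalarTower.algebraMap_apply R T L, IsScalarTower.algebraMap_apply S T L]
    congr 1
    show algebraMap R T x = (1 : R'') ⊗ₜ[R'] algebraMap R S x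
    rw [IsScalarTower.algebraMap_apply R R' S, IsScalarTower.algebraMap_apply R R' T,
      Algebra.TensorProduct.algebraMap_apply, Algebra.algebraMap_eq_smul_one (algebraMap R R' x),
      Algebra.algebraMap_eq_smul_one (A := S) (algebraMap R R' x), TensorProduct.smul_tmul]
  -- flatness
  haveI : Module.Flat R' R'' := inferInstance
  haveI : Algebra.IsPushout R' S R'' T := Algebra.IsPushout.symm inferInstance
  haveI : Module.Flat S T := Module.Flat.isBaseChange R' S R'' T (Algebra.IsPushout.out)
  haveI : Module.Flat T L := IsLocalization.flat L (Submonoid.powers e)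
  haveI : Module.Flat S L := Module.Flat.trans S T L
  -- the prime
  have hdisj : Disjoint (Submonoid.powers e : Set T) (P' : Set T) :=
    (Ideal.disjoint_powers_iff_notMem_of_isPrime e).2 heP'
  let qL : Ideal L := P'.map (algebraMap T L)
  haveI : qL.IsPrime := IsLocalization.isPrime_of_isPrime_disjoint (Submonoid.powers e) _ _ ‹_› hdisj
  haveI : qL.LiesOver P' := IsLocalization.liesOver_map_of_isPrime_disjoint (Submonoid.powers e) _ hdisj
  haveI : qL.LiesOver P'' := Ideal.LiesOver.trans qL P' P''
  have hqLS : qL.comap (algebraMap S L) = qS := by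
    rw [IsScalarTower.algebraMap_eq S T L, ← Ideal.comap_comap]
    show (qL.under T).comap incl = qS
    rw [← Ideal.over_def qL P']
    exact hP'q
  haveI : qL.LiesOver qS := ⟨hqLS.symm⟩
  have huniqL : ∀ Q' : Ideal L, Q'.IsPrime → Q'.LiesOver P'' → Q' = qL := fun Q' hQ' hover => by
    have h1 : Q'.comap (algebraMap T L) = P' := huniq _ inferInstance
      ⟨by rw [hover.over, Ideal.under_def, Ideal.under_def, Ideal.comap_comap, ← IsScalarTower.algebraMap_eq]⟩
      fun he => hQ'.ne_top (Ideal.eq_top_of_isUnit_mem _ he (IsLocalization.Away.algebraMap_isUnit e))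
    show Q' = P'.map (algebraMap T L)
    rw [← h1, IsLocalization.map_comap (Submonoid.powers e) L Q']
  -- rings and modules
  let LqL := Localization.AtPrime qL
  let Sq := Localization.AtPrime qS
  let Aq := Localization.AtPrime P''
  letI : Algebra Sq LqL := Localization.AtPrime.algebraOfLiesOver qS qL
  letI : Algebra Aq LqL := Localization.AtPrime.algebraOfLiesOver P'' qL
  let M := L ⊗[S] Q
  let X := LocalizedModule qL.primeCompl M
  let g : M →ₗ[L] X := LocalizedModule.mkLinearMap qL.primeCompl M
  letI : Module Sq X := Module.compHom X (algebraMap Sq LqL)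
  haveI : IsScalarTower Sq LqL X := IsScalarTower.of_compHom _ _ _
  haveI : IsScalarTower S Sq X := IsScalarTower.of_algebraMap_smul fun s x => by
    show algebraMap Sq LqL (algebraMap S Sq s) • x = s • x
    rw [← IsScalarTower.algebraMap_apply S Sq LqL, algebraMap_smul]
  letI : Module Aq X := Module.compHom X (algebraMap Aq LqL)
  haveI : IsScalarTower Aq LqL X := IsScalarTower.of_compHom _ _ _
  haveI : IsScalarTower R'' Aq X := IsScalarTower.of_algebraMap_smul fun s x => by
    show algebraMap Aq LqL (algebraMap R'' Aq s) • x = s • x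
    rw [← IsScalarTower.algebraMap_apply R'' Aq LqL, algebraMap_smul]
  -- X as a base change
  let f : Q →ₗ[S] M := TensorProduct.mk S L Q 1
  let fq : Q →ₗ[S] LocalizedModule qS.primeCompl Q := LocalizedModule.mkLinearMap qS.primeCompl Q
  let gf : Q →ₗ[S] X := g.restrictScalars S ∘ₗ f
  have hgf : IsBaseChange LqL gf :=
    (TensorProduct.isBaseChange S Q L).comp (IsLocalizedModule.isBaseChange qL.primeCompl LqL g)
  have hfq : IsBaseChange Sq fq := IsLocalizedModule.isBaseChange qS.primeCompl Sq fq
  let hl : LocalizedModule qS.primeCompl Q →ₗ[Sq] X := hfq.lift gf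
  have hhl : IsBaseChange LqL hl := hfq.of_comp (by rw [hfq.lift_comp]; exact hgf)
  -- flatness of X over R
  haveI : Module.Flat S LqL := Module.Flat.trans S L LqL
  haveI : Module.Flat Sq LqL := (Module.flat_iff_of_isLocalization Sq qS.primeCompl LqL).2 inferInstance
  haveI : Module.Flat R (LocalizedModule qS.primeCompl Q) := hflat
  haveI : Module.Flat R (LqL ⊗[Sq] LocalizedModule qS.primeCompl Q) :=
    GrothLib.CAlgMisc.flat_tensor_left R Sq LqL _
  haveI hXflat : Module.Flat R X := Module.Flat.of_linearEquiv (hhl.equiv.restrictScalars R).symm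
  -- apply the induction hypothesis
  haveI : Module.Finite R'' M := Module.Finite.trans L M
  haveI hg : IsLocalizedModule P''.primeCompl (g.restrictScalars R'') :=
    isLocalizedModule_of_unique (M := M) (M' := X) P'' qL huniqL g
  let eX : LocalizedModule P''.primeCompl M ≃ₗ[R''] X :=
    IsLocalizedModule.linearEquiv P''.primeCompl (LocalizedModule.mkLinearMap P''.primeCompl M)
      (g.restrictScalars R'')
  have hfpA : Module.FinitePresentation Aq X :=
    (fp_atPrime_iff P'' (N := M) (X := X) (g.restrictScalars R'')).1
      (IH R'' M P'' (Module.Flat.of_linearEquiv (eX.restrictScalars R)))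
  haveI : IsLocalizedModule P''.primeCompl
      ((Algebra.linearMap L LqL).restrictScalars R'') :=
    isLocalizedModule_of_unique P'' qL huniqL _
  haveI : Module.Finite Aq LqL :=
    Module.Finite.of_isLocalizedModule P''.primeCompl ((Algebra.linearMap L LqL).restrictScalars R'')
  haveI : Module.FinitePresentation LqL X := fp_of_restrict (A := Aq) (B := LqL) (M := X)
  -- descend
  haveI : Module.FinitePresentation LqL (LqL ⊗[Sq] LocalizedModule qS.primeCompl Q) :=
    Module.FinitePresentation.of_equiv (R := LqL) (M := X) (N := LqL ⊗[Sq] LocalizedModule qS.primeCompl Q) hhl.equiv.symm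
  haveI : Module.FaithfullyFlat Sq LqL := Module.FaithfullyFlat.of_flat_of_isLocalHom
  exact fp_of_faithfullyFlat (B := LqL)

end GrothLib.RG6
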