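import Groth.Agent.Lib.RG6.Generic
import Groth.Agent.Lib.RG6.Dim
import Groth.Agent.Lib.RG6.Step

/-!
# Finite modules flat at a prime are finitely presented there
-/

set_option autoImplicit false
set_option backward.isDefEq.respectTransparency false
set_option linter.style.haveILetI false
set_option maxHeartbeats 800000

universe u

open TensorProduct

namespace GrothLib.RG6

/-- A finite module over a quotient by a principal ideal which is finitely presented at a prime is
finitely presented at the prime below. -/
theorem fp_atPrime_of_quotient {P : Type u} [CommRing P] (g : P) (q : Ideal P) [q.IsPrime]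
    (qS : Ideal (P ⧸ Ideal.span {g})) [qS.IsPrime] [qS.LiesOver q]
    {Q : Type u} [AddCommGroup Q] [Module P Q] [Module (P ⧸ Ideal.span {g}) Q]
    [IsScalarTower P (P ⧸ Ideal.span {g}) Q]
    (h : Module.FinitePresentation (Localization.AtPrime qS) (LocalizedModule qS.primeCompl Q)) :
    Module.FinitePresentation (Localization.AtPrime q) (LocalizedModule q.primeCompl Q) := by
  let S := P ⧸ Ideal.span {g}
  let Pq := Localization.AtPrime q
  let Sq := Localization.AtPrime qS
  letI : Algebra Pq Sq := Localization.AtPrime.algebraOfLiesOver q qS
  have hsurj : Function.Surjective (algebraMap P S) := Ideal.Quotient.mk_surjective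
  haveI := isLocalizedModule_of_surjective hsurj q qS (Algebra.linearMap S Sq)
  haveI : Module.FinitePresentation P S :=
    Module.finitePresentation_of_surjective (Submodule.mkQ (Ideal.span {g})) (Submodule.mkQ_surjective _)
      (by rw [Submodule.ker_mkQ]; exact Submodule.fg_span_singleton g)
  haveI : Module.FinitePresentation Pq Sq :=
    FinitePresentation.of_isBaseChange ((Algebra.linearMap S Sq).restrictScalars P)
      (IsLocalizedModule.isBaseChange q.primeCompl Pq _)
  let X := LocalizedModule qS.primeCompl Q
  letI : Module Pq X := Module.compHom X (algebraMap Pq Sq)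
  haveI : IsScalarTower Pq Sq X := IsScalarTower.of_compHom _ _ _
  haveI : IsScalarTower P Pq X := IsScalarTower.of_algebraMap_smul fun s x => by
    show algebraMap Pq Sq (algebraMap P Pq s) • x = s • x
    rw [← IsScalarTower.algebraMap_apply P Pq Sq, algebraMap_smul]
  haveI := isLocalizedModule_of_surjective hsurj q qS (LocalizedModule.mkLinearMap qS.primeCompl Q)
  haveI : Module.FinitePresentation Sq X := h
  exact (fp_atPrime_iff q (N := Q) (X := X) ((LocalizedModule.mkLinearMap qS.primeCompl Q).restrictScalars P)).2
    (Module.FinitePresentation.trans Pq X Sq)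

/-- If the cokernel of a map from a finite free module which is injective at a prime is finitely
presented at the prime, so is the target. -/
theorem fp_atPrime_of_coker {P : Type u} [CommRing P] {N : Type u} [AddCommGroup N] [Module P N]
    (q : Ideal P) [q.IsPrime] {r : ℕ} (α : (Fin r → P) →ₗ[P] N)
    (hinj : Function.Injective (LocalizedModule.map q.primeCompl α))
    (h : Module.FinitePresentation (Localization.AtPrime q)
      (LocalizedModule q.primeCompl (N ⧸ LinearMap.range α))) :
    Module.FinitePresentation (Localization.AtPrime q) (LocalizedModule q.primeCompl N) := by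
  let π := LocalizedModule.map q.primeCompl (LinearMap.range α).mkQ
  have hex : Function.Exact (LocalizedModule.map q.primeCompl α) π :=
    LocalizedModule.map_exact q.primeCompl α _ (LinearMap.exact_map_mkQ_range α)
  have hπ : Function.Surjective π := by
    intro y
    induction y using LocalizedModule.induction_on with
    | h m s =>
      obtain ⟨m, rfl⟩ := Submodule.mkQ_surjective _ m
      exact ⟨LocalizedModule.mk m s, by simp [π, LocalizedModule.map_mk]⟩
  haveI : Module.FinitePresentation (Localization.AtPrime q) (LinearMap.ker π) := by
    rw [LinearMap.exact_iff.1 hex]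
    exact Module.FinitePresentation.of_equiv (LinearEquiv.ofInjective _ hinj)
  haveI := h
  exact Module.finitePresentation_of_ker π hπ

/-- **Finite modules over algebras étale over affine space which are flat at a prime are finitely
presented at that prime.** -/
theorem fp_of_flat_etale : ∀ (n : ℕ) {R : Type u} [CommRing R] {P : Type u} [CommRing P] [Algebra R P]
    [Algebra (MvPolynomial (Fin n) R) P] [IsScalarTower R (MvPolynomial (Fin n) R) P]
    [Algebra.Etale (MvPolynomial (Fin n) R) P], FPAt R P := by
  intro n
  induction n using Nat.strong_induction_on with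
  | _ n ih =>
    intro R _ P _ _ _ _ _ N _ _ _ _ _ q _ hflat
    classical
    let Qn := MvPolynomial (Fin n) R
    haveI : Algebra.FinitePresentation R P := Algebra.FinitePresentation.trans R Qn P
    haveI : Module.Flat Qn P := inferInstance
    haveI : Module.Flat R P := Module.Flat.trans R Qn P
    let 𝔭 := q.comap (algebraMap R P)
    obtain ⟨p, _, hpq, hp1, hp, hdrop⟩ := exists_generic_prime (n := n) 𝔭 q rfl
    obtain ⟨r, α, hflatQ, -, hinj, hg⟩ := exists_generic (N := N) 𝔭 q p hpq rfl hp1 hp
      (fun p' _ => isReduced_fiber (n := n) p') hflat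
    refine fp_atPrime_of_coker q α hinj ?_
    obtain ⟨k, s, hs⟩ := Module.Finite.exists_fin (R := P) (M := N)
    choose gs hgs hgs' using fun i => hg (s i)
    let g := ∏ i, gs i
    have hgp : g ∉ p := fun hmem => by
      obtain ⟨i, -, hi⟩ := ‹p.IsPrime›.prod_mem_iff.1 hmem
      exact hgs i hi
    have hann : ∀ x : N ⧸ LinearMap.range α, g • x = 0 := fun x => by
      obtain ⟨x, rfl⟩ := Submodule.mkQ_surjective _ x
      rw [← map_smul, Submodule.mkQ_apply, Submodule.Quotient.mk_eq_zero]
      have hx : x ∈ Submodule.span P (Set.range s) := hs ▸ trivial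
      induction hx using Submodule.span_induction with
      | mem y hy =>
        obtain ⟨i, rfl⟩ := hy
        show (∏ j, gs j) • s i ∈ LinearMap.range α
        rw [← Finset.prod_erase_mul _ gs (Finset.mem_univ i), mul_smul]
        exact Submodule.smul_mem _ _ (hgs' i)
      | zero => rw [smul_zero]; exact zero_mem _
      | add a b _ _ ha hb => rw [smul_add]; exact add_mem ha hb
      | smul c a _ ha => rw [smul_comm]; exact Submodule.smul_mem _ c ha
    by_cases hgq : g ∈ q
    swap
    · haveI : Subsingleton (LocalizedModule q.primeCompl (N ⧸ LinearMap.range α)) := by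
        rw [LocalizedModule.subsingleton_iff]
        exact fun x => ⟨g, hgq, hann x⟩
      infer_instance
    obtain ⟨m, rfl, z, hqf⟩ := hdrop g hgp hgq
    let S := P ⧸ Ideal.span {g}
    let Q := N ⧸ LinearMap.range α
    have htors : Module.IsTorsionBySet P Q (Ideal.span {g} : Ideal P) := fun x a => by
      obtain ⟨c, hc⟩ := Ideal.mem_span_singleton.1 a.2
      show (a : P) • x = 0
      rw [hc, mul_comm, mul_smul, hann, smul_zero]
    letI : Module S Q := htors.module
    haveI : IsScalarTower P S Q := htors.isScalarTower
    haveI : IsScalarTower R S Q := IsScalarTower.to₁₃₄ R P S Q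
    haveI : Module.Finite S Q := Module.Finite.of_restrictScalars_finite P S Q
    have hker : Ideal.span {g} ≤ q := (Ideal.span_singleton_le_iff_mem _).2 hgq
    let qS : Ideal S := q.map (Ideal.Quotient.mk (Ideal.span {g}))
    haveI : qS.IsPrime := Ideal.map_isPrime_of_surjective Ideal.Quotient.mk_surjective (by rwa [Ideal.mk_ker])
    have hqS : qS.comap (Ideal.Quotient.mk (Ideal.span {g})) = q := by
      rw [Ideal.comap_map_of_surjective _ Ideal.Quotient.mk_surjective, sup_eq_left]
      exact (Ideal.mk_ker (I := Ideal.span {g})).le.trans hker
    haveI : qS.LiesOver q := ⟨hqS.symm⟩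
    refine fp_atPrime_of_quotient g q qS ?_
    let R' := MvPolynomial (Fin m) R
    let Φ : R' →ₐ[R] S :=
      MvPolynomial.aeval fun i => Ideal.Quotient.mk (Ideal.span {g}) (algebraMap (MvPolynomial (Fin (m + 1)) R) P (z i))
    letI : Algebra R' S := Φ.toRingHom.toAlgebra
    haveI : IsScalarTower R R' S := IsScalarTower.of_algebraMap_eq fun c => (Φ.commutes c).symm
    haveI : Algebra.FiniteType R S :=
      Algebra.FiniteType.of_surjective (Ideal.Quotient.mkₐ R _) Ideal.Quotient.mk_surjective
    haveI : Algebra.FiniteType R' S := Algebra.FiniteType.of_restrictScalars_finiteType R R' S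
    haveI : Algebra.QuasiFiniteAt R' qS := hqf qS hqS
    refine fp_step (R' := R') (fun R'' _ _ _ _ _ => ih m (Nat.lt_succ_self m) (R := R) (P := R'')) Q qS ?_
    haveI := isLocalizedModule_of_surjective Ideal.Quotient.mk_surjective q qS
      (LocalizedModule.mkLinearMap qS.primeCompl Q)
    haveI : Module.Flat R (LocalizedModule q.primeCompl Q) := hflatQ
    exact Module.Flat.of_linearEquiv ((IsLocalizedModule.linearEquiv q.primeCompl
      ((LocalizedModule.mkLinearMap qS.primeCompl Q).restrictScalars P)
      (LocalizedModule.mkLinearMap q.primeCompl Q)).restrictScalars R)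

end GrothLib.RG6
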