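import Mathlib
import Groth.Agent.Lib.CAlgMisc.FlatSquare
import Groth.Agent.Lib.RG6.Main
import Groth.Agent.Lib.RG6.ContentFree

/-!
# Contents in flat modules of finite type over a valuation ring
-/

set_option autoImplicit false
set_option backward.isDefEq.respectTransparency false
set_option linter.style.haveILetI false
set_option maxHeartbeats 800000

universe u

open IsLocalRing TensorProduct

namespace GrothLib.RG6

/-- Contents exist at the points of the closed fibre. -/
def ContentAt (R A : Type u) [CommRing R] [IsLocalRing R] [CommRing A] [Algebra R A] : Prop :=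
  ∀ (M : Type u) [AddCommGroup M] [Module A M] [Module R M] [IsScalarTower R A M] [Module.Finite A M]
    (p : Ideal A) [p.IsPrime], p.comap (algebraMap R A) = maximalIdeal R →
      Module.Flat R (LocalizedModule p.primeCompl M) → ∀ x : LocalizedModule p.primeCompl M, HasContent R x

/-- The descent for localized modules. -/
theorem descend_localized {R S L : Type u} [CommRing R] [IsDomain R] [ValuationRing R] [CommRing S] [CommRing L]
    [Algebra R S] [Algebra R L] {Q M : Type u} [AddCommGroup Q] [Module S Q] [Module R Q] [IsScalarTower R S Q]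
    [AddCommGroup M] [Module L M] [Module R M] [IsScalarTower R L M] (T : Submonoid S) (U : Submonoid L)
    [Algebra (Localization T) (Localization U)] [Module.FaithfullyFlat (Localization T) (Localization U)]
    [Module (Localization T) (LocalizedModule U M)]
    [IsScalarTower (Localization T) (Localization U) (LocalizedModule U M)]
    [IsScalarTower R (Localization T) (LocalizedModule U M)] [Module.Flat R (LocalizedModule U M)]
    (h : LocalizedModule T Q →ₗ[Localization T] LocalizedModule U M) (hb : IsBaseChange (Localization U) h)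
    {x : LocalizedModule T Q} (hx : HasContent R (h x)) : HasContent R x := by
  haveI : IsScalarTower R (Localization T) (LocalizedModule T Q) := IsScalarTower.of_algebraMap_smul fun c y => by
    rw [IsScalarTower.algebraMap_apply R S (Localization T), algebraMap_smul, algebraMap_smul]
  exact HasContent.descend h hb hx

/-- **The transfer step.** -/
theorem content_step {R R' S : Type u} [CommRing R] [IsDomain R] [ValuationRing R] [CommRing R'] [CommRing S]
    [Algebra R R'] [Algebra R' S] [Algebra R S] [IsScalarTower R R' S] [Algebra.FiniteType R' S]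
    (IH : ∀ (R'' : Type u) [CommRing R''] [Algebra R' R''] [Algebra R R''] [IsScalarTower R R' R'']
      [Algebra.Etale R' R''], ContentAt R R'')
    (Q : Type u) [AddCommGroup Q] [Module S Q] [Module R Q] [IsScalarTower R S Q] [Module.Finite S Q]
    (qS : Ideal S) [qS.IsPrime] [Algebra.QuasiFiniteAt R' qS]
    (hqS : qS.comap (algebraMap R S) = maximalIdeal R)
    (hflat : Module.Flat R (LocalizedModule qS.primeCompl Q)) :
    ∀ x : LocalizedModule qS.primeCompl Q, HasContent R x := by
  classical
  obtain ⟨R'', _, _, _, P'', _, _, e, -, P', _, hP'over, hP'q, heP', -, hfinL, huniq⟩ :=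
    Algebra.exists_etale_isIdempotentElem_forall_liesOver_eq (qS.under R') qS
  letI : Algebra R R'' := ((algebraMap R' R'').comp (algebraMap R R')).toAlgebra
  haveI : IsScalarTower R R' R'' := IsScalarTower.of_algebraMap_eq' rfl
  let T := R'' ⊗[R'] S
  let L := Localization.Away e
  let incl : S →+* T := (Algebra.TensorProduct.includeRight (R := R') (A := R'') (B := S)).toRingHom
  letI : Algebra S T := incl.toAlgebra
  haveI : IsScalarTower R S L := IsScalarTower.of_algebraMap_eq fun x => by
    rw [IsScalarTower.algebraMap_apply R T L, IsScalarTower.algebraMap_apply S T L]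
    congr 1
    show algebraMap R T x = (1 : R'') ⊗ₜ[R'] algebraMap R S x
    rw [IsScalarTower.algebraMap_apply R R' S, IsScalarTower.algebraMap_apply R R' T,
      Algebra.TensorProduct.algebraMap_apply, Algebra.algebraMap_eq_smul_one (algebraMap R R' x),
      Algebra.algebraMap_eq_smul_one (A := S) (algebraMap R R' x), TensorProduct.smul_tmul]
  -- flatness
  haveI : Module.Flat R' R'' := inferInstance
  haveI : Algebra.IsPushout R' S R'' T := Algebra.IsPushout.symm inferInstance
  haveI : Module.Flat S T := Module.Flat.isBaseChange R' S R'' T (Algebra.IsPushout.out)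
  haveI : Module.Flat T L := IsLocalization.flat L (Submonoid.powers e)
  haveI : Module.Flat S L := Module.Flat.trans S T L
  -- the prime
  have hdisj : Disjoint (Submonoid.powers e : Set T) (P' : Set T) :=
    (Ideal.disjoint_powers_iff_notMem_of_isPrime e).2 heP'
  let qL : Ideal L := P'.map (algebraMap T L)
  haveI : qL.IsPrime := IsLocalization.isPrime_of_isPrime_disjoint (Submonoid.powers e) _ _ ‹_› hdisj
  haveI : qL.LiesOver P' := IsLocalization.liesOver_map_of_isPrime_disjoint (Submonoid.powers e) _ hdisj
  haveI : qL.LiesOver P'' := Ideal.LiesOver.trans qL P' P''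
  have hqLS : qL.comap (algebraMap S L) = qS := by
    rw [IsScalarTower.algebraMap_eq S T L, ← Ideal.comap_comap]
    show (qL.under T).comap incl = qS
    rw [← Ideal.over_def qL P']
    exact hP'q
  haveI : qL.LiesOver qS := ⟨hqLS.symm⟩
  have huniqL : ∀ Q' : Ideal L, Q'.IsPrime → Q'.LiesOver P'' → Q' = qL := fun Q' hQ' hover => by
    have h1 : Q'.comap (algebraMap T L) = P' := huniq _ inferInstance
      ⟨by rw [hover.over, Ideal.under_def, Ideal.under_def, Ideal.comap_comap, ← IsScalarTower.algebraMap_eq]⟩
      fun he => hQ'.ne_top (Ideal.eq_top_of_isUnit_mem _ he (IsLocalization.Away.algebraMap_isUnit e))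
    show Q' = P'.map (algebraMap T L)
    rw [← h1, IsLocalization.map_comap (Submonoid.powers e) L Q']
  -- rings and modules
  let LqL := Localization.AtPrime qL
  let Sq := Localization.AtPrime qS
  let Aq := Localization.AtPrime P''
  letI : Algebra Sq LqL := Localization.AtPrime.algebraOfLiesOver qS qL
  letI : Algebra Aq LqL := Localization.AtPrime.algebraOfLiesOver P'' qL
  let M := L ⊗[S] Q
  let X := LocalizedModule qL.primeCompl M
  let g : M →ₗ[L] X := LocalizedModule.mkLinearMap qL.primeCompl M
  letI : Module Sq X := Module.compHom X (algebraMap Sq LqL)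
  haveI : IsScalarTower Sq LqL X := IsScalarTower.of_compHom _ _ _
  haveI : IsScalarTower S Sq X := IsScalarTower.of_algebraMap_smul fun s x => by
    show algebraMap Sq LqL (algebraMap S Sq s) • x = s • x
    rw [← IsScalarTower.algebraMap_apply S Sq LqL, algebraMap_smul]
  letI : Module Aq X := Module.compHom X (algebraMap Aq LqL)
  haveI : IsScalarTower Aq LqL X := IsScalarTower.of_compHom _ _ _
  haveI : IsScalarTower R'' Aq X := IsScalarTower.of_algebraMap_smul fun s x => by
    show algebraMap Aq LqL (algebraMap R'' Aq s) • x = s • x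
    rw [← IsScalarTower.algebraMap_apply R'' Aq LqL, algebraMap_smul]
  -- X as a base change
  let f : Q →ₗ[S] M := TensorProduct.mk S L Q 1
  let fq : Q →ₗ[S] LocalizedModule qS.primeCompl Q := LocalizedModule.mkLinearMap qS.primeCompl Q
  let gf : Q →ₗ[S] X := g.restrictScalars S ∘ₗ f
  have hgf : IsBaseChange LqL gf :=
    (TensorProduct.isBaseChange S Q L).comp (IsLocalizedModule.isBaseChange qL.primeCompl LqL g)
  have hfq : IsBaseChange Sq fq := IsLocalizedModule.isBaseChange qS.primeCompl Sq fq
  let hl : LocalizedModule qS.primeCompl Q →ₗ[Sq] X := hfq.lift gf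
  have hhl : IsBaseChange LqL hl := hfq.of_comp (by rw [hfq.lift_comp]; exact hgf)
  -- flatness of X over R
  haveI : Module.Flat S LqL := Module.Flat.trans S L LqL
  haveI : Module.Flat Sq LqL := (Module.flat_iff_of_isLocalization Sq qS.primeCompl LqL).2 inferInstance
  haveI : Module.Flat R (LocalizedModule qS.primeCompl Q) := hflat
  haveI : Module.Flat R (LqL ⊗[Sq] LocalizedModule qS.primeCompl Q) :=
    GrothLib.CAlgMisc.flat_tensor_left R Sq LqL _
  haveI hXflat : Module.Flat R X := Module.Flat.of_linearEquiv (hhl.equiv.restrictScalars R).symm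
  -- apply the induction hypothesis
  haveI : Module.Finite R'' M := Module.Finite.trans L M
  haveI hg : IsLocalizedModule P''.primeCompl (g.restrictScalars R'') :=
    isLocalizedModule_of_unique (M := M) (M' := X) P'' qL huniqL g
  let eX : LocalizedModule P''.primeCompl M ≃ₗ[R''] X :=
    IsLocalizedModule.linearEquiv P''.primeCompl (LocalizedModule.mkLinearMap P''.primeCompl M)
      (g.restrictScalars R'')
  have hP'' : P''.comap (algebraMap R R'') = maximalIdeal R := by
    have h1 : qL.comap (algebraMap R L) = maximalIdeal R := by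
      rw [IsScalarTower.algebraMap_eq R S L, ← Ideal.comap_comap, hqLS, hqS]
    rw [qL.over_def P'', Ideal.under_def, Ideal.comap_comap, ← IsScalarTower.algebraMap_eq, h1]
  intro x
  haveI : Module.FaithfullyFlat Sq LqL := Module.FaithfullyFlat.of_flat_of_isLocalHom
  haveI : IsScalarTower R Sq X := IsScalarTower.of_algebraMap_smul fun c y => by
    rw [IsScalarTower.algebraMap_apply R S Sq, algebraMap_smul, algebraMap_smul]
  refine descend_localized (R := R) qS.primeCompl qL.primeCompl hl hhl ?_
  exact HasContent.of_equiv (eX.symm.restrictScalars R)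
    (IH R'' M P'' hP'' (Module.Flat.of_linearEquiv (eX.restrictScalars R)) _)

/-- Universally injective maps are injective modulo any ideal. -/
theorem mem_smul_of_univInj {R F N : Type u} [CommRing R] [AddCommGroup F] [Module R F] [AddCommGroup N]
    [Module R N] (f : F →ₗ[R] N) (hf : FlatCA.UnivInj R f) (I : Ideal R) {d : F}
    (hd : f d ∈ I • (⊤ : Submodule R N)) : d ∈ I • (⊤ : Submodule R F) := by
  have h2 : f.lTensor (R ⧸ I) (Ideal.Quotient.mk I 1 ⊗ₜ[R] d) = 0 := by
    apply (TensorProduct.quotTensorEquivQuotSMul N I).injective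
    rw [map_zero, LinearMap.lTensor_tmul, TensorProduct.quotTensorEquivQuotSMul_mk_tmul, one_smul,
      Submodule.Quotient.mk_eq_zero]
    exact hd
  have h3 : Ideal.Quotient.mk I 1 ⊗ₜ[R] d = 0 := hf (R ⧸ I) (h2.trans (map_zero _).symm)
  have h4 := congrArg (TensorProduct.quotTensorEquivQuotSMul F I) h3
  rwa [map_zero, TensorProduct.quotTensorEquivQuotSMul_mk_tmul, one_smul, Submodule.Quotient.mk_eq_zero] at h4

/-- **Contents for algebras étale over affine space.** -/
theorem content_etale : ∀ (n : ℕ) {R : Type u} [CommRing R] [IsDomain R] [ValuationRing R] {P : Type u} [CommRing P]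
    [Algebra R P] [Algebra (MvPolynomial (Fin n) R) P] [IsScalarTower R (MvPolynomial (Fin n) R) P]
    [Algebra.Etale (MvPolynomial (Fin n) R) P], ContentAt R P := by
  intro n
  induction n using Nat.strong_induction_on with
  | _ n ih =>
    intro R _ _ _ P _ _ _ _ _ N _ _ _ _ _ q _ hqm hflat x
    classical
    let Qn := MvPolynomial (Fin n) R
    haveI : Algebra.FinitePresentation R P := Algebra.FinitePresentation.trans R Qn P
    haveI : Module.Flat Qn P := inferInstance
    haveI : Module.Flat R P := Module.Flat.trans R Qn P
    let 𝔭 := q.comap (algebraMap R P)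
    obtain ⟨p, _, hpq, hp1, hp, hdrop⟩ := exists_generic_prime (n := n) 𝔭 q rfl
    obtain ⟨r, α, hflatQ, hUI, hinj, hg⟩ := exists_generic (N := N) 𝔭 q p hpq rfl hp1 hp
      (fun p' _ => isReduced_fiber (n := n) p') hflat
    haveI : Module.Flat R (LocalizedModule q.primeCompl (N ⧸ LinearMap.range α)) := hflatQ
    refine HasContent.of_exact ((LocalizedModule.map q.primeCompl α).restrictScalars R)
      ((LocalizedModule.map q.primeCompl (LinearMap.range α).mkQ).restrictScalars R)
      (LocalizedModule.map_exact q.primeCompl _ _ (LinearMap.exact_map_mkQ_range α))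
      (LocalizedModule.map_surjective q.primeCompl _ (Submodule.mkQ_surjective _))
      (fun d hd => mem_smul_of_univInj _ hUI _ hd)
      (hasContent_free (n := n) q p hpq hqm (hp1.trans hqm)
        (fun a ha => by rw [← hqm]; exact hp a ha) r) ?_ x
    obtain ⟨k, s, hs⟩ := Module.Finite.exists_fin (R := P) (M := N)
    choose gs hgs hgs' using fun i => hg (s i)
    let g := ∏ i, gs i
    have hgp : g ∉ p := fun hmem => by
      obtain ⟨i, -, hi⟩ := ‹p.IsPrime›.prod_mem_iff.1 hmem
      exact hgs i hi
    have hann : ∀ x : N ⧸ LinearMap.range α, g • x = 0 := fun x => by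
      obtain ⟨x, rfl⟩ := Submodule.mkQ_surjective _ x
      rw [← map_smul, Submodule.mkQ_apply, Submodule.Quotient.mk_eq_zero]
      have hx : x ∈ Submodule.span P (Set.range s) := hs ▸ trivial
      induction hx using Submodule.span_induction with
      | mem y hy =>
        obtain ⟨i, rfl⟩ := hy
        show (∏ j, gs j) • s i ∈ LinearMap.range α
        rw [← Finset.prod_erase_mul _ gs (Finset.mem_univ i), mul_smul]
        exact Submodule.smul_mem _ _ (hgs' i)
      | zero => rw [smul_zero]; exact zero_mem _
      | add a b _ _ ha hb => rw [smul_add]; exact add_mem ha hb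
      | smul c a _ ha => rw [smul_comm]; exact Submodule.smul_mem _ c ha
    by_cases hgq : g ∈ q
    swap
    · haveI : Subsingleton (LocalizedModule q.primeCompl (N ⧸ LinearMap.range α)) := by
        rw [LocalizedModule.subsingleton_iff]
        exact fun x => ⟨g, hgq, hann x⟩
      exact fun y => ⟨0, y, Subsingleton.elim _ _, Or.inl rfl⟩
    obtain ⟨m, rfl, z, hqf⟩ := hdrop g hgp hgq
    let S := P ⧸ Ideal.span {g}
    let Q := N ⧸ LinearMap.range α
    have htors : Module.IsTorsionBySet P Q (Ideal.span {g} : Ideal P) := fun x a => by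
      obtain ⟨c, hc⟩ := Ideal.mem_span_singleton.1 a.2
      show (a : P) • x = 0
      rw [hc, mul_comm, mul_smul, hann, smul_zero]
    letI : Module S Q := htors.module
    haveI : IsScalarTower P S Q := htors.isScalarTower
    haveI : IsScalarTower R S Q := IsScalarTower.to₁₃₄ R P S Q
    haveI : Module.Finite S Q := Module.Finite.of_restrictScalars_finite P S Q
    have hker : Ideal.span {g} ≤ q := (Ideal.span_singleton_le_iff_mem _).2 hgq
    let qS : Ideal S := q.map (Ideal.Quotient.mk (Ideal.span {g}))
    haveI : qS.IsPrime := Ideal.map_isPrime_of_surjective Ideal.Quotient.mk_surjective (by rwa [Ideal.mk_ker])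
    have hqS : qS.comap (Ideal.Quotient.mk (Ideal.span {g})) = q := by
      rw [Ideal.comap_map_of_surjective _ Ideal.Quotient.mk_surjective, sup_eq_left]
      exact (Ideal.mk_ker (I := Ideal.span {g})).le.trans hker
    haveI : qS.LiesOver q := ⟨hqS.symm⟩
    let R' := MvPolynomial (Fin m) R
    let Φ : R' →ₐ[R] S :=
      MvPolynomial.aeval fun i => Ideal.Quotient.mk (Ideal.span {g}) (algebraMap (MvPolynomial (Fin (m + 1)) R) P (z i))
    letI : Algebra R' S := Φ.toRingHom.toAlgebra
    haveI : IsScalarTower R R' S := IsScalarTower.of_algebraMap_eq fun c => (Φ.commutes c).symm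
    haveI : Algebra.FiniteType R S :=
      Algebra.FiniteType.of_surjective (Ideal.Quotient.mkₐ R _) Ideal.Quotient.mk_surjective
    haveI : Algebra.FiniteType R' S := Algebra.FiniteType.of_restrictScalars_finiteType R R' S
    haveI : Algebra.QuasiFiniteAt R' qS := hqf qS hqS
    haveI := isLocalizedModule_of_surjective Ideal.Quotient.mk_surjective q qS
      (LocalizedModule.mkLinearMap qS.primeCompl Q)
    let eQ := ((IsLocalizedModule.linearEquiv q.primeCompl
      (LocalizedModule.mkLinearMap q.primeCompl Q)
      ((LocalizedModule.mkLinearMap qS.primeCompl Q).restrictScalars P)).restrictScalars R)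
    have hqSR : qS.comap (algebraMap R S) = maximalIdeal R := by
      rw [IsScalarTower.algebraMap_eq R P S, ← Ideal.comap_comap]
      exact (congrArg (Ideal.comap (algebraMap R P)) hqS).trans hqm
    intro y
    exact HasContent.of_equiv eQ (content_step (R' := R')
      (fun R'' _ _ _ _ _ => ih m (Nat.lt_succ_self m) (R := R) (P := R'')) Q qS hqSR
      (Module.Flat.of_linearEquiv eQ.symm) _)

/-- **Contents over a valuation ring for local algebras essentially of finite type.** -/
theorem hasContent_essFiniteType {A B : Type u} [CommRing A] [IsDomain A] [ValuationRing A] [CommRing B]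
    [IsLocalRing B] [Algebra A B] [IsLocalHom (algebraMap A B)] [Algebra.EssFiniteType A B]
    (N : Type u) [AddCommGroup N] [Module B N] [Module A N] [IsScalarTower A B N] [Module.Finite B N]
    [Module.Flat A N] (x : N) : HasContent A x := by
  classical
  let S₀ := Algebra.EssFiniteType.subalgebra A B
  obtain ⟨n, π, hπ⟩ := Algebra.FiniteType.iff_quotient_mvPolynomial''.1 (inferInstance : Algebra.FiniteType A S₀)
  let P := MvPolynomial (Fin n) A
  let f : P →ₐ[A] B := S₀.val.comp π
  letI : Algebra P B := f.toRingHom.toAlgebra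
  haveI : IsScalarTower A P B := IsScalarTower.of_algebraMap_eq fun c => (f.commutes c).symm
  letI : Module P N := Module.compHom N f.toRingHom
  haveI : IsScalarTower P B N := IsScalarTower.of_compHom _ _ _
  haveI : IsScalarTower A P N := IsScalarTower.of_algebraMap_smul fun c y => by
    show f (algebraMap A P c) • y = c • y
    rw [f.commutes, algebraMap_smul]
  have hden : ∀ b : B, ∃ t c : P, IsUnit (f t) ∧ f t * b = f c := fun b => by
    obtain ⟨⟨c, t⟩, h⟩ := IsLocalization.surj (Algebra.EssFiniteType.submonoid A B) b
    obtain ⟨c', hc⟩ := hπ c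
    obtain ⟨t', ht⟩ := hπ (t : S₀)
    refine ⟨t', c', ?_, ?_⟩
    · show IsUnit ((π t' : S₀) : B)
      rw [ht]
      exact t.2
    · show ((π t' : S₀) : B) * b = ((π c' : S₀) : B)
      rw [ht, hc, mul_comm]
      exact h
  let q : Ideal P := (maximalIdeal B).comap f.toRingHom
  have hunit : ∀ t : P, t ∉ q → IsUnit (f t) := fun t ht => notMem_maximalIdeal.1 ht
  obtain ⟨G, hG⟩ := Module.Finite.fg_top (R := B) (M := N)
  let N₀ : Submodule P N := Submodule.span P (G : Set N)
  haveI : Module.Finite P N₀ := Module.Finite.iff_fg.2 (Submodule.fg_span G.finite_toSet)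
  have hclear : ∀ y : N, ∃ t : P, t ∉ q ∧ t • y ∈ N₀ := fun y => by
    have hy : y ∈ Submodule.span B (G : Set N) := hG.ge trivial
    induction hy using Submodule.span_induction with
    | mem z hz => exact ⟨1, fun h => Ideal.IsPrime.one_notMem inferInstance h, by rw [one_smul]; exact Submodule.subset_span hz⟩
    | zero => exact ⟨1, fun h => Ideal.IsPrime.one_notMem inferInstance h, by rw [smul_zero]; exact zero_mem _⟩
    | add z w _ _ hz hw =>
      obtain ⟨t, ht, htz⟩ := hz
      obtain ⟨t', ht', htw⟩ := hw
      refine ⟨t * t', fun h => ((inferInstance : q.IsPrime).mem_or_mem h).elim ht ht', ?_⟩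
      rw [smul_add]
      exact add_mem (by rw [mul_comm, mul_smul]; exact Submodule.smul_mem _ _ htz)
        (by rw [mul_smul]; exact Submodule.smul_mem _ _ htw)
    | smul b z _ hz =>
      obtain ⟨t, ht, htz⟩ := hz
      obtain ⟨t', c, ht', hc⟩ := hden b
      refine ⟨t * t', fun h => ((inferInstance : q.IsPrime).mem_or_mem h).elim ht
        (fun h' => (mem_maximalIdeal _).1 h' ht'), ?_⟩
      have : (t * t') • b • z = c • t • z := by
        show f (t * t') • b • z = f c • f t • z
        rw [smul_smul, smul_smul, map_mul, mul_assoc, hc, mul_comm]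
      rw [this]
      exact Submodule.smul_mem _ _ htz
  haveI hloc : IsLocalizedModule q.primeCompl N₀.subtype := by
    have hb : ∀ t : q.primeCompl, Function.Bijective fun y : N => (t : P) • y := fun t => by
      obtain ⟨u, hu⟩ := hunit t t.2
      refine ⟨fun a b h => (smul_left_cancel u (x := a) (y := b) ?_), fun y => ⟨u⁻¹ • y, ?_⟩⟩
      · rw [Units.smul_def, Units.smul_def, hu]; exact h
      · show f t • u⁻¹ • y = y
        rw [show f t = (u : B) from hu.symm, Units.smul_def, smul_smul, Units.mul_inv, one_smul]
    refine ⟨fun t => (Module.End.isUnit_iff _).2 (hb t), fun y => ?_, fun {a b} h => ⟨1, ?_⟩⟩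
    · obtain ⟨t, ht, hty⟩ := hclear y
      exact ⟨⟨⟨_, hty⟩, ⟨t, ht⟩⟩, rfl⟩
    · rw [Subtype.ext h]
  let e := (IsLocalizedModule.linearEquiv q.primeCompl N₀.subtype
    (LocalizedModule.mkLinearMap q.primeCompl N₀)).restrictScalars A
  have hq : q.comap (algebraMap A P) = maximalIdeal A := by
    show ((maximalIdeal B).comap f.toRingHom).comap (algebraMap A P) = _
    rw [Ideal.comap_comap]
    have hh : f.toRingHom.comp (algebraMap A P) = algebraMap A B := RingHom.ext fun c => f.commutes c
    rw [hh]
    exact ((IsLocalRing.local_hom_TFAE (algebraMap A B)).out 0 4).1 ‹_›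
  exact HasContent.of_equiv e (content_etale n (R := A) (P := P) N₀ q hq (Module.Flat.of_linearEquiv e.symm) _)

end GrothLib.RG6
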