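import Groth.Agent.Lib.RG6.Generic
import Groth.Agent.Lib.RG6.Dim
import Groth.Agent.Lib.RG6.WeakAss
import Groth.Agent.Lib.RG6.Crit
import Groth.Agent.Lib.FEt21.Normal

/-!
# The case of a point of height one in the fibre
-/

set_option autoImplicit false
set_option backward.isDefEq.respectTransparency false
set_option linter.style.haveILetI false
set_option maxHeartbeats 800000

universe u

open TensorProduct IsLocalRing

namespace GrothLib.RG6

/-- In a normal local domain, a colon ideal equal to the maximal ideal makes it principal. -/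
theorem principal_of_colon {D : Type u} [CommRing D] [IsDomain D] [IsLocalRing D] [IsNoetherianRing D]
    [IsIntegrallyClosed D] (a b : D) (hb : b ≠ 0) (hab : ¬ b ∣ a) (h : ∀ s ∈ maximalIdeal D, b ∣ s * a) :
    ∃ π : D, maximalIdeal D = Ideal.span {π} := by
  by_cases hex : ∃ s₀ ∈ maximalIdeal D, ∃ c, IsUnit c ∧ s₀ * a = b * c
  · obtain ⟨s₀, hs₀, c, hc, e⟩ := hex
    refine ⟨s₀, le_antisymm (fun s hs => ?_) ((Ideal.span_singleton_le_iff_mem _).2 hs₀)⟩
    obtain ⟨c', e'⟩ := h s hs
    have h1 : s * c = s₀ * c' := mul_left_cancel₀ hb (by linear_combination s₀ * e' - s * e)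
    exact (Ideal.mul_unit_mem_iff_mem _ hc).1 (h1 ▸ Ideal.mul_mem_right _ _ (Ideal.mem_span_singleton_self s₀))
  · push Not at hex
    exfalso
    by_cases hm : maximalIdeal D = ⊥
    · have hbu : IsUnit b := by
        by_contra hbu
        have hbm : b ∈ maximalIdeal D := hbu
        rw [hm, Ideal.mem_bot] at hbm
        exact hb hbm
      exact hab hbu.dvd
    let K := FractionRing D
    have hbK : algebraMap D K b ≠ 0 := (map_ne_zero_iff _ (IsFractionRing.injective D K)).2 hb
    let x : K := algebraMap D K a / algebraMap D K b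
    let I : Submodule D K := Submodule.map (Algebra.linearMap D K) (maximalIdeal D)
    have hI : I ≠ ⊥ := fun h0 => hm <| le_bot_iff.1 fun s hs => by
      have hmem : algebraMap D K s ∈ I := ⟨s, hs, rfl⟩
      rw [h0, Submodule.mem_bot] at hmem
      rw [Ideal.mem_bot]
      exact (map_eq_zero_iff _ (IsFractionRing.injective D K)).1 hmem
    have hIfg : I.FG := Submodule.FG.map _ (IsNoetherian.noetherian _)
    have hxI : ∀ n ∈ I, x • n ∈ I := by
      rintro _ ⟨s, hs, rfl⟩
      obtain ⟨c, e⟩ := h s hs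
      refine ⟨c, (not_not.1 fun hc => hex s hs c (not_not.1 hc) e : c ∈ maximalIdeal D), ?_⟩
      show algebraMap D K c = x * algebraMap D K s
      have e' := congrArg (algebraMap D K) e
      rw [map_mul, map_mul] at e'
      rw [show x * algebraMap D K s = algebraMap D K a * algebraMap D K s / algebraMap D K b from div_mul_eq_mul_div _ _ _,
        eq_div_iff hbK]
      linear_combination -e'
    obtain ⟨y, hy⟩ := IsIntegrallyClosed.isIntegral_iff.1 (isIntegral_of_smul_mem_submodule I hI hIfg x hxI)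
    refine hab ⟨y, IsFractionRing.injective D K ?_⟩
    rw [map_mul, hy]
    exact (mul_div_cancel₀ _ hbK).symm

variable {R P : Type u} [CommRing R] [CommRing P] [Algebra R P] {n : ℕ}
  [Algebra (MvPolynomial (Fin n) R) P] [IsScalarTower R (MvPolynomial (Fin n) R) P]
  [Algebra.Etale (MvPolynomial (Fin n) R) P]

include n in
/-- **The height one case.** -/
theorem flat_of_height_one {N : Type u} [AddCommGroup N] [Module P N] [Module R N] [IsScalarTower R P N]
    [Module.Finite P N] (q p : Ideal P) [q.IsPrime] [p.IsPrime] (hpq : p ≤ q)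
    (hp1 : p.comap (algebraMap R P) = q.comap (algebraMap R P))
    (hp : ∀ a ∈ p, ∃ s ∉ q, s * a ∈ (q.comap (algebraMap R P)).map (algebraMap R P))
    (hflat : Module.Flat R (LocalizedModule p.primeCompl N)) (hnot : NotAssFib R N q)
    {r : ℕ} (α : (Fin r → P) →ₗ[P] N) (hα : ∀ f, FibZero R q (α f) → ∀ i, f i ∈ p) (w : N)
    (hw : ∀ s ∈ q, ∃ u ∉ q, ∃ f, FibZero R q (u • s • w - α f))
    (hw' : ∀ u ∉ q, ∀ f, ¬ FibZero R q (u • w - α f)) :
    Module.Flat R (LocalizedModule q.primeCompl N) := by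
  classical
  haveI : Algebra.FinitePresentation R P := Algebra.FinitePresentation.trans R (MvPolynomial (Fin n) R) P
  haveI : Module.Flat (MvPolynomial (Fin n) R) P := inferInstance
  haveI : Module.Flat R P := Module.Flat.trans R (MvPolynomial (Fin n) R) P
  obtain ⟨𝔭, h𝔭⟩ : ∃ 𝔭, 𝔭 = q.comap (algebraMap R P) := ⟨_, rfl⟩
  haveI : 𝔭.IsPrime := h𝔭 ▸ Ideal.IsPrime.comap _
  haveI : q.LiesOver 𝔭 := ⟨h𝔭⟩
  let F := 𝔭.Fiber P
  letI : Algebra (MvPolynomial (Fin n) 𝔭.ResidueField) F := (fibHom (P := P) (n := n) 𝔭).toRingHom.toAlgebra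
  haveI := etale_fibHom (P := P) (n := n) 𝔭
  haveI : IsIntegrallyClosed (MvPolynomial (Fin n) 𝔭.ResidueField) :=
    GrothLib.JacobsonDescent.isIntegrallyClosed_mvPolynomial _ _
  haveI : IsNoetherianRing F := Algebra.FiniteType.isNoetherianRing 𝔭.ResidueField F
  let qb : Ideal F := FlatCA.fiberIdeal 𝔭 q
  haveI : qb.IsPrime := isPrime_fiberIdeal 𝔭 q
  let D := Localization.AtPrime qb
  obtain ⟨hDdom, hDic⟩ := GrothLib.FEt21.isNormal_localization_of_etale (MvPolynomial (Fin n) 𝔭.ResidueField) qb D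
  haveI := hDdom
  haveI := hDic
  haveI : IsNoetherianRing D := IsLocalization.isNoetherianRing qb.primeCompl D inferInstance
  let ι : P →+* F := GrothLib.WeakAssFib.toFib 𝔭
  let τ : P →+* D := (algebraMap F D).comp ι
  have hqb : ∀ s, ι s ∈ qb ↔ s ∈ q := fun s => SetLike.ext_iff.1 (GrothLib.WeakAssFib.comap_fiberIdeal 𝔭 q) s
  have hunitτ : ∀ s ∉ q, IsUnit (τ s) := fun s hs =>
    IsLocalization.map_units D (⟨ι s, fun h => hs ((hqb s).1 h)⟩ : qb.primeCompl)
  have hcl : ∀ x : F, ∃ r : R, r ∉ 𝔭 ∧ ∃ s : P, algebraMap R F r * x = ι s := fun x => by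
    obtain ⟨r, hr, s, h⟩ := Ideal.Fiber.exists_smul_eq_one_tmul 𝔭 x
    exact ⟨r, hr, s, by rw [← Algebra.smul_def]; exact h⟩
  have hι𝔭 : ∀ a ∈ 𝔭.map (algebraMap R P), ι a = 0 := fun a ha => by
    have hle : 𝔭.map (algebraMap R P) ≤ RingHom.ker ι := Ideal.map_le_iff_le_comap.2 fun c hc => by
      show ι (algebraMap R P c) = 0
      rw [show ι (algebraMap R P c) = algebraMap R F c from GrothLib.WeakAssFib.toFib_algebraMap 𝔭 c,
        IsScalarTower.algebraMap_apply R 𝔭.ResidueField F, Ideal.algebraMap_residueField_eq_zero.2 hc, map_zero]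
    exact hle ha
  have hτp : ∀ a, τ a = 0 ↔ a ∈ p := fun a => by
    constructor
    · intro ha
      obtain ⟨⟨x, hx⟩, hxa⟩ := (IsLocalization.map_eq_zero_iff qb.primeCompl D _).1 ha
      obtain ⟨r, hr, s, hs⟩ := hcl x
      have hsq : s ∉ q := fun h => hx (by
        have h1 := (hqb s).2 h
        rw [← hs] at h1
        exact (Ideal.unit_mul_mem_iff_mem _ (GrothLib.WeakAssFib.isUnit_toFib 𝔭 hr)).1 h1)
      have h0 : ι (s * a) = 0 := by rw [map_mul, ← hs, mul_assoc, show x * ι a = 0 from hxa, mul_zero]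
      have h0' : (s * a) ⊗ₜ[R] (1 : 𝔭.ResidueField) = 0 := by
        rw [← TensorProduct.comm_tmul]
        exact (congrArg (TensorProduct.comm R _ _) h0).trans (map_zero _)
      obtain ⟨u, hu, hmem⟩ := GrothLib.WeakAssFib.exists_smul_mem_of_tmul_one_eq_zero 𝔭 h0'
      have hmem' : u • (s * a) ∈ p := by
        refine Submodule.smul_induction_on hmem (fun c hc m _ => ?_) fun x y hx hy => add_mem hx hy
        rw [Algebra.smul_def]
        refine p.mul_mem_right m ?_
        show c ∈ p.comap (algebraMap R P)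
        rw [hp1, ← h𝔭]
        exact hc
      rw [Algebra.smul_def] at hmem'
      rcases ‹p.IsPrime›.mem_or_mem hmem' with h | h
      · exact absurd (show u ∈ 𝔭 from h𝔭.symm ▸ hp1 ▸ h) hu
      · exact (‹p.IsPrime›.mem_or_mem h).resolve_left fun h' => hsq (hpq h')
    · intro ha
      obtain ⟨s, hs, hsa⟩ := hp a ha
      rw [← h𝔭] at hsa
      have h0 : τ (s * a) = 0 := by rw [RingHom.comp_apply, hι𝔭 _ hsa, map_zero]
      rw [map_mul] at h0
      exact (hunitτ s hs).mul_right_eq_zero.1 h0
  have hsurjτ : ∀ x : D, ∃ a, ∃ t ∉ q, x * τ t = τ a := fun x => by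
    obtain ⟨⟨y, s⟩, hys⟩ := IsLocalization.surj qb.primeCompl x
    obtain ⟨r₁, hr₁, a, ha⟩ := hcl y
    obtain ⟨r₂, hr₂, t, ht⟩ := hcl s
    have htq : t ∉ q := fun h => s.2 (by
      have h1 := (hqb t).2 h
      rw [← ht] at h1
      exact (Ideal.unit_mul_mem_iff_mem _ (GrothLib.WeakAssFib.isUnit_toFib 𝔭 hr₂)).1 h1)
    refine ⟨algebraMap R P r₂ * a, algebraMap R P r₁ * t,
      fun h => (‹q.IsPrime›.mem_or_mem h).elim (fun h' => hr₁ (h𝔭.symm ▸ h')) htq, ?_⟩
    simp only [τ, RingHom.comp_apply, map_mul]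
    rw [show ι (algebraMap R P r₁) = algebraMap R F r₁ from GrothLib.WeakAssFib.toFib_algebraMap 𝔭 r₁,
      show ι (algebraMap R P r₂) = algebraMap R F r₂ from GrothLib.WeakAssFib.toFib_algebraMap 𝔭 r₂,
      ← ha, ← ht, map_mul, map_mul, show algebraMap F D y = x * algebraMap F D s from hys.symm]
    ring
  have hdvd : ∀ b a : P, τ b ∣ τ a → ∃ t ∉ q, ∃ c, t * a - b * c ∈ p := fun b a ⟨x, hx⟩ => by
    obtain ⟨c, t, ht, hc⟩ := hsurjτ x
    refine ⟨t, ht, c, (hτp _).1 ?_⟩
    rw [map_sub, map_mul, map_mul, hx, sub_eq_zero, ← hc]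
    ring
  have hpZ : ∀ (f : P) (m : N), f ∈ p → FibZero R q (f • m) := fun f m hf => by
    obtain ⟨s, hs, hsf⟩ := hp f hf
    exact ⟨s, hs, by rw [smul_smul]; exact smul_mem_of_mem_map _ hsf m⟩
  have hvecZ : ∀ {k : ℕ} (β : (Fin k → P) →ₗ[P] N) (f : Fin k → P), (∀ i, f i ∈ p) → FibZero R q (β f) := by
    intro k β f hf
    rw [← Finset.univ_sum_single f, map_sum]
    have hZ : ∀ i ∈ (Finset.univ : Finset (Fin k)), β (Pi.single i (f i)) ∈ fibKer R N q := fun i _ => by
      rw [show (Pi.single i (f i) : Fin k → P) = f i • Pi.single i (1 : P) by rw [← Pi.single_smul, smul_eq_mul, mul_one],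
        map_smul]
      exact hpZ _ _ (hf i)
    exact Submodule.sum_mem (fibKer R N q) hZ
  -- a regular element
  obtain ⟨b, hbq, hb⟩ : ∃ b ∈ q, ∀ m : N, FibZero R q (b • m) → FibZero R q m := by
    letI : Algebra P F := Algebra.TensorProduct.rightAlgebra
    haveI : Module.Finite F (FlatCA.fiberMod 𝔭 P N) := inferInstanceAs (Module.Finite F (F ⊗[P] N))
    let V := LocalizedModule qb.primeCompl (FlatCA.fiberMod 𝔭 P N)
    haveI : Module.Finite D V :=
      Module.Finite.of_isLocalizedModule qb.primeCompl (LocalizedModule.mkLinearMap qb.primeCompl (FlatCA.fiberMod 𝔭 P N))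
    obtain ⟨e, he⟩ := GrothLib.WeakAssFib.exists_fibreEquiv 𝔭 (S := P) N
    let m₁ : N → V := fun m => LocalizedModule.mkLinearMap qb.primeCompl _ (e (m ⊗ₜ[R] (1 : 𝔭.ResidueField)))
    have hsmul : ∀ (s : P) m, τ s • m₁ m = m₁ (s • m) := fun s m => by
      show algebraMap F D (ι s) • LocalizedModule.mkLinearMap qb.primeCompl _ (e (m ⊗ₜ[R] 1)) = _
      rw [algebraMap_smul, ← map_smul, show ι s = GrothLib.WeakAssFib.toFib 𝔭 s from rfl, ← he, smul_tmul']
    have hzero : ∀ m, m₁ m = 0 → FibZero R q m := fun m hm => by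
      obtain ⟨⟨x, hx⟩, hxm⟩ :=
        (IsLocalizedModule.eq_zero_iff qb.primeCompl (LocalizedModule.mkLinearMap qb.primeCompl _)).1 hm
      obtain ⟨r, hr, s, hs⟩ := hcl x
      have hsq : s ∉ q := fun h => hx (by
        have h1 := (hqb s).2 h
        rw [← hs] at h1
        exact (Ideal.unit_mul_mem_iff_mem _ (GrothLib.WeakAssFib.isUnit_toFib 𝔭 hr)).1 h1)
      have h0 : (s • m) ⊗ₜ[R] (1 : 𝔭.ResidueField) = 0 := by
        rw [← smul_tmul', ← e.map_eq_zero_iff, he, show GrothLib.WeakAssFib.toFib 𝔭 s = ι s from rfl, ← hs, mul_smul,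
          show x • e (m ⊗ₜ[R] 1) = 0 from hxm, smul_zero]
      obtain ⟨u, hu, hmem⟩ := GrothLib.WeakAssFib.exists_smul_mem_of_tmul_one_eq_zero 𝔭 h0
      refine ⟨algebraMap R P u * s, fun h => (‹q.IsPrime›.mem_or_mem h).elim (fun h' => hu (h𝔭.symm ▸ h')) hsq, ?_⟩
      rw [mul_smul, algebraMap_smul, ← h𝔭]
      exact hmem
    have hone : ∀ m, FibZero R q m → m₁ m = 0 := fun m ⟨u, hu, hum⟩ => by
      have h1 : m₁ (u • m) = 0 := by
        show LocalizedModule.mkLinearMap qb.primeCompl _ (e ((u • m) ⊗ₜ[R] (1 : 𝔭.ResidueField))) = 0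
        rw [← h𝔭] at hum
        rw [tmul_one_eq_zero_of_mem 𝔭 hum, map_zero, map_zero]
      rw [← hsmul] at h1
      rwa [(hunitτ u hu).smul_eq_zero] at h1
    obtain ⟨b, hbq, hb⟩ := GrothLib.FibreFlat.exists_regular_of_torsion (B := P) (B' := D) (N := V) q fun z hz => by
      obtain ⟨⟨y, x⟩, hy⟩ :=
        IsLocalizedModule.surj qb.primeCompl (LocalizedModule.mkLinearMap qb.primeCompl (FlatCA.fiberMod 𝔭 P N)) z
      obtain ⟨y, rfl⟩ := e.surjective y
      obtain ⟨r, hr, m, hm⟩ := GrothLib.WeakAssFib.exists_smul_eq_tmul_one 𝔭 y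
      have hzm : (τ (algebraMap R P r) * algebraMap F D (x : F)) • z = m₁ m := by
        rw [mul_smul, algebraMap_smul, show (x : F) • z = _ from hy]
        show algebraMap F D (ι (algebraMap R P r)) • LocalizedModule.mkLinearMap qb.primeCompl _ (e y) = m₁ m
        rw [algebraMap_smul, ← map_smul, show ι (algebraMap R P r) = GrothLib.WeakAssFib.toFib 𝔭 (algebraMap R P r) from rfl,
          ← he, algebraMap_smul, hm]
      have hu : IsUnit (τ (algebraMap R P r) * algebraMap F D (x : F)) :=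
        (hunitτ _ fun h => hr (h𝔭.symm ▸ h)).mul (IsLocalization.map_units D x)
      have h0 : FibZero R q m := hnot m fun s hs => hzero _ (by rw [← hsmul, ← hzm, smul_comm]; rw [show τ s • z = 0 from hz s hs, smul_zero])
      rw [← hu.smul_eq_zero, hzm, hone m h0]
    exact ⟨b, hbq, fun m hm => hzero m (hb _ (by show τ b • m₁ m = 0; rw [hsmul, hone _ hm]))⟩
  -- the colon ideal
  obtain ⟨u, hu, f, hf⟩ := hw b hbq
  have hbp : b ∉ p := fun hbp => hw' 1 (fun h => ‹q.IsPrime›.ne_top ((Ideal.eq_top_iff_one _).2 h)) 0 (by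
    rw [map_zero, sub_zero, one_smul]
    exact hb w (hpZ b w hbp))
  have hb0 : τ b ≠ 0 := fun h => hbp ((hτp b).1 h)
  obtain ⟨i, hi⟩ : ∃ i, ¬ τ b ∣ τ (f i) := by
    by_contra hall
    push Not at hall
    choose t ht c hc using fun i => hdvd b (f i) (hall i)
    let T := ∏ i, t i
    have hT : T ∉ q := fun h => by
      obtain ⟨j, -, hj⟩ := ‹q.IsPrime›.prod_mem_iff.1 h
      exact ht j hj
    let y : Fin r → P := fun i => (∏ j ∈ Finset.univ.erase i, t j) * c i
    have h1 : ∀ i, (T • f - b • y) i ∈ p := fun i => by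
      simp only [Pi.sub_apply, Pi.smul_apply, smul_eq_mul, y]
      rw [show T = t i * ∏ j ∈ Finset.univ.erase i, t j from (Finset.mul_prod_erase _ t (Finset.mem_univ i)).symm,
        show t i * (∏ j ∈ Finset.univ.erase i, t j) * f i - b * ((∏ j ∈ Finset.univ.erase i, t j) * c i) =
          (∏ j ∈ Finset.univ.erase i, t j) * (t i * f i - b * c i) by ring]
      exact p.mul_mem_left _ (hc i)
    have h2 : FibZero R q (b • ((T * u) • w - α y)) := by
      have h3 := (hf.smul T).add (hvecZ α _ h1)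
      convert h3 using 1
      rw [map_sub, map_smul, map_smul, smul_sub, smul_sub, mul_smul, smul_comm b T, smul_comm b u]
      abel
    exact hw' (T * u) (fun h => (‹q.IsPrime›.mem_or_mem h).elim hT hu) y (hb _ h2)
  have hcolon : ∀ x ∈ maximalIdeal D, τ b ∣ x * τ (f i) := by
    intro x hx
    obtain ⟨s, t, ht, hst⟩ := hsurjτ x
    have hs : s ∈ q := by
      by_contra hs
      exact hx (isUnit_of_mul_isUnit_left (hst ▸ hunitτ s hs : IsUnit (x * τ t)))
    obtain ⟨u', hu', f', hf'⟩ := hw s hs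
    have h1 : FibZero R q (α ((u' * s) • f - (b * u) • f')) := by
      have h2 := (hf'.smul (b * u)).sub (hf.smul (u' * s))
      convert h2 using 1
      rw [map_sub, map_smul, map_smul, smul_sub, smul_sub]
      simp only [smul_smul]
      rw [show b * u * (u' * s) = u' * s * (u * b) by ring]
      abel
    have h3 := (hτp _).2 (hα _ h1 i)
    simp only [Pi.sub_apply, Pi.smul_apply, smul_eq_mul, map_sub, map_mul, sub_eq_zero] at h3
    have h4 : τ b ∣ τ u' * τ t * (x * τ (f i)) :=
      ⟨τ u * τ (f' i), by rw [show τ s = x * τ t from hst.symm] at h3; linear_combination h3⟩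
    exact (IsUnit.dvd_mul_left ((hunitτ u' hu').mul (hunitτ t ht))).1 h4
  obtain ⟨π, hπ⟩ := principal_of_colon (τ (f i)) (τ b) hb0 hi hcolon
  obtain ⟨π₀, t₀, ht₀, hπ₀⟩ := hsurjτ π
  have hπ₀m : maximalIdeal D = Ideal.span {τ π₀} := by
    rw [hπ, ← hπ₀, Ideal.span_singleton_mul_right_unit (hunitτ t₀ ht₀)]
  -- the uniformizer is regular
  have hπreg : ∀ m : N, FibZero R q (π₀ • m) → FibZero R q m := fun m hm => hnot m fun s hs => by
    have hsm : τ s ∈ maximalIdeal D := fun hu' => by
      have h1 := (IsLocalization.AtPrime.isUnit_to_map_iff D qb (ι s)).1 hu'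
      exact h1 ((hqb s).2 hs)
    rw [hπ₀m, Ideal.mem_span_singleton] at hsm
    obtain ⟨t, ht, c, hc⟩ := hdvd π₀ s hsm
    refine (FibZero.of_smul ht ?_)
    have h2 := (hpZ _ m hc).add (hm.smul c)
    convert h2 using 1
    rw [sub_smul, mul_comm π₀ c, mul_smul, mul_smul, sub_add_cancel]
  -- minimal generators
  obtain ⟨k, e, hspan, hind⟩ := exists_basis_mod q N
  let β : (Fin k → P) →ₗ[P] N := Fintype.linearCombination P e
  let mkq := LocalizedModule.mkLinearMap q.primeCompl N
  let Aq := Localization.AtPrime q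
  have hKq : ∀ y, FibZero R q (β y) → ∀ i, y i ∈ q := fun y hy i => by
    have hz : mkq (β y) ∈ maximalIdeal Aq • (⊤ : Submodule Aq (LocalizedModule q.primeCompl N)) := by
      obtain ⟨v, hv, hvm⟩ := hy
      have h1 : ∀ z ∈ (q.comap (algebraMap R P)) • (⊤ : Submodule R N),
          mkq z ∈ maximalIdeal Aq • (⊤ : Submodule Aq (LocalizedModule q.primeCompl N)) := by
        intro z hz
        refine Submodule.smul_induction_on hz (fun c hc m _ => ?_) fun x y hx hy => by
          rw [map_add]; exact add_mem hx hy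
        rw [LinearMap.map_smul_of_tower, ← algebraMap_smul P c (mkq m), ← algebraMap_smul Aq (algebraMap R P c) (mkq m)]
        refine Submodule.smul_mem_smul ?_ trivial
        rw [IsLocalization.AtPrime.to_map_mem_maximal_iff Aq q]
        exact hc
      have h2 := h1 _ hvm
      rw [map_smul, ← algebraMap_smul Aq v] at h2
      exact (Submodule.smul_mem_iff_of_isUnit _ (IsLocalization.map_units Aq (⟨v, hv⟩ : q.primeCompl))).1 h2
    have hsum : ∑ i, algebraMap P Aq (y i) • mkq (e i) = mkq (β y) := by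
      simp only [β, Fintype.linearCombination_apply, map_sum, map_smul]
      exact Finset.sum_congr rfl fun i _ => algebraMap_smul Aq (y i) _
    have h3 := hind (fun i => algebraMap P Aq (y i)) (hsum ▸ hz) i
    rwa [IsLocalization.AtPrime.to_map_mem_maximal_iff Aq q] at h3
  have hKp : ∀ y, FibZero R q (β y) → ∀ i, y i ∈ p := by
    let tv : (Fin k → P) → (Fin k → D) := fun y i => τ (y i)
    let K : Submodule D (Fin k → D) := Submodule.span D (tv '' {y | FibZero R q (β y)})
    have hK : K ≤ maximalIdeal D • K := by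
      refine Submodule.span_le.2 ?_
      rintro _ ⟨y, hy, rfl⟩
      have hd : ∀ i, τ π₀ ∣ τ (y i) := fun i => by
        have hm : τ (y i) ∈ maximalIdeal D := fun hu' =>
          (IsLocalization.AtPrime.isUnit_to_map_iff D qb (ι (y i))).1 hu' ((hqb _).2 (hKq y hy i))
        rwa [hπ₀m, Ideal.mem_span_singleton] at hm
      choose t ht c hc using fun i => hdvd π₀ (y i) (hd i)
      let T := ∏ i, t i
      have hT : T ∉ q := fun h => by
        obtain ⟨j, -, hj⟩ := ‹q.IsPrime›.prod_mem_iff.1 h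
        exact ht j hj
      let y' : Fin k → P := fun i => (∏ j ∈ Finset.univ.erase i, t j) * c i
      have h1 : ∀ i, (T • y - π₀ • y') i ∈ p := fun i => by
        simp only [Pi.sub_apply, Pi.smul_apply, smul_eq_mul, y']
        rw [show T = t i * ∏ j ∈ Finset.univ.erase i, t j from (Finset.mul_prod_erase _ t (Finset.mem_univ i)).symm,
          show t i * (∏ j ∈ Finset.univ.erase i, t j) * y i - π₀ * ((∏ j ∈ Finset.univ.erase i, t j) * c i) =
            (∏ j ∈ Finset.univ.erase i, t j) * (t i * y i - π₀ * c i) by ring]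
        exact p.mul_mem_left _ (hc i)
      have hy' : FibZero R q (β y') := hπreg _ (by
        have h3 := ((show FibZero R q (β y) from hy).smul T).sub (hvecZ β _ h1)
        convert h3 using 1
        rw [map_sub, map_smul, map_smul]
        abel)
      have h4 : tv y = (↑(hunitτ T hT).unit⁻¹ * τ π₀) • tv y' := by
        funext i
        have h5 := (hτp _).2 (h1 i)
        simp only [Pi.sub_apply, Pi.smul_apply, smul_eq_mul, map_sub, map_mul, sub_eq_zero] at h5
        show τ (y i) = (↑(hunitτ T hT).unit⁻¹ * τ π₀) * τ (y' i)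
        rw [mul_assoc, ← h5, ← mul_assoc, IsUnit.val_inv_mul, one_mul]
      rw [SetLike.mem_coe, h4]
      exact Submodule.smul_mem_smul (Ideal.mul_mem_left _ _ (hπ₀m ▸ Ideal.mem_span_singleton_self _))
        (Submodule.subset_span ⟨y', hy', rfl⟩)
    have hK0 : K = ⊥ := Submodule.eq_bot_of_le_smul_of_le_jacobson_bot (R := D) (M := Fin k → D) (maximalIdeal D) K
      (IsNoetherian.noetherian K) hK (le_sInf fun J hJ => (IsLocalRing.eq_maximalIdeal hJ.2).ge)
    intro y hy i
    have h1 : tv y ∈ K := Submodule.subset_span ⟨y, hy, rfl⟩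
    rw [hK0, Submodule.mem_bot] at h1
    exact (hτp _).1 (congrFun h1 i)
  -- conclude
  have hgen : ∀ m : N, ∃ t ∉ q, t • m ∈ LinearMap.range β := fun m => by
    have hm : mkq m ∈ Submodule.span Aq (Set.range fun i => mkq (e i)) := by rw [hspan]; trivial
    have h' : mkq m ∈ (LinearMap.range β).localized' Aq q.primeCompl mkq := by
      refine (Submodule.span_le.2 ?_) hm
      rintro _ ⟨i, rfl⟩
      rw [SetLike.mem_coe, Submodule.mem_localized']
      exact ⟨e i, ⟨Pi.single i 1, by simp [β, Fintype.linearCombination_apply, Pi.single_apply]⟩, 1,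
        IsLocalizedModule.mk'_one _ _ _⟩
    obtain ⟨m', hm', t, ht⟩ := (Submodule.mem_localized' _ _ _ _ _).1 h'
    rw [IsLocalizedModule.mk'_eq_iff, ← LinearMap.map_smul_of_tower] at ht
    obtain ⟨v, hv⟩ := IsLocalizedModule.exists_of_eq (S := q.primeCompl) (f := mkq) ht
    refine ⟨(v : P) * t, (v * t).2, ?_⟩
    rw [mul_smul, show (v : P) • (t : P) • m = (v : P) • m' from hv.symm]
    exact Submodule.smul_mem _ _ hm'
  let Ap := Localization.AtPrime p
  let mkp := LocalizedModule.mkLinearMap p.primeCompl N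
  have hspanp : Submodule.span Ap (Set.range fun i => mkp (e i)) = ⊤ := eq_top_iff.2 fun z _ => by
    obtain ⟨⟨m, s⟩, hms⟩ := IsLocalizedModule.surj p.primeCompl mkp z
    obtain ⟨t, ht, y, hy⟩ := hgen m
    have h1 : mkp (β y) ∈ Submodule.span Ap (Set.range fun i => mkp (e i)) := by
      simp only [β, Fintype.linearCombination_apply, map_sum, map_smul]
      exact Submodule.sum_mem _ fun i _ => by
        rw [← algebraMap_smul Ap]; exact Submodule.smul_mem _ _ (Submodule.subset_span ⟨i, rfl⟩)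
    rw [hy, map_smul, show mkp m = (s : P) • z from hms.symm, smul_smul, ← algebraMap_smul Ap] at h1
    exact (Submodule.smul_mem_iff_of_isUnit _ (IsLocalization.map_units Ap
      (⟨t * s, fun h => (‹p.IsPrime›.mem_or_mem h).elim (fun h' => ht (hpq h')) s.2⟩ : p.primeCompl))).1 h1
  have hindp : ∀ x : Fin k → Ap, ∑ i, x i • mkp (e i) ∈ maximalIdeal Ap • (⊤ : Submodule Ap (LocalizedModule p.primeCompl N)) →
      ∀ i, x i ∈ maximalIdeal Ap := by
    intro x hx
    obtain ⟨s, hs⟩ := IsLocalization.exist_integer_multiples_of_finite p.primeCompl x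
    choose y hy using hs
    have h1 : mkp (β y) ∈ maximalIdeal Ap • (⊤ : Submodule Ap (LocalizedModule p.primeCompl N)) := by
      have : mkp (β y) = algebraMap P Ap (s : P) • ∑ i, x i • mkp (e i) := by
        simp only [β, Fintype.linearCombination_apply, map_sum, map_smul, Finset.smul_sum, smul_smul]
        refine Finset.sum_congr rfl fun i _ => ?_
        rw [← algebraMap_smul Ap (y i) (mkp (e i)), hy i, Algebra.smul_def]
      rw [this]
      exact Submodule.smul_mem _ _ hx
    obtain ⟨v, hv, hvm⟩ : ∃ v ∉ p, FibZero R q (v • β y) := by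
      have key : ∀ z ∈ maximalIdeal Ap • (⊤ : Submodule Ap (LocalizedModule p.primeCompl N)),
          ∃ v ∉ p, ∃ m ∈ fibKer R N q, v • z = mkp m := by
        intro z hz
        refine Submodule.smul_induction_on hz (fun c hc z' _ => ?_) fun z₁ z₂ h₁ h₂ => ?_
        · obtain ⟨⟨a, s⟩, has⟩ := IsLocalization.surj p.primeCompl c
          obtain ⟨⟨m, t⟩, hmt⟩ := IsLocalizedModule.surj p.primeCompl mkp z'
          have hap : a ∈ p := by
            rw [← IsLocalization.AtPrime.to_map_mem_maximal_iff Ap p]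
            exact (show c * algebraMap P Ap s = algebraMap P Ap a from has) ▸ Ideal.mul_mem_right _ _ hc
          refine ⟨(s : P) * t, fun h => (‹p.IsPrime›.mem_or_mem h).elim s.2 t.2, a • m, hpZ a m hap, ?_⟩
          rw [map_smul, show mkp m = (t : P) • z' from hmt.symm, mul_smul, smul_comm (t : P) c, ← algebraMap_smul Ap (s : P),
            smul_smul, mul_comm, show c * algebraMap P Ap s = algebraMap P Ap a from has, algebraMap_smul]
        · obtain ⟨v₁, hv₁, m₁, hm₁, e₁⟩ := h₁
          obtain ⟨v₂, hv₂, m₂, hm₂, e₂⟩ := h₂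
          refine ⟨v₁ * v₂, fun h => (‹p.IsPrime›.mem_or_mem h).elim hv₁ hv₂, v₂ • m₁ + v₁ • m₂,
            add_mem (Submodule.smul_mem _ _ hm₁) (Submodule.smul_mem _ _ hm₂), ?_⟩
          rw [smul_add, map_add, map_smul, map_smul, ← e₁, ← e₂, mul_smul, mul_smul, smul_comm v₂ v₁]
      obtain ⟨v, hv, m, hm, hvm⟩ := key _ h1
      rw [← map_smul] at hvm
      obtain ⟨c, hc⟩ := IsLocalizedModule.exists_of_eq (S := p.primeCompl) (f := mkp) hvm
      refine ⟨(c : P) * v, fun h => (‹p.IsPrime›.mem_or_mem h).elim c.2 hv, ?_⟩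
      rw [mul_smul, show (c : P) • v • β y = (c : P) • m from hc]
      exact FibZero.smul hm _
    intro i
    rw [← map_smul] at hvm
    have h3 : y i ∈ p := by
      have := hKp _ hvm i
      rw [Pi.smul_apply, smul_eq_mul] at this
      exact (‹p.IsPrime›.mem_or_mem this).resolve_left hv
    have h4 : (s : P) • x i ∈ maximalIdeal Ap := by
      rw [← hy i, IsLocalization.AtPrime.to_map_mem_maximal_iff Ap p]
      exact h3
    rw [Algebra.smul_def] at h4
    exact (Ideal.unit_mul_mem_iff_mem _ (IsLocalization.map_units Ap s)).1 h4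
  obtain ⟨-, hinj, -⟩ := univInj_of_generic (q.comap (algebraMap R P)) q p hpq rfl hp1 hp
    (fun p' _ => isReduced_fiber (n := n) p') hflat e hspanp hindp
  have hbij : Function.Bijective (LocalizedModule.map q.primeCompl β) := by
    refine ⟨hinj, fun z => ?_⟩
    induction z using LocalizedModule.induction_on with
    | h m s =>
      obtain ⟨t, ht, y, hy⟩ := hgen m
      refine ⟨LocalizedModule.mk y (⟨t, ht⟩ * s), ?_⟩
      rw [LocalizedModule.map_mk, hy, ← Submonoid.smul_def (⟨t, ht⟩ : q.primeCompl), LocalizedModule.mk_cancel_common_left]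
  haveI : Module.Flat R (Fin k → P) := flat_pi k
  haveI := GrothLib.NagataFP.flat_localized (R := R) (M := Fin k → P) q.primeCompl
  exact Module.Flat.of_linearEquiv ((LinearEquiv.ofBijective _ hbij).restrictScalars R).symm

end GrothLib.RG6
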