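import Groth.Agent.Lib.RG6.Open

/-!
# Finite presentation from a schematically dense family of basic opens
-/

set_option autoImplicit false
set_option backward.isDefEq.respectTransparency false
set_option linter.style.haveILetI false
set_option maxHeartbeats 800000

universe u

open TensorProduct

namespace GrothLib.RG6

variable {A B : Type u} [CommRing A] [CommRing B] [Algebra A B]

omit [CommRing B] [Algebra A B] in
/-- An element of a flat module killed on a dense family of basic opens is zero. -/
theorem eq_zero_of_flat_dense {M : Type u} [AddCommGroup M] [Module A M] [Module.Flat A M] {n : ℕ} (f : Fin n → A)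
    (hdense : Function.Injective (RingHom.pi (fun i => algebraMap A (Localization.Away (f i)))))
    (y : M) (hy : ∀ i, ∃ k : ℕ, f i ^ k • y = 0) : y = 0 := by
  classical
  let L : A →ₗ[A] (∀ i, Localization.Away (f i)) :=
    LinearMap.pi fun i => Algebra.linearMap A (Localization.Away (f i))
  have hinj : Function.Injective (L.lTensor M) :=
    Module.Flat.lTensor_preserves_injective_linearMap L hdense
  let e := TensorProduct.piRight A A M (fun i => Localization.Away (f i))
  have h0 : L.lTensor M (y ⊗ₜ[A] 1) = L.lTensor M ((0 : M) ⊗ₜ[A] 1) := by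
    refine e.injective (funext fun i => ?_)
    rw [TensorProduct.zero_tmul, map_zero, map_zero, Pi.zero_apply, LinearMap.lTensor_tmul,
      TensorProduct.piRight_apply, TensorProduct.piRightHom_tmul]
    show y ⊗ₜ[A] (algebraMap A (Localization.Away (f i)) 1) = 0
    obtain ⟨k, hk⟩ := hy i
    obtain ⟨v, hv⟩ := IsLocalization.map_units (Localization.Away (f i))
      (⟨f i ^ k, k, rfl⟩ : Submonoid.powers (f i))
    have h1 : algebraMap A (Localization.Away (f i)) 1 = (f i ^ k) • (↑v⁻¹ : Localization.Away (f i)) := by
      rw [Algebra.smul_def, map_one, show algebraMap A (Localization.Away (f i)) (f i ^ k) = ↑v from hv.symm,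
        Units.mul_inv]
    rw [h1, TensorProduct.tmul_smul, TensorProduct.smul_tmul', hk, TensorProduct.zero_tmul]
  have h := congrArg (TensorProduct.rid A M) (hinj h0)
  simpa using h

/-- Elements killed at a prime are killed on a common neighbourhood, if the quotient is finitely
presented on a dense family of basic opens. -/
theorem exists_kill_dense {n : ℕ} (f : Fin n → A)
    (hdense : Function.Injective (RingHom.pi (fun i => algebraMap A (Localization.Away (f i)))))
    {N N₀ : Type u} [AddCommGroup N] [Module B N] [AddCommGroup N₀] [Module B N₀] [Module A N₀]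
    [IsScalarTower A B N₀] [Module.FinitePresentation B N₀] (φ : N₀ →ₗ[B] N) (hφ : Function.Surjective φ)
    (hfp : ∀ i, Module.FinitePresentation (Localization.Away (algebraMap A B (f i)))
      (LocalizedModule (Submonoid.powers (algebraMap A B (f i))) N))
    (q : Ideal B) [q.IsPrime] (g : B) (hg : g ∉ q)
    (hflat : Module.Flat A (LocalizedModule (Submonoid.powers g) N₀))
    (hkill : ∀ x ∈ LinearMap.ker φ, ∃ s ∉ q, s • x = 0) :
    ∃ h ∉ q, ∀ x ∈ LinearMap.ker φ, ∃ k : ℕ, h ^ k • x = 0 := by
  classical
  have hi : ∀ i, ∃ h, h ∉ q ∧ ∀ x ∈ LinearMap.ker φ, ∃ k : ℕ, algebraMap A B (f i) ^ k • h • x = 0 := by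
    intro i
    let F := algebraMap A B (f i)
    let T := Submonoid.powers F
    let Bf := Localization.Away F
    let φf := LocalizedModule.map T φ
    haveI : Module.FinitePresentation Bf (LocalizedModule T N) := hfp i
    haveI : Module.Finite Bf (LocalizedModule T N₀) :=
      Module.Finite.of_isLocalizedModule T (LocalizedModule.mkLinearMap T N₀)
    have hφf : Function.Surjective φf := fun y => by
      induction y using LocalizedModule.induction_on with
      | h m s =>
        obtain ⟨m, rfl⟩ := hφ m
        exact ⟨LocalizedModule.mk m s, by simp [φf, LocalizedModule.map_mk]⟩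
    obtain ⟨G, hG⟩ := Module.FinitePresentation.fg_ker φf hφf
    have hs : ∀ y : G, ∃ s, s ∉ q ∧ s • (y : LocalizedModule T N₀) = 0 := by
      rintro ⟨y, hy⟩
      have hy' : φf y = 0 := by
        have : y ∈ LinearMap.ker φf := hG ▸ Submodule.subset_span hy
        exact this
      induction y using LocalizedModule.induction_on with
      | h m t =>
        rw [LocalizedModule.map_mk, ← LocalizedModule.zero_mk t, LocalizedModule.mk_eq] at hy'
        obtain ⟨u, hu⟩ := hy'
        simp only [Submonoid.smul_def, smul_zero, smul_smul] at hu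
        obtain ⟨s, hs, hsm⟩ := hkill (((u : B) * t) • m) (by rw [LinearMap.mem_ker, map_smul, hu])
        refine ⟨s, hs, ?_⟩
        show s • LocalizedModule.mk m t = 0
        rw [LocalizedModule.smul'_mk, ← LocalizedModule.zero_mk t, LocalizedModule.mk_eq]
        refine ⟨u, ?_⟩
        simp only [Submonoid.smul_def, smul_zero, smul_smul]
        simpa [smul_smul, mul_comm, mul_left_comm] using hsm
    choose s hs hs' using hs
    refine ⟨∏ y : G, s y, fun h => ?_, fun x hx => ?_⟩
    · obtain ⟨y, -, hy⟩ := ‹q.IsPrime›.prod_mem_iff.1 h
      exact hs y hy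
    have h1 : LocalizedModule.mkLinearMap T N₀ x ∈ Submodule.span Bf (G : Set (LocalizedModule T N₀)) := by
      rw [hG]
      show φf (LocalizedModule.mk x 1) = 0
      rw [LocalizedModule.map_mk, show φ x = 0 from hx, LocalizedModule.zero_mk]
    have h2 : ∀ z ∈ Submodule.span Bf (G : Set (LocalizedModule T N₀)), (∏ y : G, s y) • z = 0 := by
      intro z hz
      induction hz using Submodule.span_induction with
      | mem y hy =>
        rw [← Finset.prod_erase_mul _ s (Finset.mem_univ ⟨y, hy⟩), mul_smul, hs' ⟨y, hy⟩, smul_zero]
      | zero => rw [smul_zero]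
      | add a b _ _ ha hb => rw [smul_add, ha, hb, add_zero]
      | smul c a _ ha => rw [smul_comm, ha, smul_zero]
    have h3 := h2 _ h1
    rw [← map_smul, IsLocalizedModule.eq_zero_iff T (LocalizedModule.mkLinearMap T N₀)] at h3
    obtain ⟨⟨_, k, rfl⟩, hk⟩ := h3
    exact ⟨k, hk⟩
  choose h hh hh' using hi
  refine ⟨g * ∏ i, h i, fun hm => (‹q.IsPrime›.mem_or_mem hm).elim hg fun hm' => ?_, fun x hx => ?_⟩
  · obtain ⟨i, -, hi⟩ := ‹q.IsPrime›.prod_mem_iff.1 hm'
    exact hh i hi
  haveI := hflat
  let gN := LocalizedModule.mkLinearMap (Submonoid.powers g) N₀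
  have h0 : gN ((∏ i, h i) • x) = 0 := by
    refine eq_zero_of_flat_dense f hdense _ fun i => ?_
    obtain ⟨k, hk⟩ := hh' i x hx
    refine ⟨k, ?_⟩
    rw [← Finset.prod_erase_mul _ h (Finset.mem_univ i), ← algebraMap_smul B (f i ^ k), map_pow, ← map_smul,
      mul_smul, smul_comm (algebraMap A B (f i) ^ k), hk, smul_zero, map_zero]
  rw [IsLocalizedModule.eq_zero_iff (Submonoid.powers g) gN] at h0
  obtain ⟨⟨_, j, rfl⟩, hj⟩ := h0
  have hj' : g ^ j • (∏ i, h i) • x = 0 := hj
  rw [smul_smul] at hj'
  refine ⟨j + 1, ?_⟩
  rw [mul_pow, show g ^ (j + 1) * (∏ i, h i) ^ (j + 1) = (g * (∏ i, h i) ^ j) * (g ^ j * ∏ i, h i) by ring,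
    mul_smul, hj', smul_zero]

/-- **A flat finite module which is finitely presented on a dense family of basic opens of the base
is finitely presented.** -/
theorem fp_of_dense [Algebra.FinitePresentation A B]
    (N : Type u) [AddCommGroup N] [Module B N] [Module A N] [IsScalarTower A B N] [Module.Finite B N] [Module.Flat A N]
    {n : ℕ} (f : Fin n → A)
    (hdense : Function.Injective (RingHom.pi (fun i => algebraMap A (Localization.Away (f i)))))
    (hfp : ∀ i, Module.FinitePresentation (Localization.Away (algebraMap A B (f i)))
      (LocalizedModule (Submonoid.powers (algebraMap A B (f i))) N)) :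
    Module.FinitePresentation B N := by
  refine fp_of_forall_exists N fun q _ => ?_
  obtain ⟨N₀, _, _, _, _, _, φ, g, hφ, hg, hflat₀, hkill⟩ :=
    exists_model_near (R := A) N q (GrothLib.NagataFP.flat_localized _)
  obtain ⟨h, hh, hk⟩ := exists_kill_dense f hdense φ hφ hfp q g hg hflat₀ hkill
  exact ⟨g * h, fun hm => (‹q.IsPrime›.mem_or_mem hm).elim hg hh, (good_of_kill φ hφ g h hflat₀ hk).1⟩

/-- **A flat algebra of finite type which is finitely presented over a dense family of basic opens of
the base is finitely presented.** -/
theorem fp_algebra_of_dense [Algebra.FiniteType A B] [Module.Flat A B] {n : ℕ} (f : Fin n → A)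
    (hdense : Function.Injective (RingHom.pi (fun i => algebraMap A (Localization.Away (f i)))))
    (hfp : ∀ i, Algebra.FinitePresentation A (Localization.Away (algebraMap A B (f i)))) :
    Algebra.FinitePresentation A B := by
  obtain ⟨m, π, hπ⟩ := Algebra.FiniteType.iff_quotient_mvPolynomial''.1 ‹Algebra.FiniteType A B›
  let P := MvPolynomial (Fin m) A
  letI : Algebra P B := π.toRingHom.toAlgebra
  haveI : IsScalarTower A P B := IsScalarTower.of_algebraMap_eq fun c => (π.commutes c).symm
  haveI : Module.Finite P B := Module.Finite.of_surjective (Algebra.linearMap P B) hπ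
  haveI : Module.FinitePresentation P B := by
    refine fp_of_dense (A := A) B f hdense fun i => ?_
    let F := algebraMap A P (f i)
    let Pf := Localization.Away F
    let Bf := Localization.Away (π F)
    haveI : Algebra.FinitePresentation A Pf :=
      haveI : Algebra.FinitePresentation P Pf := IsLocalization.Away.finitePresentation F
      Algebra.FinitePresentation.trans A P Pf
    have key : ∀ b : B, b = algebraMap A B (f i) → Algebra.FinitePresentation A (Localization.Away b) := by
      rintro b rfl
      exact hfp i
    haveI : Algebra.FinitePresentation A Bf := key _ (π.commutes _)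
    let ψ : Pf →ₐ[A] Bf := Localization.awayMapₐ π F
    have hψ : Function.Surjective ψ :=
      IsLocalization.Away.mapₐ_surjective_of_surjective (R := A) (A := P) (B := B) (Aₚ := Pf) (Bₚ := Bf) F hπ
    letI : Algebra Pf Bf := ψ.toRingHom.toAlgebra
    haveI : IsScalarTower P Pf Bf := IsScalarTower.of_algebraMap_eq (R := P) (S := Pf) (A := Bf) fun a => by
      show algebraMap B Bf (π a) = ψ (algebraMap P Pf a)
      simp [ψ, Localization.awayMapₐ, IsLocalization.Away.mapₐ, IsLocalization.Away.map, IsLocalization.map_eq, P, Pf, Bf]
    haveI : Module.FinitePresentation Pf Bf :=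
      Module.finitePresentation_of_surjective (Algebra.linearMap Pf Bf) hψ
        (Algebra.FinitePresentation.ker_fG_of_surjective ψ hψ)
    haveI : IsLocalizedModule (Submonoid.powers F) ((Algebra.linearMap B Bf).restrictScalars P) := by
      haveI : IsLocalizedModule (Submonoid.powers (algebraMap P B F)) (Algebra.linearMap B Bf) :=
        inferInstanceAs (IsLocalizedModule (Submonoid.powers (π F)) (Algebra.linearMap B Bf))
      exact IsLocalizedModule.restrictScalars_powers F (Algebra.linearMap B Bf)
    exact Module.FinitePresentation.of_equiv ((IsLocalizedModule.linearEquiv (Submonoid.powers F)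
      ((Algebra.linearMap B Bf).restrictScalars P)
      (LocalizedModule.mkLinearMap (Submonoid.powers F) B)).extendScalarsOfIsLocalization (Submonoid.powers F) Pf)
  exact Algebra.FinitePresentation.of_surjective (f := π) hπ
    (Module.FinitePresentation.fg_ker (Algebra.linearMap P B) hπ)

end GrothLib.RG6
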