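import Mathlib
import Groth.Agent.Lib.Fitting.BaseChange
import Groth.Agent.Lib.Fitting.Product
import Groth.Agent.Lib.Fitting.Support

/-!
# Ideals on a standard étale algebra divide the extension of an ideal of the base
-/

set_option autoImplicit false
set_option linter.style.haveILetI false
set_option linter.unusedSectionVars false

universe u

open TensorProduct Polynomial

namespace GrothLib.RG6

variable {A B' : Type u} [CommRing A] [CommRing B'] [Algebra A B']

theorem quotient_prod_fitting {C' : Type u} [CommRing C'] [Algebra B' C'] [Module.Finite B' C']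
    (φ : C' →ₐ[B'] B') (K L 𝔍 : Ideal C') (hK : RingHom.ker φ = K) (hsum : K ⊔ L = ⊤) (hmul : K * L = ⊥) :
    Fitt.ideal B' (C' ⧸ 𝔍) 0 = 𝔍.map φ * Fitt.ideal B' (C' ⧸ (𝔍 ⊔ L)) 0 := by
  have hcop : IsCoprime (𝔍 ⊔ K) (𝔍 ⊔ L) := Ideal.isCoprime_iff_sup_eq.2
    (eq_top_iff.2 (hsum ▸ sup_le_sup le_sup_right le_sup_right))
  have hinf : (𝔍 ⊔ K) ⊓ (𝔍 ⊔ L) = 𝔍 := by
    refine le_antisymm ?_ (le_inf le_sup_left le_sup_left)
    rw [← Ideal.mul_eq_inf_of_isCoprime hcop, Ideal.mul_sup, Ideal.sup_mul, Ideal.sup_mul, hmul]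
    exact sup_le (sup_le Ideal.mul_le_left Ideal.mul_le_right) (sup_le Ideal.mul_le_left bot_le)
  let e₁ : (C' ⧸ 𝔍) ≃ₐ[B'] ((C' ⧸ (𝔍 ⊔ K)) × (C' ⧸ (𝔍 ⊔ L))) :=
    AlgEquiv.ofRingEquiv (f := (Ideal.quotEquivOfEq hinf.symm).trans
      (Ideal.quotientInfEquivQuotientProd _ _ hcop)) fun r => rfl
  have hφ : Function.Surjective φ := fun b => ⟨algebraMap B' C' b, φ.commutes b⟩
  let ψ : C' →ₐ[B'] B' ⧸ 𝔍.map φ := (Ideal.Quotient.mkₐ B' _).comp φ
  have hψker : RingHom.ker ψ = 𝔍 ⊔ K := by
    rw [← hK, RingHom.ker_eq_comap_bot φ, ← Ideal.comap_map_of_surjective φ hφ]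
    ext x
    simp [ψ, RingHom.mem_ker, Ideal.Quotient.eq_zero_iff_mem]
  let e₂ : (C' ⧸ (𝔍 ⊔ K)) ≃ₐ[B'] B' ⧸ 𝔍.map φ :=
    (Ideal.quotientEquivAlgOfEq B' hψker.symm).trans
      (Ideal.quotientKerAlgEquivOfSurjective (f := ψ) (Ideal.Quotient.mk_surjective.comp hφ))
  rw [GrothLib.Fitting.ideal_congr e₁.toLinearEquiv 0, GrothLib.Fitting.ideal_prod, Finset.sum_range_one,
    Nat.sub_zero, GrothLib.Fitting.ideal_congr e₂.toLinearEquiv 0, GrothLib.Fitting.ideal_quotient_zero]

/-- A finitely generated ideal of a standard étale algebra with a power of `a` divides the extension of a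
finitely generated ideal of the base with a power of `a`. -/
theorem exists_ideal_mul_eq_extend [Algebra.IsStandardEtale A B'] (a : A) (J : Ideal B') (hJ : J.FG)
    (hJa : algebraMap A B' a ∈ J.radical) :
    ∃ (I : Ideal A) (J' : Ideal B'), I.FG ∧ a ∈ I.radical ∧ J'.FG ∧ I.map (algebraMap A B') = J * J' := by
  classical
  obtain ⟨P⟩ := Algebra.IsStandardEtale.nonempty_standardEtalePresentation (R := A) (S := B')
  obtain ⟨N, hN⟩ := hJa
  obtain ⟨F, hF⟩ := hJ
  choose p m hp using fun x : B' => P.exists_mul_aeval_x_g_pow_eq_aeval_x x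
  haveI : Module.Finite A (AdjoinRoot P.f) := P.monic_f.finite_adjoinRoot
  haveI : Module.Free A (AdjoinRoot P.f) := P.monic_f.free_adjoinRoot
  let C := AdjoinRoot P.f
  let Q : Finset C := insert (algebraMap A C (a ^ N)) (F.image fun x => AdjoinRoot.mk P.f (p x))
  let JC : Ideal C := Ideal.span (Q : Set C)
  let C' := B' ⊗[A] C
  let ψ : C →ₐ[A] B' := AdjoinRoot.liftAlgHom P.f (Algebra.ofId A B') P.x P.hasMap.1
  have hψ : ∀ q : A[X], ψ (AdjoinRoot.mk P.f q) = aeval P.x q := fun q => by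
    show AdjoinRoot.liftAlgHom P.f (Algebra.ofId A B') P.x _ (AdjoinRoot.mk P.f q) = _
    rw [AdjoinRoot.liftAlgHom_mk]
    rfl
  let φ : C' →ₐ[B'] B' := Algebra.TensorProduct.lift (AlgHom.id B' B') ψ fun _ _ => Commute.all _ _
  let x : C' := (1 : B') ⊗ₜ[A] AdjoinRoot.root P.f
  have hφx : φ x = P.x := by
    show Algebra.TensorProduct.lift _ _ _ ((1 : B') ⊗ₜ[A] AdjoinRoot.root P.f) = _
    rw [Algebra.TensorProduct.lift_tmul, map_one, one_mul, ← AdjoinRoot.mk_X, hψ, aeval_X]
  let K : Ideal C' := Ideal.span {x - algebraMap B' C' P.x}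
  let fB : B'[X] := P.f.map (algebraMap A B')
  have hroot : fB.IsRoot P.x := by
    show fB.eval P.x = 0
    rw [eval_map, ← aeval_def, P.hasMap.1]
  obtain ⟨Qp, hQp⟩ : X - Polynomial.C P.x ∣ fB := dvd_iff_isRoot.2 hroot
  let L : Ideal C' := Ideal.span {aeval x Qp}
  have hmul : K * L = ⊥ := by
    rw [Ideal.span_singleton_mul_span_singleton, Ideal.span_singleton_eq_bot,
      show x - algebraMap B' C' P.x = aeval x (X - Polynomial.C P.x) by simp, ← map_mul, ← hQp,
      aeval_map_algebraMap, show x = Algebra.TensorProduct.includeRight (R := A) (A := B') (AdjoinRoot.root P.f) from rfl,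
      aeval_algHom_apply, AdjoinRoot.aeval_eq, AdjoinRoot.mk_self, map_zero]
  have hQu : IsUnit (Qp.eval P.x) := by
    have h := P.hasMap.isUnit_derivative_f
    rwa [aeval_def, ← eval_map, ← derivative_map, show P.f.map (algebraMap A B') = (X - Polynomial.C P.x) * Qp from hQp,
      derivative_mul, derivative_sub, derivative_X, derivative_C, sub_zero, one_mul, eval_add, eval_mul, eval_sub,
      eval_X, eval_C, sub_self, zero_mul, add_zero] at h
  have hsum : K ⊔ L = ⊤ := by
    refine Ideal.eq_top_of_isUnit_mem _ ?_ (hQu.map (algebraMap B' C'))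
    obtain ⟨T, hT⟩ := X_sub_C_dvd_sub_C_eval (p := Qp) (a := P.x)
    have h := congrArg (aeval x) hT
    rw [map_sub, aeval_C, map_mul, map_sub, aeval_X, aeval_C, sub_eq_iff_eq_add] at h
    rw [show algebraMap B' C' (Qp.eval P.x) = aeval x Qp - (x - algebraMap B' C' P.x) * aeval x T by rw [h]; ring]
    exact sub_mem (Ideal.mem_sup_right (Ideal.mem_span_singleton_self _))
      (Ideal.mul_mem_right _ _ (Ideal.mem_sup_left (Ideal.mem_span_singleton_self _)))
  have hker : RingHom.ker φ = K := by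
    refine le_antisymm (fun y hy => ?_) ((Ideal.span_singleton_le_iff_mem _).2 ?_)
    · have hext : Ideal.Quotient.mkₐ A K = (((Ideal.Quotient.mkₐ B' K).comp (Algebra.ofId B' C')).restrictScalars A).comp
          (φ.restrictScalars A) := by
        refine Algebra.TensorProduct.ext (AlgHom.ext fun b => ?_) (AdjoinRoot.algHom_ext ?_)
        · show Ideal.Quotient.mk K (b ⊗ₜ 1) = Ideal.Quotient.mk K (algebraMap B' C' (φ (b ⊗ₜ 1)))
          rw [show b ⊗ₜ[A] (1 : C) = algebraMap B' C' b from rfl, φ.commutes]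
          rfl
        · show Ideal.Quotient.mk K x = Ideal.Quotient.mk K (algebraMap B' C' (φ x))
          rw [hφx]
          exact Ideal.Quotient.eq.2 (Ideal.mem_span_singleton_self _)
      have h := AlgHom.congr_fun hext y
      rw [RingHom.mem_ker] at hy
      simp only [AlgHom.comp_apply, AlgHom.restrictScalars_apply, hy, map_zero] at h
      exact Ideal.Quotient.eq_zero_iff_mem.1 h
    · rw [RingHom.mem_ker, map_sub, hφx, φ.commutes]
      exact sub_self _
  let 𝔍 : Ideal C' := JC.map (Algebra.TensorProduct.includeRight (R := A) (A := B'))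
  have h𝔍 : 𝔍.map φ = J := by
    simp only [𝔍, JC]
    rw [Ideal.map_span, Ideal.map_span, ← Set.image_comp]
    have hcomp : ∀ q : A[X], φ (Algebra.TensorProduct.includeRight (R := A) (A := B') (AdjoinRoot.mk P.f q)) = aeval P.x q := by
      intro q
      show Algebra.TensorProduct.lift _ _ _ ((1 : B') ⊗ₜ[A] AdjoinRoot.mk P.f q) = _
      rw [Algebra.TensorProduct.lift_tmul, map_one, one_mul, hψ]
    have hconst : φ (Algebra.TensorProduct.includeRight (R := A) (A := B') (algebraMap A C (a ^ N))) = algebraMap A B' a ^ N := by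
      rw [show algebraMap A C (a ^ N) = AdjoinRoot.mk P.f (Polynomial.C (a ^ N)) from rfl, hcomp, aeval_C, map_pow]
    refine le_antisymm (Ideal.span_le.2 ?_) ?_
    · rintro _ ⟨c, hc, rfl⟩
      simp only [Q, Finset.coe_insert, Finset.coe_image, Set.mem_insert_iff, Set.mem_image, SetLike.mem_coe] at hc
      rcases hc with rfl | ⟨y, hy, rfl⟩
      · show φ (Algebra.TensorProduct.includeRight (R := A) (A := B') _) ∈ J
        rw [hconst]
        exact hN
      · show φ (Algebra.TensorProduct.includeRight (R := A) (A := B') _) ∈ J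
        rw [hcomp, ← hp y]
        exact J.mul_mem_right _ (hF ▸ Ideal.subset_span hy)
    · conv_lhs => rw [← hF]
      rw [Ideal.span_le]
      intro y hy
      have hu : IsUnit (aeval P.x P.g ^ m y) := P.hasMap.2.pow _
      have hmem : y * aeval P.x P.g ^ m y ∈
          Ideal.span ((φ ∘ Algebra.TensorProduct.includeRight (R := A) (A := B')) '' (Q : Set C)) := by
        rw [hp y]
        exact Ideal.subset_span ⟨_, Finset.mem_insert_of_mem (Finset.mem_image_of_mem _ hy), hcomp _⟩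
      exact (Ideal.mul_unit_mem_iff_mem _ hu).1 hmem
  haveI : Module.Finite A (C ⧸ JC) := inferInstance
  haveI : Module.FinitePresentation A C := Module.finitePresentation_of_projective A C
  haveI : Module.FinitePresentation C (C ⧸ JC) :=
    Module.finitePresentation_of_surjective JC.mkQ JC.mkQ_surjective (by rw [Submodule.ker_mkQ]; exact ⟨Q, rfl⟩)
  haveI : Module.FinitePresentation A (C ⧸ JC) := Module.FinitePresentation.trans A (C ⧸ JC) C
  haveI : Module.FinitePresentation B' C' := Module.finitePresentation_of_projective B' C'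
  haveI : Module.FinitePresentation C' (C' ⧸ (𝔍 ⊔ L)) :=
    Module.finitePresentation_of_surjective (𝔍 ⊔ L).mkQ (𝔍 ⊔ L).mkQ_surjective (by
      rw [Submodule.ker_mkQ]
      exact Submodule.FG.sup (Ideal.FG.map ⟨Q, rfl⟩ _) (Submodule.fg_span_singleton _))
  haveI : Module.FinitePresentation B' (C' ⧸ (𝔍 ⊔ L)) := Module.FinitePresentation.trans B' (C' ⧸ (𝔍 ⊔ L)) C'
  refine ⟨Fitt.ideal A (C ⧸ JC) 0, Fitt.ideal B' (C' ⧸ (𝔍 ⊔ L)) 0, GrothLib.Fitting.ideal_fg 0, ?_,
    GrothLib.Fitting.ideal_fg 0, ?_⟩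
  · rw [Ideal.radical_eq_sInf, Ideal.mem_sInf]
    rintro Pr ⟨hle, hPr⟩
    have hsupp : (⟨Pr, hPr⟩ : PrimeSpectrum A) ∈ Module.support A (C ⧸ JC) :=
      (GrothLib.Fitting.zeroLocus_ideal_zero (R := A) (M := C ⧸ JC)) ▸ ((PrimeSpectrum.mem_zeroLocus _ _).2 hle)
    obtain ⟨z, hz⟩ := Module.mem_support_iff'.1 hsupp
    by_contra haP
    refine hz (a ^ N) (fun h => haP (hPr.mem_of_pow_mem N h)) ?_
    obtain ⟨c, rfl⟩ := Ideal.Quotient.mk_surjective z
    rw [← Ideal.Quotient.mkₐ_eq_mk A, ← map_smul, Ideal.Quotient.mkₐ_eq_mk, Ideal.Quotient.eq_zero_iff_mem, Algebra.smul_def]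
    exact JC.mul_mem_right _ (Ideal.subset_span (Finset.mem_insert_self _ _))
  · rw [← GrothLib.Fitting.ideal_baseChange B' 0,
      GrothLib.Fitting.ideal_congr (Algebra.TensorProduct.tensorQuotientEquiv (R := A) B' C B' JC).toLinearEquiv 0,
      quotient_prod_fitting φ K L 𝔍 hker hsum hmul, h𝔍]

end GrothLib.RG6
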