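import Groth.Agent.Lib.RG6.Main

/-!
# Flat at a prime implies finitely presented at the prime
-/

set_option autoImplicit false
set_option backward.isDefEq.respectTransparency false
set_option linter.style.haveILetI false
set_option maxHeartbeats 800000

universe u

open TensorProduct

namespace GrothLib.RG6

variable {R S : Type u} [CommRing R] [CommRing S] [Algebra R S]

/-- Over a quotient of a polynomial ring, flatness at a prime gives finite presentation over the
polynomial ring. -/
theorem fp_atPrime_of_surjective {n : ℕ} [Algebra (MvPolynomial (Fin n) R) S]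
    [IsScalarTower R (MvPolynomial (Fin n) R) S] (hsurj : Function.Surjective (algebraMap (MvPolynomial (Fin n) R) S))
    (q : Ideal S) [q.IsPrime] (p : Ideal (MvPolynomial (Fin n) R)) [p.IsPrime] [q.LiesOver p]
    (N : Type u) [AddCommGroup N] [Module S N] [Module (MvPolynomial (Fin n) R) N] [Module R N]
    [IsScalarTower (MvPolynomial (Fin n) R) S N] [IsScalarTower R (MvPolynomial (Fin n) R) N]
    [IsScalarTower R S N] [Module.Finite S N] (hflat : Module.Flat R (LocalizedModule q.primeCompl N)) :
    Module.FinitePresentation (Localization.AtPrime p) (LocalizedModule p.primeCompl N) := by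
  let P := MvPolynomial (Fin n) R
  haveI : Module.Finite P S := Module.Finite.of_surjective (Algebra.linearMap P S) hsurj
  haveI : Module.Finite P N := Module.Finite.trans S N
  haveI := isLocalizedModule_of_surjective hsurj p q (LocalizedModule.mkLinearMap q.primeCompl N)
  haveI := hflat
  exact fp_of_flat_etale n (R := R) (P := P) N p (Module.Flat.of_linearEquiv
    ((IsLocalizedModule.linearEquiv p.primeCompl (LocalizedModule.mkLinearMap p.primeCompl N)
      ((LocalizedModule.mkLinearMap q.primeCompl N).restrictScalars P)).restrictScalars R))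

variable [Algebra.FiniteType R S]

/-- **A finite module over an algebra of finite type which is flat at a prime is finitely presented
there.** -/
theorem fp_of_flatAt (N : Type u) [AddCommGroup N] [Module S N] [Module R N] [IsScalarTower R S N] [Module.Finite S N]
    (q : Ideal S) [q.IsPrime] (hflat : Module.Flat R (LocalizedModule q.primeCompl N)) :
    Module.FinitePresentation (Localization.AtPrime q) (LocalizedModule q.primeCompl N) := by
  obtain ⟨n, π, hπ⟩ := Algebra.FiniteType.iff_quotient_mvPolynomial''.1 ‹Algebra.FiniteType R S›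
  let P := MvPolynomial (Fin n) R
  letI : Algebra P S := π.toRingHom.toAlgebra
  haveI : IsScalarTower R P S := IsScalarTower.of_algebraMap_eq fun c => (π.commutes c).symm
  letI : Module P N := Module.compHom N π.toRingHom
  haveI : IsScalarTower P S N := IsScalarTower.of_compHom _ _ _
  haveI : IsScalarTower R P N := IsScalarTower.of_algebraMap_smul fun c x => by
    show π (algebraMap R P c) • x = c • x
    rw [π.commutes, algebraMap_smul]
  let p := q.under P
  haveI : q.LiesOver p := ⟨rfl⟩
  let Pp := Localization.AtPrime p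
  let Sq := Localization.AtPrime q
  haveI h := fp_atPrime_of_surjective (n := n) hπ q p N hflat
  letI : Algebra Pp Sq := Localization.AtPrime.algebraOfLiesOver p q
  haveI := isLocalizedModule_of_surjective (P := P) hπ p q (Algebra.linearMap S Sq)
  haveI := isLocalizedModule_of_surjective (P := P) hπ p q (LocalizedModule.mkLinearMap q.primeCompl N)
  haveI : Module.Finite P S := Module.Finite.of_surjective (Algebra.linearMap P S) hπ
  haveI : Module.Finite Pp Sq :=
    Module.Finite.of_isLocalizedModule p.primeCompl ((Algebra.linearMap S Sq).restrictScalars P)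
  let X := LocalizedModule q.primeCompl N
  letI : Module Pp X := Module.compHom X (algebraMap Pp Sq)
  haveI : IsScalarTower Pp Sq X := IsScalarTower.of_compHom _ _ _
  haveI : IsScalarTower P Pp X := IsScalarTower.of_algebraMap_smul fun s x => by
    show algebraMap Pp Sq (algebraMap P Pp s) • x = s • x
    rw [← IsScalarTower.algebraMap_apply P Pp Sq, algebraMap_smul]
  haveI : Module.FinitePresentation Pp X :=
    (fp_atPrime_iff p (N := N) (X := X) ((LocalizedModule.mkLinearMap q.primeCompl N).restrictScalars P)).1 h
  exact fp_of_restrict (A := Pp) (B := Sq) (M := X)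

/-- A local ring of a finite type algebra which is flat is a localization of a finitely presented
algebra. -/
theorem exists_fp_localization (q : Ideal S) [q.IsPrime] [Module.Flat R (Localization.AtPrime q)] :
    ∃ (S₀ : Type u) (_ : CommRing S₀) (_ : Algebra R S₀) (_ : Algebra S₀ (Localization.AtPrime q))
      (_ : IsScalarTower R S₀ (Localization.AtPrime q)) (M : Submonoid S₀),
      Algebra.FinitePresentation R S₀ ∧ IsLocalization M (Localization.AtPrime q) := by
  classical
  obtain ⟨n, π, hπ⟩ := Algebra.FiniteType.iff_quotient_mvPolynomial''.1 ‹Algebra.FiniteType R S›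
  let P := MvPolynomial (Fin n) R
  letI : Algebra P S := π.toRingHom.toAlgebra
  haveI : IsScalarTower R P S := IsScalarTower.of_algebraMap_eq fun c => (π.commutes c).symm
  let p := q.under P
  haveI : q.LiesOver p := ⟨rfl⟩
  let Pp := Localization.AtPrime p
  let Sq := Localization.AtPrime q
  have hflat : Module.Flat R (LocalizedModule q.primeCompl S) :=
    Module.Flat.of_linearEquiv ((IsLocalizedModule.linearEquiv q.primeCompl
      (LocalizedModule.mkLinearMap q.primeCompl S) (Algebra.linearMap S Sq)).restrictScalars R)
  haveI h := fp_atPrime_of_surjective (n := n) hπ q p S hflat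
  letI : Algebra Pp Sq := Localization.AtPrime.algebraOfLiesOver p q
  haveI := isLocalizedModule_of_surjective (P := P) hπ p q (Algebra.linearMap S Sq)
  haveI : Module.FinitePresentation Pp Sq :=
    (fp_atPrime_iff p (N := S) (X := Sq) ((Algebra.linearMap S Sq).restrictScalars P)).1 h
  have hunit : ∀ u : P, u ∉ p → IsUnit (algebraMap P Sq u) := fun u hu => by
    rw [IsScalarTower.algebraMap_apply P S Sq]
    exact IsLocalization.map_units Sq (⟨algebraMap P S u, hu⟩ : q.primeCompl)
  have hsurj : Function.Surjective (Algebra.linearMap Pp Sq) := fun y => by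
    obtain ⟨a, s, rfl⟩ := IsLocalization.exists_mk'_eq q.primeCompl y
    obtain ⟨a, ha⟩ := hπ a
    obtain ⟨t, ht⟩ := hπ s
    have htp : t ∉ p := fun h => s.2 (ht ▸ h)
    refine ⟨IsLocalization.mk' Pp a (⟨t, htp⟩ : p.primeCompl), IsLocalization.eq_mk'_iff_mul_eq.2 ?_⟩
    rw [← ha, ← ht]
    show algebraMap Pp Sq _ * algebraMap S Sq (algebraMap P S t) = algebraMap S Sq (algebraMap P S a)
    rw [← IsScalarTower.algebraMap_apply P S Sq, ← IsScalarTower.algebraMap_apply P S Sq,
      IsScalarTower.algebraMap_apply P Pp Sq t, IsScalarTower.algebraMap_apply P Pp Sq a, ← map_mul,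
      IsLocalization.mk'_spec]
  obtain ⟨G, hG⟩ := Module.FinitePresentation.fg_ker (Algebra.linearMap Pp Sq) hsurj
  choose a s hs using fun x : G => IsLocalization.exists_mk'_eq p.primeCompl (x : Pp)
  let J : Ideal P := Ideal.span (Set.range a)
  have hJ : ∀ x ∈ J, algebraMap P Sq x = 0 := fun x hx => by
    have hle : J ≤ RingHom.ker (algebraMap P Sq) := by
      rw [Ideal.span_le]
      rintro _ ⟨i, rfl⟩
      show algebraMap P Sq (a i) = 0
      have hi : algebraMap Pp Sq (i : Pp) = 0 := by
        have : (i : Pp) ∈ LinearMap.ker (Algebra.linearMap Pp Sq) := hG ▸ Submodule.subset_span i.2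
        exact this
      rw [IsScalarTower.algebraMap_apply P Pp Sq, ← IsLocalization.mk'_spec Pp (a i) (s i), hs i, map_mul, hi, zero_mul]
    exact hle hx
  let S₀ := P ⧸ J
  letI : Algebra S₀ Sq := (Ideal.Quotient.lift J (algebraMap P Sq) hJ).toAlgebra
  haveI : IsScalarTower P S₀ Sq := IsScalarTower.of_algebraMap_eq (R := P) (S := S₀) (A := Sq) fun _ => rfl
  haveI : IsScalarTower R S₀ Sq := IsScalarTower.of_algebraMap_eq fun c => by
    show algebraMap R Sq c = Ideal.Quotient.lift J (algebraMap P Sq) hJ (Ideal.Quotient.mk J (algebraMap R P c))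
    rw [Ideal.Quotient.lift_mk, IsScalarTower.algebraMap_apply R S Sq, IsScalarTower.algebraMap_apply R P S,
      ← IsScalarTower.algebraMap_apply P S Sq]
  let M : Submonoid S₀ := p.primeCompl.map (algebraMap P S₀)
  refine ⟨S₀, inferInstance, inferInstance, inferInstance, inferInstance, M,
    Algebra.FinitePresentation.quotient (Submodule.fg_span (Set.finite_range a)), (isLocalization_iff _ _).2 ⟨?_, ?_, ?_⟩⟩
  · rintro ⟨_, t, ht, rfl⟩
    show IsUnit (algebraMap S₀ Sq (algebraMap P S₀ t))
    rw [← IsScalarTower.algebraMap_apply]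
    exact hunit t ht
  · intro y
    obtain ⟨x, rfl⟩ := hsurj y
    obtain ⟨b, t, rfl⟩ := IsLocalization.exists_mk'_eq p.primeCompl x
    refine ⟨⟨algebraMap P S₀ b, ⟨algebraMap P S₀ t, t, t.2, rfl⟩⟩, ?_⟩
    show algebraMap Pp Sq _ * algebraMap S₀ Sq (algebraMap P S₀ t) = algebraMap S₀ Sq (algebraMap P S₀ b)
    rw [← IsScalarTower.algebraMap_apply, ← IsScalarTower.algebraMap_apply,
      IsScalarTower.algebraMap_apply P Pp Sq t, IsScalarTower.algebraMap_apply P Pp Sq b, ← map_mul,
      IsLocalization.mk'_spec]
  · intro x y hxy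
    obtain ⟨x, rfl⟩ := Ideal.Quotient.mk_surjective x
    obtain ⟨y, rfl⟩ := Ideal.Quotient.mk_surjective y
    have hxy0 : algebraMap P Sq (x - y) = 0 := by
      rw [map_sub, IsScalarTower.algebraMap_apply P S₀ Sq x, IsScalarTower.algebraMap_apply P S₀ Sq y, sub_eq_zero]
      exact hxy
    have hker : algebraMap P Pp (x - y) ∈ J.map (algebraMap P Pp) := by
      have : algebraMap P Pp (x - y) ∈ Submodule.span Pp (G : Set Pp) := by
        rw [hG]
        show algebraMap Pp Sq (algebraMap P Pp (x - y)) = 0
        rw [← IsScalarTower.algebraMap_apply]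
        exact hxy0
      refine (Submodule.span_le.2 fun g hg => ?_) this
      show g ∈ J.map (algebraMap P Pp)
      rw [show g = _ from (hs ⟨g, hg⟩).symm, IsLocalization.mk'_mem_map_algebraMap_iff]
      exact ⟨1, Submonoid.one_mem _, by rw [one_mul]; exact Ideal.subset_span ⟨⟨g, hg⟩, rfl⟩⟩
    obtain ⟨u, hu, hmem⟩ := (IsLocalization.algebraMap_mem_map_algebraMap_iff p.primeCompl Pp J (x - y)).1 hker
    refine ⟨⟨algebraMap P S₀ u, u, hu, rfl⟩, ?_⟩
    show Ideal.Quotient.mk J u * Ideal.Quotient.mk J x = Ideal.Quotient.mk J u * Ideal.Quotient.mk J y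
    rw [← map_mul, ← map_mul, Ideal.Quotient.eq, ← mul_sub]
    exact hmem

end GrothLib.RG6
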