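import Mathlib
import Groth.Prelude.Def_Hensel
import Groth.Agent.Lib.WeakEtale.OverField
import Groth.Agent.S0427
import Groth.Agent.S0537
import Groth.Agent.S0539
import Groth.Agent.S0736
import Groth.Agent.S1996
import Groth.Agent.S7127
import Groth.Agent.S12237

/-!
# Weakly étale local homomorphisms and strict henselisations
-/

set_option autoImplicit false
set_option linter.style.haveILetI false
set_option linter.unusedSectionVars false

universe u

open TensorProduct IsLocalRing

namespace GrothLib.RG6

theorem weaklyEtale_sh (R S : Type u) [CommRing R] [IsLocalRing R] [CommRing S] [IsLocalRing S] [Algebra R S]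
    [IsLocalHom (algebraMap R S)] [Hensel.IsStrictHenselization R S] : Algebra.WeaklyEtale R S :=
  Groth.Agent.S0736.result R S (Groth.Agent.S12237.result R S)

theorem isSeparable_residue (A C : Type u) [CommRing A] [IsLocalRing A] [CommRing C] [IsLocalRing C] [Algebra A C]
    [IsLocalHom (algebraMap A C)] [Algebra.WeaklyEtale A C] :
    Algebra.IsSeparable (ResidueField A) (ResidueField C) := by
  refine ⟨fun x => ?_⟩
  obtain ⟨c, rfl⟩ := IsLocalRing.residue_surjective x
  let π : ResidueField A ⊗[A] C →ₐ[ResidueField A] ResidueField C :=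
    Algebra.TensorProduct.lift (Algebra.ofId (ResidueField A) (ResidueField C))
      (IsScalarTower.toAlgHom A C (ResidueField C)) fun _ _ => Commute.all _ _
  have h := (GrothLib.WeakEtale.isSepElem_of_weaklyEtale ((1 : ResidueField A) ⊗ₜ[A] c)).map π
  obtain ⟨f, hf, hc⟩ := h
  have he : π ((1 : ResidueField A) ⊗ₜ[A] c) = residue C c := by
    show Algebra.TensorProduct.lift _ _ _ ((1 : ResidueField A) ⊗ₜ[A] c) = _
    rw [Algebra.TensorProduct.lift_tmul, map_one, one_mul]
    rfl
  rw [he] at hc
  exact hf.of_dvd (minpoly.dvd _ _ hc)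

/-- A weakly étale local map does not change strict henselisations. -/
theorem isStrictHenselization_of_weaklyEtale (A B C : Type u) [CommRing A] [IsLocalRing A] [CommRing B]
    [IsLocalRing B] [CommRing C] [IsLocalRing C] [Algebra A B] [Algebra B C] [Algebra A C] [IsScalarTower A B C]
    [IsLocalHom (algebraMap B C)] [IsLocalHom (algebraMap A C)] [Hensel.IsStrictHenselization B C]
    [Algebra.WeaklyEtale A B] : Hensel.IsStrictHenselization A C := by
  haveI := weaklyEtale_sh B C
  haveI : Algebra.WeaklyEtale A C := Algebra.WeaklyEtale.trans A B C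
  haveI hC : HenselianLocalRing C := Hensel.IsStrictHenselization.henselian (R := B) (S := C)
  haveI hBC : IsSepClosure (ResidueField B) (ResidueField C) := Hensel.IsStrictHenselization.isSepClosure
  haveI := isSeparable_residue A C
  haveI : IsSepClosed (ResidueField C) := hBC.sep_closed
  obtain ⟨A', _, _, _, _, _⟩ := Groth.Agent.S0537.result A
  haveI hA' : HenselianLocalRing A' := Hensel.IsStrictHenselization.henselian (R := A) (S := A')
  haveI hAA' : IsSepClosure (ResidueField A) (ResidueField A') := Hensel.IsStrictHenselization.isSepClosure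
  haveI : IsSepClosed (ResidueField A') := hAA'.sep_closed
  let τ : ResidueField A' →ₐ[ResidueField A] ResidueField C := IsSepClosed.lift
  obtain ⟨g, ⟨hg, hgres⟩, -⟩ := Hensel.IsStrictHenselization.universal (R := A) (S := A') C (algebraMap A C) τ.toRingHom
    (by ext a; exact τ.commutes _)
  haveI : IsLocalHom g := ⟨fun x hx => by
    by_contra h
    have h1 : residue A' x = 0 := (residue_eq_zero_iff x).2 h
    have h2 : residue C (g x) = 0 := by rw [hgres, h1, map_zero]
    exact (residue_eq_zero_iff (g x)).1 h2 hx⟩
  letI : Algebra A' C := g.toAlgebra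
  haveI : IsLocalHom (algebraMap A' C) := ‹IsLocalHom g›
  haveI : IsScalarTower A A' C := IsScalarTower.of_algebraMap_eq fun a => (RingHom.congr_fun hg a).symm
  haveI := weaklyEtale_sh A A'
  haveI : Algebra.WeaklyEtale A' C := Groth.Agent.S7127.result A A' C
  have hbij : Function.Bijective (algebraMap A' C) := Groth.Agent.S0427.result
  let e : A' ≃+* C := RingEquiv.ofBijective g hbij
  refine ⟨hC, ⟨inferInstance, inferInstance⟩, fun T _ _ f _ σ hσ => ?_⟩
  have hcomp : (σ.comp τ.toRingHom).comp (ResidueField.map (algebraMap A A')) = ResidueField.map f := by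
    rw [← hσ]
    ext a
    exact congrArg σ (τ.commutes _)
  obtain ⟨k, ⟨hk, hkres⟩, huniq⟩ := Hensel.IsStrictHenselization.universal (R := A) (S := A') T f (σ.comp τ.toRingHom) hcomp
  refine ⟨k.comp e.symm.toRingHom, ⟨?_, fun x => ?_⟩, fun k' ⟨hk', hk'res⟩ => ?_⟩
  · rw [← hk, ← hg, RingHom.comp_assoc]
    ext a
    exact congrArg k (e.symm_apply_apply _)
  · obtain ⟨y, rfl⟩ := e.surjective x
    show residue T (k (e.symm (e y))) = σ (residue C (g y))
    rw [e.symm_apply_apply, hkres, hgres]
    rfl
  · have := huniq (k'.comp g) ⟨by rw [RingHom.comp_assoc, hg, hk'], fun y => by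
      show residue T (k' (g y)) = σ (τ (residue A' y))
      rw [hk'res, hgres]
      rfl⟩
    ext x
    obtain ⟨y, rfl⟩ := e.surjective x
    show k' (g y) = k (e.symm (e y))
    rw [e.symm_apply_apply]
    exact RingHom.congr_fun this y

end GrothLib.RG6
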