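import Mathlib
import Groth.Prelude.Def_FlatCA
import Groth.Agent.S1233
import Groth.Agent.Lib.IndEt.Algebra
import Groth.Agent.Lib.IndEt.Flat
import Groth.Agent.Lib.AbsFlat.Basic

/-!
# Weakly associated closed point along an ind-étale local homomorphism
-/

set_option autoImplicit false
set_option backward.isDefEq.respectTransparency false
set_option linter.style.haveILetI false

universe u

open IsLocalRing TensorProduct

namespace GrothLib.RG6

theorem maximalIdeal_mem_minimalPrimes_iff {R : Type u} [CommRing R] [IsLocalRing R] (I : Ideal R) :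
    maximalIdeal R ∈ I.minimalPrimes ↔ I ≤ maximalIdeal R ∧ ∀ a ∈ maximalIdeal R, a ∈ I.radical := by
  constructor
  · intro h
    refine ⟨h.1.2, fun a ha => ?_⟩
    rw [Ideal.radical_eq_sInf, Ideal.mem_sInf]
    intro q hq
    haveI := hq.2
    exact h.2 ⟨hq.2, hq.1⟩ (le_maximalIdeal hq.2.ne_top) ha
  · exact fun h => ⟨⟨inferInstance, h.1⟩, fun q hq _ a ha => hq.1.radical_le_iff.2 hq.2 (h.2 a ha)⟩

theorem mem_span_annihilator {R M : Type u} [CommRing R] [AddCommGroup M] [Module R M] (m : M) (a : R) :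
    a ∈ (Submodule.span R {m}).annihilator ↔ a • m = 0 :=
  Submodule.mem_annihilator_span_singleton m a

/-- An element dying in a flat algebra is killed outside every prime below. -/
theorem exists_notMem_of_one_tmul_eq_zero {V B X : Type u} [CommRing V] [CommRing B] [Algebra V B]
    [Module.Flat V B] [AddCommGroup X] [Module V X] (Q : Ideal B) [Q.IsPrime] {z : X}
    (hz : (1 : B) ⊗ₜ[V] z = 0) : ∃ t : V, t ∉ Q.comap (algebraMap V B) ∧ t • z = 0 := by
  let I : Ideal V := LinearMap.ker (LinearMap.toSpanSingleton V X z)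
  by_contra! h
  have hI : I ≤ Q.comap (algebraMap V B) := fun t ht => by
    by_contra h'
    exact h t h' ht
  let f : V ⧸ I →ₗ[V] X := I.liftQ (LinearMap.toSpanSingleton V X z) le_rfl
  have hf : Function.Injective f := by
    rw [← LinearMap.ker_eq_bot]
    exact Submodule.ker_liftQ_eq_bot' I _ rfl
  have h1 := Module.Flat.lTensor_preserves_injective_linearMap (M := B) f hf
  have h2 : (1 : B) ⊗ₜ[V] (Ideal.Quotient.mk I 1) = 0 := by
    refine h1 ?_
    rw [LinearMap.lTensor_tmul, map_zero]
    show (1 : B) ⊗ₜ[V] f (Submodule.Quotient.mk 1) = 0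
    rw [Submodule.liftQ_apply, LinearMap.toSpanSingleton_apply, one_smul]
    exact hz
  rw [← (TensorProduct.tensorQuotEquivQuotSMul B I).map_eq_zero_iff,
    TensorProduct.tensorQuotEquivQuotSMul_tmul_mk, one_smul, Submodule.Quotient.mk_eq_zero,
    Ideal.smul_top_eq_map, Submodule.restrictScalars_mem] at h2
  exact ‹Q.IsPrime›.one_notMem (Ideal.map_le_iff_le_comap.2 hI h2)

variable {R B : Type u} [CommRing R] [IsLocalRing R] [CommRing B] [IsLocalRing B] [Algebra R B]
  [IsLocalHom (algebraMap R B)]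

/-- **Weakly associated closed points along ind-étale local maps.** -/
theorem weakAss_maximal_iff (hind : EtPBC.IsIndEtale R B)
    (hmax : (maximalIdeal R).map (algebraMap R B) = maximalIdeal B)
    (M : Type u) [AddCommGroup M] [Module R M] :
    maximalIdeal R ∈ FlatCA.weakAss R M ↔ maximalIdeal B ∈ FlatCA.weakAss B (B ⊗[R] M) := by
  haveI : Module.Flat R B := GrothLib.IndEt.flat hind
  constructor
  · rintro ⟨m, hm⟩
    rw [maximalIdeal_mem_minimalPrimes_iff] at hm
    refine ⟨(1 : B) ⊗ₜ[R] m, ?_⟩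
    rw [maximalIdeal_mem_minimalPrimes_iff]
    refine ⟨le_maximalIdeal fun h => ?_, ?_⟩
    · have h0 : (1 : B) ⊗ₜ[R] m = 0 := by
        have := (mem_span_annihilator ((1 : B) ⊗ₜ[R] m) (1 : B)).1 (h ▸ Submodule.mem_top)
        rwa [one_smul] at this
      obtain ⟨t, ht, htm⟩ := exists_notMem_of_one_tmul_eq_zero (maximalIdeal B) h0
      refine ht ?_
      rw [Ideal.mem_comap]
      exact map_nonunit (algebraMap R B) t (hm.1 ((mem_span_annihilator m t).2 htm))
    · intro a ha
      rw [← hmax] at ha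
      refine (Ideal.map_le_iff_le_comap.2 fun r hr => ?_) ha
      obtain ⟨n, hn⟩ := hm.2 r hr
      refine ⟨n, (mem_span_annihilator _ _).2 ?_⟩
      rw [← map_pow, algebraMap_smul, ← TensorProduct.tmul_smul, (mem_span_annihilator m _).1 hn,
        TensorProduct.tmul_zero]
  · rintro ⟨x, hx⟩
    rw [maximalIdeal_mem_minimalPrimes_iff] at hx
    obtain ⟨S, hS⟩ := TensorProduct.exists_finset x
    classical
    obtain ⟨V, _, _, _, b, y, hy⟩ := GrothLib.IndEt.exists_etale_lift hind
      (ι := Fin S.card) (fun i => ((S.equivFin.symm i).1).1)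
    letI : Algebra V B := b.toAlgebra
    haveI : IsScalarTower R V B := IsScalarTower.of_algebraMap_eq fun r => (b.commutes r).symm
    haveI : Algebra.WeaklyEtale R V := inferInstance
    haveI : Module.Flat V B := Groth.Agent.AbsFlat.flat_of_flat_lmul (Algebra.WeaklyEtale.flat_lmul' R V) B
    let x' : V ⊗[R] M := ∑ i, y i ⊗ₜ[R] ((S.equivFin.symm i).1).2
    let e : B ⊗[V] (V ⊗[R] M) ≃ₗ[B] B ⊗[R] M := AlgebraTensorModule.cancelBaseChange R V B B M
    have he : ∀ v : V, e ((1 : B) ⊗ₜ[V] (v • x')) = b v • x := fun v => by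
      rw [TensorProduct.tmul_smul, ← algebraMap_smul B v, map_smul]
      congr 1
      rw [hS, ← Finset.sum_coe_sort, ← Equiv.sum_comp S.equivFin.symm, TensorProduct.tmul_sum, map_sum]
      refine Finset.sum_congr rfl fun i _ => ?_
      rw [AlgebraTensorModule.cancelBaseChange_tmul, ← hy i, Algebra.smul_def, mul_one]
      rfl
    let u : Ideal V := (maximalIdeal B).comap (algebraMap V B)
    haveI : u.LiesOver (maximalIdeal R) := ⟨by
      rw [Ideal.under_def, Ideal.comap_comap, ← IsScalarTower.algebraMap_eq]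
      have hl : (maximalIdeal B).comap (algebraMap R B) = maximalIdeal R :=
        ((IsLocalRing.local_hom_TFAE (algebraMap R B)).out 0 4).1 ‹_›
      exact hl.symm⟩
    refine (Groth.Agent.S1233.result M (maximalIdeal R) u).1 ⟨x', ?_⟩
    refine ⟨⟨inferInstance, fun v hv => ?_⟩, fun q ⟨hq, hqI⟩ _ a ha => ?_⟩
    · rw [mem_span_annihilator] at hv
      have h0 : b v • x = 0 := by rw [← he, hv, TensorProduct.tmul_zero, map_zero]
      exact hx.1 ((mem_span_annihilator x _).2 h0)
    · obtain ⟨n, hn⟩ := hx.2 _ ha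
      rw [mem_span_annihilator] at hn
      have h0 : (1 : B) ⊗ₜ[V] (a ^ n • x') = 0 := e.injective (by
        rw [he, map_zero, map_pow]; exact hn)
      obtain ⟨t, ht, htx⟩ := exists_notMem_of_one_tmul_eq_zero (maximalIdeal B) h0
      rw [← mul_smul] at htx
      rcases hq.mem_or_mem (hqI ((mem_span_annihilator x' _).2 htx)) with h | h
      · exact absurd (‹q ≤ _› h) ht
      · exact hq.mem_of_pow_mem n h

end GrothLib.RG6
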